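import Groth.Agent.MorLib.IdealFG2
import Groth.Agent.H23.RedSub
import Groth.Agent.S4613
import Mathlib.AlgebraicGeometry.Morphisms.Immersion
import Mathlib.AlgebraicGeometry.Properties
import Mathlib.Topology.Spectral.ConstructibleTopology
import Mathlib.RingTheory.Valuation.LocalSubring

/-!
# Auxiliary facts for refinements of subtrusive morphisms
-/

universe u

set_option autoImplicit false

open CategoryTheory CategoryTheory.Limits AlgebraicGeometry IsLocalRing TopologicalSpace Topology
open Groth.Agent.MorLib.IdealFG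

namespace Groth.Agent.EtDescX

variable {X Y P : Scheme.{u}}

/-- An immersion of a quasi-compact scheme is a closed immersion into a quasi-compact open. -/
theorem exists_compact_open_closedImmersion {U T : Scheme.{u}} [CompactSpace U] (i : U ⟶ T) [IsImmersion i] :
    ∃ (O : T.Opens) (j : U ⟶ O.toScheme), IsCompact (O : Set T) ∧ IsClosedImmersion j ∧ j ≫ O.ι = i := by
  choose V hV huV hVO using fun u : U => exists_isAffineOpen_mem_and_subset (x := i u) (U := i.coborderRange)
    (subset_coborder ⟨u, rfl⟩)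
  obtain ⟨t, ht⟩ := isCompact_univ.elim_finite_subcover (fun u => i ⁻¹' (V u : Set T))
    (fun u => (V u).2.preimage i.continuous) fun u _ => Set.mem_iUnion.2 ⟨u, huV u⟩
  let O : T.Opens := ⨆ u ∈ t, V u
  have hO : IsCompact (O : Set T) := by
    rw [show (O : Set T) = ⋃ u ∈ t, (V u : Set T) by simp [O]]
    exact t.isCompact_biUnion fun u _ => (hV u).isCompact
  have hle : O ≤ i.coborderRange := iSup₂_le fun u _ => hVO u
  have hr : Set.range i ⊆ Set.range O.ι := by
    rintro _ ⟨u, rfl⟩
    obtain ⟨w, hw, hu⟩ := Set.mem_iUnion₂.1 (ht (Set.mem_univ u))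
    rw [Scheme.Opens.range_ι, show (O : Set T) = ⋃ u ∈ t, (V u : Set T) by simp [O]]
    exact Set.mem_iUnion₂.2 ⟨w, hw, hu⟩
  let j := IsOpenImmersion.lift O.ι i hr
  have hj : j ≫ O.ι = i := IsOpenImmersion.lift_fac _ _ _
  have : IsImmersion (j ≫ O.ι) := by rw [hj]; infer_instance
  have : IsImmersion j := IsImmersion.of_comp j O.ι
  refine ⟨O, j, hO, IsClosedImmersion.of_isPreimmersion j ?_, hj⟩
  have e : Set.range j = O.ι ⁻¹' Set.range i := by
    rw [← hj, Scheme.Hom.comp_base, TopCat.coe_comp, Set.range_comp,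
      Set.preimage_image_eq _ O.ι.isOpenEmbedding.injective]
  have hC : IsClosed (Set.range i.liftCoborder) := i.liftCoborder.isClosedEmbedding.isClosed_range
  obtain ⟨C, hC, hCe⟩ : ∃ C : Set T, IsClosed C ∧ C ∩ i.coborderRange = Set.range i := by
    refine ⟨closure (Set.range i), isClosed_closure, ?_⟩
    exact closure_inter_coborder
  have hin : O.ι ⁻¹' C ⊆ O.ι ⁻¹' (i.coborderRange : Set T) := fun x _ => hle (show O.ι x ∈ O from x.2)
  rw [e, ← hCe, Set.preimage_inter, Set.inter_eq_left.2 hin]
  exact hC.preimage O.ι.continuous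

/-- A vanishing ideal restricted to an open subscheme is radical. -/
theorem comap_vanishingIdeal_radical (Z : Closeds P) {W : Scheme.{u}} (j : W ⟶ P) [IsOpenImmersion j] :
    ((Scheme.IdealSheafData.vanishingIdeal Z).comap j).radical = (Scheme.IdealSheafData.vanishingIdeal Z).comap j := by
  refine le_antisymm (fun U => ?_) (Scheme.IdealSheafData.le_radical _)
  have hrad : ∀ V : P.affineOpens, ((Scheme.IdealSheafData.vanishingIdeal Z).ideal V).IsRadical := fun V => by
    have h : (Scheme.IdealSheafData.vanishingIdeal Z).radical = Scheme.IdealSheafData.vanishingIdeal Z := by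
      rw [← Scheme.IdealSheafData.vanishingIdeal_support]
      congr 1
    rw [← h]
    exact Ideal.radical_isRadical _
  show (((Scheme.IdealSheafData.vanishingIdeal Z).comap j).ideal U).radical ≤ _
  rw [Scheme.IdealSheafData.ideal_comap_of_isOpenImmersion]
  exact (Ideal.IsRadical.comap _ (hrad _)).radical.le

/-- An ideal sheaf on an open subscheme whose zero locus contains a closed subset is contained in its
vanishing ideal. -/
theorem le_comap_vanishingIdeal (Z : Closeds P) {W : Scheme.{u}} (j : W ⟶ P) [IsOpenImmersion j]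
    (K : W.IdealSheafData) (h : j ⁻¹' (Z : Set P) ⊆ K.support) :
    K ≤ (Scheme.IdealSheafData.vanishingIdeal Z).comap j := by
  rw [← comap_vanishingIdeal_radical, ← Scheme.IdealSheafData.vanishingIdeal_support,
    ← Scheme.IdealSheafData.le_support_iff_le_vanishingIdeal, Scheme.IdealSheafData.support_comap]
  intro x hx
  refine h ?_
  have := Groth.Agent.H23.RedSub.range_vanishingIdeal Z
  rw [Scheme.IdealSheafData.range_subschemeι] at this
  exact this.subset hx

/-- The finitely generated subideals of a vanishing ideal reach any finitely generated ideal sheaf on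
a quasi-compact open that vanishes on the closed set. -/
theorem exists_fg_sub_ge [CompactSpace P] [QuasiSeparatedSpace P] (I : P.IdealSheafData) (W : P.Opens)
    (hW : IsCompact (W : Set P)) (L : W.toScheme.IdealSheafData) (hL : IsFG L) (h : L ≤ I.comap W.ι) :
    ∃ K : Sub I, L ≤ K.1.comap W.ι := by
  classical
  have : CompactSpace W.toScheme := isCompact_iff_compactSpace.1 hW
  choose V hV hxV _hsub using fun x : W.toScheme => exists_isAffineOpen_mem_and_subset (x := x) (U := ⊤) trivial
  obtain ⟨t, ht⟩ := isCompact_univ.elim_finite_subcover (fun x => (V x : Set W.toScheme))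
    (fun x => (V x).2) fun x _ => Set.mem_iUnion.2 ⟨x, hxV x⟩
  have hk : ∀ x : W.toScheme, ∃ K : Sub I, L.ideal ⟨V x, hV x⟩ ≤ (K.1.comap W.ι).ideal ⟨V x, hV x⟩ := fun x => by
    have h' := h ⟨V x, hV x⟩
    rw [Scheme.IdealSheafData.ideal_comap_of_isOpenImmersion] at h'
    obtain ⟨K, hKI, hK, hle⟩ := exists_fg_le I ⟨W.ι ''ᵁ V x, (hV x).image_of_isOpenImmersion _⟩
      ((L.ideal ⟨V x, hV x⟩).map (W.ι.appIso (V x)).inv.hom) (Ideal.FG.map (hL _) _)
      (Ideal.map_le_iff_le_comap.2 h')
    exact ⟨⟨K, hKI, hK⟩, by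
      rw [Scheme.IdealSheafData.ideal_comap_of_isOpenImmersion]
      exact Ideal.map_le_iff_le_comap.1 hle⟩
  choose K hK using hk
  refine ⟨⟨t.sup fun x => (K x).1, Finset.sup_le fun x _ => (K x).2.1,
    Finset.sup_induction isFG_bot (fun _ ha _ hb => isFG_sup ha hb) fun x _ => (K x).2.2⟩, ?_⟩
  refine Scheme.IdealSheafData.le_of_iSup_eq_top (fun x : t => ⟨V x.1, hV x.1⟩) (top_unique fun x _ => ?_)
    fun x => (hK x.1).trans (Scheme.IdealSheafData.comap_mono W.ι
      (Finset.le_sup (f := fun y => (K y).1) x.2) _)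
  obtain ⟨y, hy, hxy⟩ := Set.mem_iUnion₂.1 (ht (Set.mem_univ x))
  exact Opens.mem_iSup.2 ⟨⟨y, hy⟩, hxy⟩

/-- The finitely generated subideals of an ideal sheaf have zero loci shrinking to its zero locus. -/
theorem exists_fg_sub_support_subset [CompactSpace P] [QuasiSeparatedSpace P] (I : P.IdealSheafData)
    (W : Set P) (hWo : IsOpen W) (h : (I.support : Set P) ⊆ W) :
    ∃ K : Sub I, (K.1.support : Set P) ⊆ W := by
  classical
  have hx : ∀ x : ↥(Wᶜ : Set P), ∃ K : Sub I, x.1 ∉ K.1.support := fun x => by
    obtain ⟨U, hU, hxU, -⟩ := exists_isAffineOpen_mem_and_subset (x := x.1) (U := ⊤) trivial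
    have hx : x.1 ∉ (I.support : Set P) := fun hx => x.2 (h hx)
    rw [SetLike.mem_coe, Scheme.IdealSheafData.mem_support_iff_of_mem (U := ⟨U, hU⟩) hxU,
      Scheme.mem_zeroLocus_iff] at hx
    push Not at hx
    obtain ⟨r, hr, hxr⟩ := hx
    obtain ⟨K, hK⟩ := exists_sub_mem I ⟨U, hU⟩ hr
    refine ⟨K, ?_⟩
    rw [Scheme.IdealSheafData.mem_support_iff_of_mem (U := ⟨U, hU⟩) hxU, Scheme.mem_zeroLocus_iff]
    exact fun hall => hall r hK hxr
  choose K hK using hx
  obtain ⟨t, ht⟩ := hWo.isClosed_compl.isCompact.elim_finite_subcover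
    (fun x : ↥(Wᶜ : Set P) => ((K x).1.support : Set P)ᶜ)
    (fun x => (K x).1.support.2.isOpen_compl) fun x hx => Set.mem_iUnion.2 ⟨⟨x, hx⟩, hK ⟨x, hx⟩⟩
  refine ⟨⟨t.sup fun x => (K x).1, Finset.sup_le fun x _ => (K x).2.1,
    Finset.sup_induction isFG_bot (fun _ ha _ hb => isFG_sup ha hb) fun x _ => (K x).2.2⟩, fun z hz => ?_⟩
  by_contra hzW
  obtain ⟨x, hx, hzx⟩ := Set.mem_iUnion₂.1 (ht hzW)
  exact hzx (Scheme.IdealSheafData.support_antitone (Finset.le_sup (f := fun y => (K y).1) hx) hz)

/-- A closed immersion locally of finite presentation has a finitely generated ideal sheaf. -/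
theorem isFG_ker (j : X ⟶ Y) [IsClosedImmersion j] [LocallyOfFinitePresentation j] : IsFG j.ker := fun U => by
  rw [Scheme.Hom.ker_apply]
  exact (Groth.Agent.S4613.result j).1 inferInstance U

/-- Specialisations of a field valued point are centres of valuation rings. -/
theorem exists_valuationSubring_centre {K : Type u} [Field K] (s : Spec (CommRingCat.of K) ⟶ P) {z : P}
    (h : s (closedPoint K) ⤳ z) :
    ∃ (V : ValuationSubring K) (g : Spec (CommRingCat.of V) ⟶ P),
      Spec.map (CommRingCat.ofHom V.subtype) ≫ g = s ∧ g (closedPoint V) = z := by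
  let b : P.presheaf.stalk z ⟶ CommRingCat.of K :=
    P.presheaf.stalkSpecializes h ≫ Scheme.stalkClosedPointTo s
  obtain ⟨V, hb, hloc⟩ := IsLocalRing.exists_factor_valuationRing b.hom
  let b' : P.presheaf.stalk z ⟶ CommRingCat.of V := CommRingCat.ofHom (b.hom.codRestrict V.toSubring hb)
  have hb' : b' ≫ CommRingCat.ofHom V.subtype = b := rfl
  refine ⟨V, Spec.map b' ≫ P.fromSpecStalk z, ?_, ?_⟩
  · rw [← Category.assoc, ← Spec.map_comp, hb']
    simp only [b, Spec.map_comp, Category.assoc, Scheme.SpecMap_stalkSpecializes_fromSpecStalk]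
    exact Scheme.Spec_stalkClosedPointTo_fromSpecStalk (f := s)
  · rw [Scheme.Hom.comp_apply]
    have e : (Spec.map b') (closedPoint V) = closedPoint (P.presheaf.stalk z) :=
      PrimeSpectrum.ext (IsLocalRing.local_hom_TFAE b'.hom |>.out 0 4 |>.1 hloc)
    rw [e, Scheme.fromSpecStalk_closedPoint]

/-- A constructible set is open in the constructible topology. -/
theorem isOpen_constructibleTopology_of_isConstructible {α : Type*} [TopologicalSpace α] [CompactSpace α]
    [QuasiSeparatedSpace α] {s : Set α} (hs : IsConstructible s) :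
    IsOpen[constructibleTopology α] s ∧ IsOpen[constructibleTopology α] sᶜ := by
  induction hs using IsConstructible.empty_union_induction with
  | open_retrocompact U hU hUc =>
    have hc : IsCompact U := by simpa using hUc isCompact_univ isOpen_univ
    exact ⟨hc.isOpen_constructibleTopology_of_isOpen hU,
      IsCompact.isOpen_constructibleTopology_of_isClosed (by rwa [compl_compl]) hU.isClosed_compl⟩
  | union s hs t ht hs' ht' =>
    refine ⟨?_, ?_⟩
    · letI := constructibleTopology α
      exact hs'.1.union ht'.1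
    · letI := constructibleTopology α
      rw [Set.compl_union]
      exact hs'.2.inter ht'.2
  | compl s hs hs' => exact ⟨hs'.2, by rw [compl_compl]; exact hs'.1⟩

end Groth.Agent.EtDescX
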