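import Groth.Agent.EtDescX.Local
import Groth.Agent.DescLib.Iso

/-!
# Descent data for one-member families and base change
-/

universe u

open CategoryTheory CategoryTheory.Limits AlgebraicGeometry Desc

namespace Groth.Agent.EtDescX

set_option autoImplicit false
set_option backward.isDefEq.respectTransparency false
set_option backward.isDefEq.respectTransparency.types false

variable {X S V : Scheme.{u}} {g : X ⟶ S} (ν : V ⟶ S)

/-- The pullback of a one-member family datum is the base change of the datum. -/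
theorem nonempty_toSchDD_pull_iso (D : SchDDFam (fun _ : PUnit.{1} => g)) :
    Nonempty ((SchDDFam.toSchDD (pullback.snd g ν)).obj
      ((pullDDFam (f := fun _ : PUnit.{1} => g) (f' := fun _ : PUnit.{1} => pullback.snd g ν)
        (α := id) (p := ν) (p' := fun _ => pullback.fst g ν) (fun _ => pullback.condition)).obj D) ≅
      baseDD ν ((SchDDFam.toSchDD g).obj D)) := by
  refine ⟨⟨⟨𝟙 _, fun T x₀ x₁ h v w hw => ?_⟩, ⟨𝟙 _, fun T x₀ x₁ h v w hw => ?_⟩, ?_, ?_⟩⟩
  · obtain rfl : w = v := Subtype.ext (hw.trans (Category.comp_id _))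
    exact (Category.comp_id _).symm
  · obtain rfl : w = v := Subtype.ext (hw.trans (Category.comp_id _))
    exact (Category.comp_id _).symm
  · exact Desc.SchDD.hom_ext (Category.id_comp _)
  · exact Desc.SchDD.hom_ext (Category.id_comp _)

/-- Effectivity for one-member families. -/
theorem nonempty_iso_fam_iff (U : Over S) (D : SchDDFam (fun _ : PUnit.{1} => g)) :
    Nonempty ((toDDFam (fun _ : PUnit.{1} => g)).obj U ≅ D) ↔
      Nonempty ((toDD g).obj U ≅ (SchDDFam.toSchDD g).obj D) :=
  ⟨fun ⟨e⟩ => ⟨(SchDDFam.toSchDD g).mapIso e⟩, fun ⟨e⟩ => ⟨(SchDDFam.ofSchDD g).mapIso e⟩⟩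

/-- Effectivity over the base change, in terms of the base change of the datum. -/
theorem nonempty_iso_pull_iff (U : Over V) (D : SchDDFam (fun _ : PUnit.{1} => g)) :
    Nonempty ((toDDFam (fun _ : PUnit.{1} => pullback.snd g ν)).obj U ≅
      (pullDDFam (f := fun _ : PUnit.{1} => g) (f' := fun _ : PUnit.{1} => pullback.snd g ν)
        (α := id) (p := ν) (p' := fun _ => pullback.fst g ν) (fun _ => pullback.condition)).obj D) ↔
      Nonempty ((toDD (pullback.snd g ν)).obj U ≅ baseDD ν ((SchDDFam.toSchDD g).obj D)) := by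
  obtain ⟨c⟩ := nonempty_toSchDD_pull_iso ν D
  rw [nonempty_iso_fam_iff]
  exact ⟨fun ⟨e⟩ => ⟨e ≪≫ c⟩, fun ⟨e⟩ => ⟨e ≪≫ c.symm⟩⟩

/-- The base change of a canonical datum is canonical. -/
theorem nonempty_toDDFam_base (U : Over S) :
    Nonempty ((toDDFam (fun _ : PUnit.{1} => pullback.snd g ν)).obj (Over.mk (pullback.fst ν U.hom)) ≅
      (pullDDFam (f := fun _ : PUnit.{1} => g) (f' := fun _ : PUnit.{1} => pullback.snd g ν)
        (α := id) (p := ν) (p' := fun _ => pullback.fst g ν) (fun _ => pullback.condition)).obj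
          ((toDDFam (fun _ : PUnit.{1} => g)).obj U)) := by
  let f' : PUnit.{1} → (pullback g ν ⟶ V) := fun _ => pullback.snd g ν
  let A := (toDDFam f').obj (Over.mk (pullback.fst ν U.hom))
  let B := (pullDDFam (f := fun _ : PUnit.{1} => g) (f' := f')
        (α := id) (p := ν) (p' := fun _ => pullback.fst g ν) (fun _ => pullback.condition)).obj
          ((toDDFam (fun _ : PUnit.{1} => g)).obj U)
  let toB : ∀ (j : PUnit.{1}) ⦃T : Scheme.{u}⦄ (x : T ⟶ pullback g ν), Lifts (A.obj j) x → Lifts (B.obj j) x :=
    fun j T x v => ⟨pullback.lift (pullback.lift (x ≫ pullback.fst g ν) (v.1 ≫ pullback.snd (f' j) (pullback.fst ν U.hom) ≫ pullback.snd ν U.hom) (by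
      have e : v.1 ≫ pullback.fst (f' j) (pullback.fst ν U.hom) = x := v.2
      have c : v.1 ≫ pullback.fst (f' j) (pullback.fst ν U.hom) ≫ f' j =
          v.1 ≫ pullback.snd (f' j) (pullback.fst ν U.hom) ≫ pullback.fst ν U.hom := congrArg (v.1 ≫ ·) pullback.condition
      rw [reassoc_of% e] at c
      rw [Category.assoc, Category.assoc, Category.assoc, ← pullback.condition (f := ν) (g := U.hom), pullback.condition (f := g) (g := ν)]
      exact (reassoc_of% c) ν)) x (pullback.lift_fst _ _ _), pullback.lift_snd _ _ _⟩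
  let toA : ∀ (j : PUnit.{1}) ⦃T : Scheme.{u}⦄ (x : T ⟶ pullback g ν), Lifts (B.obj j) x → Lifts (A.obj j) x :=
    fun j T x w => ⟨pullback.lift x (pullback.lift (x ≫ pullback.snd g ν)
        (w.1 ≫ pullback.fst (pullback.fst g U.hom) (pullback.fst g ν) ≫ pullback.snd g U.hom) (by
      have e : w.1 ≫ pullback.snd (pullback.fst g U.hom) (pullback.fst g ν) = x := w.2
      have c : w.1 ≫ pullback.fst (pullback.fst g U.hom) (pullback.fst g ν) ≫ pullback.fst g U.hom =
          w.1 ≫ pullback.snd (pullback.fst g U.hom) (pullback.fst g ν) ≫ pullback.fst g ν := congrArg (w.1 ≫ ·) pullback.condition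
      rw [reassoc_of% e] at c
      rw [Category.assoc, Category.assoc, Category.assoc, ← pullback.condition (f := g) (g := ν), ← pullback.condition (f := g) (g := U.hom)]
      exact ((reassoc_of% c) g).symm)) (pullback.lift_fst _ _ _).symm, pullback.lift_fst _ _ _⟩
  let e : ∀ (j : PUnit.{1}) ⦃T : Scheme.{u}⦄ (x : T ⟶ pullback g ν), Lifts (A.obj j) x ≃ Lifts (B.obj j) x := fun j T x =>
    { toFun := toB j x
      invFun := toA j x
      left_inv := fun v => by
        refine Subtype.ext (pullback.hom_ext ((pullback.lift_fst _ _ _).trans v.2.symm) ?_)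
        refine (pullback.lift_snd _ _ _).trans (pullback.hom_ext ?_ ?_)
        · refine (pullback.lift_fst _ _ _).trans (Eq.trans ?_ (Category.assoc _ _ _).symm)
          exact (congrArg (· ≫ f' j) v.2.symm).trans ((Category.assoc _ _ _).trans
            ((congrArg (v.1 ≫ ·) pullback.condition)))
        · refine (pullback.lift_snd _ _ _).trans (Eq.trans ?_ (Category.assoc _ _ _).symm)
          exact (pullback.lift_fst_assoc _ _ _ _).trans (pullback.lift_snd _ _ _)
      right_inv := fun w => by
        refine Subtype.ext (pullback.hom_ext ?_ ((pullback.lift_snd _ _ _).trans w.2.symm))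
        refine (pullback.lift_fst _ _ _).trans (pullback.hom_ext ?_ ?_)
        · refine (pullback.lift_fst _ _ _).trans (Eq.trans ?_ (Category.assoc _ _ _).symm)
          exact (congrArg (· ≫ pullback.fst g ν) w.2.symm).trans ((Category.assoc _ _ _).trans
            ((congrArg (w.1 ≫ ·) pullback.condition)).symm)
        · refine (pullback.lift_snd _ _ _).trans (Eq.trans ?_ (Category.assoc _ _ _).symm)
          exact (pullback.lift_snd_assoc _ _ _ _).trans (pullback.lift_snd _ _ _) }
  suffices h : _ ∧ _ from ⟨(DescLib.exists_iso_of_points (A := A) (B := B) e h.1 h.2).choose⟩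
  refine ⟨fun j T T' k x y hy v v' hv => ?_, fun T i j x₀ x₁ h v => ?_⟩
  · subst hy
    refine pullback.hom_ext ?_ ?_
    · refine (pullback.lift_fst _ _ _).trans (Eq.trans (pullback.hom_ext ?_ ?_)
        ((congrArg (k ≫ ·) (pullback.lift_fst _ _ _)).symm.trans (Category.assoc _ _ _).symm))
      · simp only [Category.assoc, pullback.lift_fst]
      · simp only [Category.assoc, pullback.lift_snd, hv]
    · exact (pullback.lift_snd _ _ _).trans ((congrArg (k ≫ ·) (pullback.lift_snd _ _ _)).symm.trans (Category.assoc _ _ _).symm)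
  · refine Subtype.ext (pullback.hom_ext ?_ ((pullback.lift_snd _ _ _).trans (pullback.lift_snd _ _ _).symm))
    refine (pullback.lift_fst _ _ _).trans (Eq.trans (pullback.hom_ext ?_ ?_) (pullback.lift_fst _ _ _).symm)
    · exact (pullback.lift_fst _ _ _).trans (pullback.lift_fst _ _ _).symm
    · refine (pullback.lift_snd _ _ _).trans (Eq.trans ?_ (pullback.lift_snd _ _ _).symm)
      show (pullback.lift (pullback.lift _ _ _) _ _ ≫ pullback.fst _ _) ≫ pullback.snd _ _ =
        pullback.lift _ _ _ ≫ pullback.snd (f' j) (pullback.fst ν U.hom) ≫ pullback.snd ν U.hom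
      rw [pullback.lift_fst, pullback.lift_snd, pullback.lift_snd_assoc, Category.assoc]
      rfl

end Groth.Agent.EtDescX
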