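import Groth.Agent.EtDescX.Effective
import Groth.Agent.EtFound.IntegralStalk

/-!
# Etale charts from extensions off a geometric fibre
-/

universe u

open CategoryTheory CategoryTheory.Limits AlgebraicGeometry Opposite AlgSp Groth.Agent.AlgSpLib Groth.Agent.EtFound

namespace Groth.Agent.EtDescX

set_option autoImplicit false
set_option backward.isDefEq.respectTransparency false
set_option backward.isDefEq.respectTransparency.types false

variable {X Z S : Scheme.{u}} {p : X ⟶ S} {D : Desc.SchDD p}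

instance : (topologically fun {α β : Type u} [TopologicalSpace α] [TopologicalSpace β] (f : α → β) =>
    Topology.IsQuotientMap f : MorphismProperty Scheme.{u}).IsStableUnderComposition where
  comp_mem f g hf hg := hg.comp hf

/-- Products of universally submersive morphisms over a base are universally submersive. -/
theorem univSubmersive_pullbackMap {A A' B B' C : Scheme.{u}} {f : A ⟶ C} {g : B ⟶ C} {f' : A' ⟶ C} {g' : B' ⟶ C}
    {i₁ : A ⟶ A'} {i₂ : B ⟶ B'} (h₁ : SGA1.UnivSubmersive i₁) (h₂ : SGA1.UnivSubmersive i₂)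
    (e₁ : f = i₁ ≫ f') (e₂ : g = i₂ ≫ g') :
    SGA1.UnivSubmersive (pullback.map f g f' g' i₁ i₂ (𝟙 C) (by rw [Category.comp_id, e₁]) (by rw [Category.comp_id, e₂])) :=
  MorphismProperty.pullbackMap
    (P := MorphismProperty.universally (topologically fun f => Topology.IsQuotientMap f)) h₁ h₂ e₁ e₂

/-- The fibre inside a base change of the base. -/
noncomputable def fibreMap (p : X ⟶ S) {B T : Scheme.{u}} {η : B ⟶ S} {t : T ⟶ S} (a : B ⟶ T) (ha : a ≫ t = η) :
    pullback p η ⟶ pullback t p :=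
  pullback.lift (pullback.snd p η ≫ a) (pullback.fst p η)
    ((Category.assoc _ _ _).trans ((congrArg (pullback.snd p η ≫ ·) ha).trans pullback.condition.symm))

@[reassoc]
theorem fibreMap_fst {B T : Scheme.{u}} {η : B ⟶ S} {t : T ⟶ S} (a : B ⟶ T) (ha : a ≫ t = η) :
    fibreMap p a ha ≫ pullback.fst t p = pullback.snd p η ≫ a := pullback.lift_fst _ _ _

@[reassoc]
theorem fibreMap_snd {B T : Scheme.{u}} {η : B ⟶ S} {t : T ⟶ S} (a : B ⟶ T) (ha : a ≫ t = η) :
    fibreMap p a ha ≫ pullback.snd t p = pullback.fst p η := pullback.lift_snd _ _ _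

/-- Compatibility of a section with the gluing over pairs of points having the same image in an
intermediate scheme. -/
def IsPartCompat (D : Desc.SchDD p) (π : X ⟶ Z) {T : Scheme.{u}} (t : T ⟶ S)
    (σ : Over.mk (pullback.snd t p) ⟶ D.obj) : Prop :=
  ∀ ⦃Y : Scheme.{u}⦄ (z₀ z₁ : Y ⟶ pullback t p) (h : z₀ ≫ pullback.fst t p = z₁ ≫ pullback.fst t p),
    (z₀ ≫ pullback.snd t p) ≫ π = (z₁ ≫ pullback.snd t p) ≫ π →
    (D.φ (z₀ ≫ pullback.snd t p) (z₁ ≫ pullback.snd t p) (snd_comp_eq z₀ z₁ h)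
      ⟨z₀ ≫ σ.left, (Category.assoc _ _ _).trans (congrArg (z₀ ≫ ·) (Over.w σ))⟩).1 = z₁ ≫ σ.left

theorem isPartCompat_id {T : Scheme.{u}} (t : T ⟶ S) (σ : Over.mk (pullback.snd t p) ⟶ D.obj) :
    IsPartCompat D (𝟙 X) t σ := by
  intro Y z₀ z₁ h h'
  rw [Category.comp_id, Category.comp_id] at h'
  obtain rfl : z₀ = z₁ := pullback.hom_ext h h'
  exact congrArg Subtype.val (D.φ_self _ _)

/-- If sections on geometric fibres extend to etale neighbourhoods, compatibly over the fibres of an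
intermediate universally submersive morphism, the sheaf of sections has etale charts. -/
theorem hasCharts_of_ext {D : Desc.SchDD p} [IsSeparated D.obj.hom] [Etale D.obj.hom] (π : X ⟶ Z) (r : Z ⟶ S)
    (hπ : SGA1.UnivSubmersive π) [UniversallyClosed r] (hr : π ≫ r = p)
    (hext : ∀ ⦃T : Over S⦄ (c : (yon S).obj T ⟶ sectSp D) (Ω : Type u) [Field Ω] [IsAlgClosed Ω]
      (a : Spec (CommRingCat.of Ω) ⟶ T.left),
      ∃ (V : Over S) (v : Spec (CommRingCat.of Ω) ⟶ V.left) (hv : v ≫ V.hom = a ≫ T.hom)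
        (σ : Over.mk (pullback.snd V.hom p) ⟶ D.obj),
          Etale V.hom ∧ IsPartCompat D π V.hom σ ∧
            fibreMap p v hv ≫ σ.left = fibreMap p a rfl ≫ (val D c).left) :
    HasCharts D := by
  intro T c t
  let Ω := AlgebraicClosure (T.left.residueField t)
  let a : Spec (CommRingCat.of Ω) ⟶ T.left :=
    Spec.map (CommRingCat.ofHom (algebraMap (T.left.residueField t) Ω)) ≫ T.left.fromSpecResidueField t
  have ha : a (default : Spec (CommRingCat.of Ω)) = t :=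
    (Scheme.Hom.comp_apply _ _ _).trans (Scheme.fromSpecResidueField_apply _ _)
  obtain ⟨V, v, hv, σ, hV, hpart, hfib⟩ := hext c Ω a
  let η := a ≫ T.hom
  let σc := val D c
  let F := pullback V.hom p
  let f₁ : F ⟶ V.left := pullback.fst _ _
  let f₂ : F ⟶ X := pullback.snd _ _
  let Y := pullback f₁ f₁
  let z₀ : Y ⟶ F := pullback.fst f₁ f₁
  let z₁ : Y ⟶ F := pullback.snd f₁ f₁
  have hz : z₀ ≫ f₁ = z₁ ≫ f₁ := pullback.condition
  let w₀ : Desc.Lifts D.obj (z₀ ≫ f₂) := ⟨z₀ ≫ σ.left, (Category.assoc _ _ _).trans (congrArg (z₀ ≫ ·) (Over.w σ))⟩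
  let α := (D.φ _ _ (snd_comp_eq z₀ z₁ hz) w₀).1
  obtain ⟨E, hEc, hE⟩ := exists_eqLocus (Z := Y) D.obj.hom α (z₁ ≫ σ.left)
    ((D.φ _ _ (snd_comp_eq z₀ z₁ hz) w₀).2.trans
      ((congrArg (z₁ ≫ ·) (Over.w σ)).symm.trans (Category.assoc _ _ _).symm))
  -- the pairs over the intermediate scheme
  let G := pullback V.hom r
  let g₁ : G ⟶ V.left := pullback.fst _ _
  let qm : F ⟶ G := pullback.lift f₁ (f₂ ≫ π) (by rw [Category.assoc, hr]; exact pullback.condition)
  have hq₁m : qm ≫ g₁ = f₁ := pullback.lift_fst _ _ _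
  have hq₂m : qm ≫ pullback.snd _ _ = f₂ ≫ π := pullback.lift_snd _ _ _
  have hqm : SGA1.UnivSubmersive qm := by
    refine SGA1Q.univSubmersive_of_isPullback hπ (j := f₂) (q := pullback.snd V.hom r) ?_
    refine IsPullback.of_right ?_ hq₂m (IsPullback.of_hasPullback V.hom r)
    rw [hq₁m, hr]
    exact IsPullback.of_hasPullback V.hom p
  let Y' := pullback g₁ g₁
  let P : Y ⟶ Y' := pullback.map f₁ f₁ g₁ g₁ qm qm (𝟙 _) (by rw [Category.comp_id, hq₁m]) (by rw [Category.comp_id, hq₁m])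
  have hP₀ : P ≫ pullback.fst g₁ g₁ = z₀ ≫ qm := pullback.lift_fst _ _ _
  have hP₁ : P ≫ pullback.snd g₁ g₁ = z₁ ≫ qm := pullback.lift_snd _ _ _
  have hPq : Topology.IsQuotientMap P.base := by
    have hP : SGA1.UnivSubmersive P := univSubmersive_pullbackMap hqm hqm hq₁m.symm hq₁m.symm
    exact SGA1Q.isQuotientMap_of_isPullback hP (IsPullback.of_id_snd : IsPullback P (𝟙 Y) (𝟙 Y') P)
  have hsat : ∀ w w' : Y, P w = P w' → w' ∈ E → w ∈ E := by
    intro w w' hww hw'
    obtain ⟨q, hq₀, hq₁⟩ := Scheme.Pullback.exists_preimage_pullback (f := P) (g := P) w' w hww.symm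
    let g := (pullback P P).fromSpecResidueField q
    have hgq : g default = q := Scheme.fromSpecResidueField_apply _ _
    let k' := g ≫ pullback.fst P P
    let k := g ≫ pullback.snd P P
    have hkP : k' ≫ P = k ≫ P := by simp only [k, k', Category.assoc, pullback.condition]
    have e' : k' ≫ α = k' ≫ z₁ ≫ σ.left := (hE k').2 (by
      rintro _ ⟨x, rfl⟩
      rw [Subsingleton.elim x default, Scheme.Hom.comp_apply, hgq]
      exact Set.mem_of_eq_of_mem (s := (E : Set Y)) hq₀ hw')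
    have hf : ∀ i : Y ⟶ F, (i = z₀ ∨ i = z₁) → (k' ≫ i) ≫ f₁ = (k ≫ i) ≫ f₁ ∧
        ((k' ≫ i) ≫ f₂) ≫ π = ((k ≫ i) ≫ f₂) ≫ π := by
      intro i hi
      have hi' : k' ≫ i ≫ qm = k ≫ i ≫ qm := by
        rcases hi with rfl | rfl
        · rw [← hP₀, reassoc_of% hkP]
        · rw [← hP₁, reassoc_of% hkP]
      constructor
      · simp only [Category.assoc, ← hq₁m]
        rw [reassoc_of% hi']
      · simp only [Category.assoc, ← hq₂m]
        rw [reassoc_of% hi']
    obtain ⟨h₀, h₀'⟩ := hf z₀ (Or.inl rfl)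
    obtain ⟨h₁, h₁'⟩ := hf z₁ (Or.inr rfl)
    have hk' : (k' ≫ z₀) ≫ f₁ = (k' ≫ z₁) ≫ f₁ := by simp only [Category.assoc, hz]
    have hk : (k ≫ z₀) ≫ f₁ = (k ≫ z₁) ≫ f₁ := by simp only [Category.assoc, hz]
    let W : ∀ x : Spec ((pullback P P).residueField q) ⟶ F, Desc.Lifts D.obj (x ≫ f₂) := fun x =>
      ⟨x ≫ σ.left, (Category.assoc _ _ _).trans (congrArg (x ≫ ·) (Over.w σ))⟩
    have hφ : ∀ l : Spec ((pullback P P).residueField q) ⟶ Y, l ≫ α =
        (D.φ ((l ≫ z₀) ≫ f₂) ((l ≫ z₁) ≫ f₂) (snd_comp_eq _ _ (by show (l ≫ z₀) ≫ f₁ = (l ≫ z₁) ≫ f₁; rw [Category.assoc, Category.assoc, hz])) (W (l ≫ z₀))).1 :=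
      fun l => (φ_pre l (snd_comp_eq z₀ z₁ hz) _ w₀ _ (Category.assoc _ _ _).symm (Category.assoc _ _ _).symm
        (Category.assoc _ _ _)).symm
    have e₁ : D.φ ((k' ≫ z₀) ≫ f₂) ((k' ≫ z₁) ≫ f₂) (snd_comp_eq _ _ hk') (W (k' ≫ z₀)) = W (k' ≫ z₁) :=
      Subtype.ext ((hφ k').symm.trans (e'.trans (Category.assoc _ _ _).symm))
    have e₀ : D.φ ((k' ≫ z₀) ≫ f₂) ((k ≫ z₀) ≫ f₂) (snd_comp_eq _ _ h₀) (W (k' ≫ z₀)) = W (k ≫ z₀) :=
      Subtype.ext (hpart _ _ h₀ h₀')
    have e₂ : D.φ ((k' ≫ z₁) ≫ f₂) ((k ≫ z₁) ≫ f₂) (snd_comp_eq _ _ h₁) (W (k' ≫ z₁)) = W (k ≫ z₁) :=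
      Subtype.ext (hpart _ _ h₁ h₁')
    have e : D.φ ((k ≫ z₀) ≫ f₂) ((k ≫ z₁) ≫ f₂) (snd_comp_eq _ _ hk) (W (k ≫ z₀)) = W (k ≫ z₁) := by
      rw [← e₀, D.φ_comp, ← e₂, ← e₁, D.φ_comp]
    have := (hE k).1 ((hφ k).trans ((congrArg Subtype.val e).trans (Category.assoc _ _ _))) ⟨default, rfl⟩
    rw [Scheme.Hom.comp_apply, hgq] at this
    exact Set.mem_of_eq_of_mem (s := (E : Set Y)) hq₁.symm this
  have hBad : IsClosed (P '' (E : Set Y)ᶜ) := by
    refine hPq.isClosed_preimage.1 ?_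
    have : P ⁻¹' (P '' (E : Set Y)ᶜ) = (E : Set Y)ᶜ := by
      refine Set.Subset.antisymm ?_ (Set.subset_preimage_image _ _)
      rintro x ⟨x', hx', hxx⟩ hx
      exact hx' (hsat x' x hxx hx)
    exact this.symm ▸ E.isOpen.isClosed_compl
  have : UniversallyClosed g₁ := MorphismProperty.pullback_fst (P := @UniversallyClosed) _ _ inferInstance
  let ρ : Y' ⟶ V.left := pullback.fst g₁ g₁ ≫ g₁
  have hPρ : P ≫ ρ = z₀ ≫ f₁ := by rw [← Category.assoc, hP₀, Category.assoc, hq₁m]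
  let O : V.left.Opens := ⟨(ρ '' (P '' (E : Set Y)ᶜ))ᶜ, (ρ.isClosedMap _ hBad).isOpen_compl⟩
  have hv₀ : v (default : Spec (CommRingCat.of Ω)) ∈ O := by
    rintro ⟨_, ⟨w, hw, rfl⟩, hwv⟩
    have hwv' : (z₀ ≫ f₁) w = v default := by
      rw [← hPρ, Scheme.Hom.comp_apply]
      exact hwv
    obtain ⟨w', hw', -⟩ := Scheme.Pullback.exists_preimage_pullback (f := z₀ ≫ f₁) (g := v) w default hwv'
    let g := (pullback (z₀ ≫ f₁) v).fromSpecResidueField w'
    let k := g ≫ pullback.fst (z₀ ≫ f₁) v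
    let h := g ≫ pullback.snd (z₀ ≫ f₁) v
    have hkh : k ≫ z₀ ≫ f₁ = h ≫ v := by simp only [k, h, Category.assoc, pullback.condition]
    have hkh' : ∀ i : Y ⟶ F, i ≫ f₁ = z₀ ≫ f₁ → (k ≫ i) ≫ f₁ = h ≫ v := fun i hi =>
      (Category.assoc _ _ _).trans ((congrArg (k ≫ ·) hi).trans hkh)
    have hx : ∀ i : Y ⟶ F, i ≫ f₁ = z₀ ≫ f₁ → ((k ≫ i) ≫ f₂) ≫ p = h ≫ η := fun i hi =>
      (Category.assoc _ _ _).trans ((congrArg ((k ≫ i) ≫ ·) pullback.condition.symm).trans
        ((Category.assoc _ _ _).symm.trans ((congrArg (· ≫ V.hom) (hkh' i hi)).trans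
          ((Category.assoc _ _ _).trans (congrArg (h ≫ ·) hv)))))
    let l : ∀ (i : Y ⟶ F) (hi : i ≫ f₁ = z₀ ≫ f₁), _ ⟶ pullback p η := fun i hi =>
      pullback.lift ((k ≫ i) ≫ f₂) h (hx i hi)
    have hl : ∀ i hi, l i hi ≫ fibreMap p v hv = k ≫ i := fun i hi => by
      apply pullback.hom_ext
      · rw [Category.assoc, fibreMap_fst, pullback.lift_snd_assoc]
        exact (hkh' i hi).symm
      · rw [Category.assoc, fibreMap_snd, pullback.lift_fst]
    have hσk : ∀ i hi, (k ≫ i) ≫ σ.left = (l i hi ≫ fibreMap p a rfl) ≫ σc.left := fun i hi =>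
      (congrArg (· ≫ σ.left) (hl i hi)).symm.trans ((Category.assoc _ _ _).trans
        ((congrArg (l i hi ≫ ·) hfib).trans (Category.assoc _ _ _).symm))
    have hc := isCompat_val D c (l z₀ rfl ≫ fibreMap p a rfl) (l z₁ hz.symm ≫ fibreMap p a rfl) (by
      simp only [Category.assoc, fibreMap_fst]
      rw [pullback.lift_snd_assoc, pullback.lift_snd_assoc])
    have hkα : k ≫ α = k ≫ z₁ ≫ σ.left := by
      refine Eq.trans ?_ ((hσk z₁ hz.symm).symm.trans (Category.assoc _ _ _))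
      refine Eq.trans ?_ hc
      refine (φ_pre k (snd_comp_eq z₀ z₁ hz) _ w₀ _ ?_ ?_ ?_).symm
      · exact (((Category.assoc _ _ _).trans (congrArg (l z₀ rfl ≫ ·) (fibreMap_snd a rfl))).trans
          ((pullback.lift_fst _ _ _).trans (Category.assoc _ _ _))).symm
      · exact (((Category.assoc _ _ _).trans (congrArg (l z₁ hz.symm ≫ ·) (fibreMap_snd a rfl))).trans
          ((pullback.lift_fst _ _ _).trans (Category.assoc _ _ _))).symm
      · exact (hσk z₀ rfl).symm.trans (Category.assoc _ _ _)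
    have := (hE k).1 hkα ⟨default, rfl⟩
    rw [Scheme.Hom.comp_apply, Scheme.fromSpecResidueField_apply] at this
    exact hw (Set.mem_of_eq_of_mem (s := (E : Set Y)) hw'.symm this)
  let V' : Over S := Over.mk (O.ι ≫ V.hom)
  let jV : V' ⟶ V := Over.homMk O.ι rfl
  let jm : pullback V'.hom p ⟶ F := ((Over.pullback p).map jV).left
  have hjm₁ : jm ≫ f₁ = pullback.fst V'.hom p ≫ O.ι := pullback.lift_fst _ _ _
  have hjm₂ : jm ≫ f₂ = pullback.snd V'.hom p := pullback.lift_snd _ _ _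
  have hσ' : IsCompat D V'.hom ((Over.pullback p).map jV ≫ σ) := by
    intro Q y₀ y₁ hy
    let k : Q ⟶ Y := pullback.lift (y₀ ≫ jm) (y₁ ≫ jm) (by
      simp only [Category.assoc, hjm₁]
      rw [reassoc_of% hy])
    have hk₀ : k ≫ z₀ = y₀ ≫ jm := pullback.lift_fst _ _ _
    have hk₁ : k ≫ z₁ = y₁ ≫ jm := pullback.lift_snd _ _ _
    have hkE : Set.range k ⊆ (E : Set Y) := by
      rintro _ ⟨q, rfl⟩
      by_contra hne
      refine (pullback.fst V'.hom p (y₀ q) : (O : Scheme.{u})).2 ⟨P (k q), ⟨k q, hne, rfl⟩, ?_⟩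
      have he : k ≫ P ≫ ρ = y₀ ≫ pullback.fst V'.hom p ≫ O.ι := by
        rw [hPρ, reassoc_of% hk₀, hjm₁]
      exact congr(($he) q)
    refine ((φ_pre k (snd_comp_eq z₀ z₁ hz) _ w₀ _ ?_ ?_ ?_).trans ((hE k).2 hkE)).trans ?_
    · rw [← Category.assoc, hk₀, Category.assoc, hjm₂]
    · rw [← Category.assoc, hk₁, Category.assoc, hjm₂]
    · show y₀ ≫ jm ≫ σ.left = k ≫ z₀ ≫ σ.left
      rw [← Category.assoc, ← Category.assoc, hk₀]
    · show k ≫ z₁ ≫ σ.left = y₁ ≫ jm ≫ σ.left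
      rw [← Category.assoc, ← Category.assoc, hk₁]
  have hlr : Set.range v ⊆ Set.range O.ι := by
    rintro _ ⟨q, rfl⟩
    rw [Scheme.Opens.range_ι, Subsingleton.elim q default]
    exact hv₀
  have hl : IsOpenImmersion.lift O.ι v hlr ≫ O.ι = v := IsOpenImmersion.lift_fac _ _ _
  let y : Over.mk η ⟶ T := Over.homMk a rfl
  let z : Over.mk η ⟶ V' := Over.homMk (IsOpenImmersion.lift O.ι v hlr) (by
    show IsOpenImmersion.lift O.ι v hlr ≫ O.ι ≫ V.hom = η
    rw [reassoc_of% hl, hv])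
  have : Etale V.hom := hV
  refine ⟨V', Over.mk η, ofVal D _ hσ', y, z, (default : Spec (CommRingCat.of Ω)), inferInstanceAs (Etale (O.ι ≫ V.hom)),
    ha, val_injective D ?_⟩
  rw [val_comp, val_comp, val_ofVal]
  refine Over.OverMorphism.ext ?_
  let s : pullback η p ⟶ pullback p η := pullback.lift (pullback.snd η p) (pullback.fst η p) pullback.condition.symm
  have h₁ : ((Over.pullback p).map y).left = s ≫ fibreMap p a rfl := by
    apply pullback.hom_ext
    · rw [Category.assoc, fibreMap_fst, pullback.lift_snd_assoc]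
      exact pullback.lift_fst _ _ _
    · rw [Category.assoc, fibreMap_snd, pullback.lift_fst]
      exact pullback.lift_snd _ _ _
  have h₂ : ((Over.pullback p).map z).left ≫ jm = s ≫ fibreMap p v hv := by
    apply pullback.hom_ext
    · rw [Category.assoc, Category.assoc, fibreMap_fst, pullback.lift_snd_assoc,
        show jm ≫ pullback.fst V.hom p = _ from hjm₁, ← Category.assoc,
        show ((Over.pullback p).map z).left ≫ pullback.fst V'.hom p = pullback.fst η p ≫ z.left from pullback.lift_fst _ _ _,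
        Category.assoc]
      exact congrArg (pullback.fst η p ≫ ·) hl
    · rw [Category.assoc, Category.assoc, fibreMap_snd, pullback.lift_fst, show jm ≫ pullback.snd V.hom p = _ from hjm₂]
      exact pullback.lift_snd _ _ _
  show ((Over.pullback p).map y).left ≫ σc.left = ((Over.pullback p).map z).left ≫ jm ≫ σ.left
  refine (congrArg (· ≫ σc.left) h₁).trans ((Category.assoc _ _ _).trans ((congrArg (s ≫ ·) hfib.symm).trans ?_))
  exact (Category.assoc _ _ _).symm.trans ((congrArg (· ≫ σ.left) h₂.symm).trans (Category.assoc _ _ _))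

end Groth.Agent.EtDescX
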