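import Groth.Agent.EtDescX.Charts
import Groth.Agent.S3709

/-!
# Refinement of descent data and descent of morphisms into etale schemes
-/

universe u

open CategoryTheory CategoryTheory.Limits AlgebraicGeometry Opposite AlgSp Groth.Agent.AlgSpLib

namespace Groth.Agent.EtDescX

set_option autoImplicit false
set_option backward.isDefEq.respectTransparency false
set_option backward.isDefEq.respectTransparency.types false

/-- Morphisms into separated unramified schemes agreeing after a surjection agree. -/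
theorem hom_ext_of_surjective {Y Z U B : Scheme.{u}} (π : Y ⟶ Z) [Surjective π] (u : U ⟶ B) [IsSeparated u]
    [FormallyUnramified u] [LocallyOfFiniteType u] (a b : Z ⟶ U) (h : a ≫ u = b ≫ u) (e : π ≫ a = π ≫ b) :
    a = b := by
  obtain ⟨E, -, hE⟩ := exists_eqLocus u a b h
  have := (hE (𝟙 Z)).2 (by
    rintro _ ⟨z, rfl⟩
    obtain ⟨y, rfl⟩ := π.surjective z
    exact (hE π).1 e ⟨y, rfl⟩)
  simpa using this

/-- Morphisms into etale schemes descend along universally submersive morphisms. -/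
theorem exists_descend {Y Z U B : Scheme.{u}} (π : Y ⟶ Z) (hπ : SGA1.UnivSubmersive π) (u : U ⟶ B) [Etale u]
    (b : Z ⟶ B) (f : Y ⟶ U) (hf : f ≫ u = π ≫ b)
    (hc : ∀ ⦃W : Scheme.{u}⦄ (a₀ a₁ : W ⟶ Y), a₀ ≫ π = a₁ ≫ π → a₀ ≫ f = a₁ ≫ f) :
    ∃ σ : Z ⟶ U, σ ≫ u = b ∧ π ≫ σ = f := by
  let q := pullback.fst b u
  let m : pullback (𝟙 Z) π ⟶ pullback q π :=
    pullback.lift (pullback.lift (pullback.fst _ _) (pullback.snd _ _ ≫ f)
      (by rw [Category.assoc, hf, ← Category.assoc, ← pullback.condition, Category.comp_id])) (pullback.snd _ _)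
      (by rw [pullback.lift_fst, ← pullback.condition, Category.comp_id])
  have hm₁ : m ≫ pullback.fst q π = pullback.lift (pullback.fst _ _) (pullback.snd _ _ ≫ f)
      (by rw [Category.assoc, hf, ← Category.assoc, ← pullback.condition, Category.comp_id]) :=
    pullback.lift_fst _ _ _
  obtain ⟨σ, ⟨hσ₁, hσ₂⟩, -⟩ := S3709.result π hπ (𝟙 Z) q m (pullback.lift_snd _ _ _) (by
    rw [hm₁]
    apply pullback.hom_ext
    · simp only [Category.assoc, pullback.lift_fst]
    · simp only [Category.assoc, pullback.lift_snd]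
      simp only [← Category.assoc]
      refine hc _ _ ?_
      simp only [Category.assoc, ← pullback.condition, Category.comp_id]
      exact (pullback.lift_fst _ _ _).trans (pullback.lift_fst _ _ _).symm)
  rw [hm₁] at hσ₂
  refine ⟨σ ≫ pullback.snd b u, by rw [Category.assoc, ← pullback.condition, ← Category.assoc, hσ₁, Category.id_comp], ?_⟩
  let s : Y ⟶ pullback (𝟙 Z) π := pullback.lift π (𝟙 Y) (by rw [Category.comp_id, Category.id_comp])
  have h := congrArg (fun k => s ≫ k ≫ pullback.snd b u) hσ₂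
  simp only [s, pullback.lift_snd, pullback.lift_fst_assoc, pullback.lift_snd_assoc, Category.assoc,
    Category.id_comp] at h
  exact h.symm

variable {X W S : Scheme.{u}} {g : X ⟶ S}

theorem refEq (h : W ⟶ X) {q : W ⟶ S} (hq : h ≫ g = q) {T : Scheme.{u}} {w₀ w₁ : T ⟶ W} (e : w₀ ≫ q = w₁ ≫ q) :
    (w₀ ≫ h) ≫ g = (w₁ ≫ h) ≫ g := by
  rw [Category.assoc, Category.assoc, hq, e]

/-- The underlying point of a point of a pulled back object. -/
noncomputable def pushLift (h : W ⟶ X) {U : Over X} {T : Scheme.{u}} {w : T ⟶ W}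
    (v : Desc.Lifts (Over.mk (pullback.snd U.hom h)) w) : Desc.Lifts U (w ≫ h) :=
  ⟨v.1 ≫ pullback.fst U.hom h,
    (Category.assoc _ _ _).trans ((congrArg (v.1 ≫ ·) pullback.condition).trans
      ((Category.assoc _ _ _).symm.trans (congrArg (· ≫ h) v.2)))⟩

/-- The gluing maps of a pulled back descent datum. -/
noncomputable def pullMap (h : W ⟶ X) {q : W ⟶ S} (hq : h ≫ g = q) (D : Desc.SchDD g) {T : Scheme.{u}}
    (w₀ w₁ : T ⟶ W) (e : w₀ ≫ q = w₁ ≫ q) (v : Desc.Lifts (Over.mk (pullback.snd D.obj.hom h)) w₀) :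
    Desc.Lifts (Over.mk (pullback.snd D.obj.hom h)) w₁ :=
  ⟨pullback.lift (D.φ (w₀ ≫ h) (w₁ ≫ h) (refEq h hq e) (pushLift h v)).1 w₁
    (D.φ (w₀ ≫ h) (w₁ ≫ h) (refEq h hq e) (pushLift h v)).2, pullback.lift_snd _ _ _⟩

theorem pushLift_pullMap (h : W ⟶ X) {q : W ⟶ S} (hq : h ≫ g = q) (D : Desc.SchDD g) {T : Scheme.{u}}
    (w₀ w₁ : T ⟶ W) (e : w₀ ≫ q = w₁ ≫ q) (v : Desc.Lifts (Over.mk (pullback.snd D.obj.hom h)) w₀) :
    pushLift h (pullMap h hq D w₀ w₁ e v) =
      D.φ (w₀ ≫ h) (w₁ ≫ h) (refEq h hq e) (pushLift h v) :=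
  Subtype.ext (pullback.lift_fst _ _ _)

theorem pushLift_injective (h : W ⟶ X) {U : Over X} {T : Scheme.{u}} {w : T ⟶ W} :
    Function.Injective (pushLift h (U := U) (w := w)) := fun v v' e =>
  Subtype.ext (pullback.hom_ext (congrArg Subtype.val e) (v.2.trans v'.2.symm))

/-- Pullback of a descent datum along a refinement. -/
noncomputable def pullDD (h : W ⟶ X) {q : W ⟶ S} (hq : h ≫ g = q) (D : Desc.SchDD g) : Desc.SchDD q where
  obj := Over.mk (pullback.snd D.obj.hom h)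
  φ T w₀ w₁ e :=
    { toFun := pullMap h hq D w₀ w₁ e
      invFun := pullMap h hq D w₁ w₀ e.symm
      left_inv := fun v => pushLift_injective h (by rw [pushLift_pullMap, pushLift_pullMap, D.φ_comp, D.φ_self])
      right_inv := fun v => pushLift_injective h (by rw [pushLift_pullMap, pushLift_pullMap, D.φ_comp, D.φ_self]) }
  φ_natural T T' k w₀ w₁ e e' v v' hv := by
    refine pullback.hom_ext ?_ ?_
    · refine (congrArg Subtype.val (pushLift_pullMap h hq D (k ≫ w₀) (k ≫ w₁) e' v')).trans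
        (Eq.trans ?_ (Category.assoc _ _ _).symm)
      refine (φ_pre k (refEq h hq e) (refEq h hq e') (pushLift h v) _ (Category.assoc _ _ _).symm (Category.assoc _ _ _).symm
        ((congrArg (· ≫ pullback.fst _ _) hv).trans (Category.assoc _ _ _))).trans ?_
      exact congrArg (k ≫ ·) (congrArg Subtype.val (pushLift_pullMap h hq D w₀ w₁ e v)).symm
    · exact (pullMap h hq D (k ≫ w₀) (k ≫ w₁) e' v').2.trans
        ((congrArg (k ≫ ·) (pullMap h hq D w₀ w₁ e v).2).symm.trans (Category.assoc _ _ _).symm)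
  φ_self T w v := pushLift_injective h ((pushLift_pullMap h hq D w w rfl v).trans (D.φ_self _ _))
  φ_comp T w₀ w₁ w₂ h₀₁ h₁₂ v := pushLift_injective h (by
    show pushLift h (pullMap h hq D w₁ w₂ h₁₂ (pullMap h hq D w₀ w₁ h₀₁ v)) = pushLift h (pullMap h hq D w₀ w₂ (h₀₁.trans h₁₂) v)
    rw [pushLift_pullMap, pushLift_pullMap, pushLift_pullMap, D.φ_comp])

instance (h : W ⟶ X) {q : W ⟶ S} (hq : h ≫ g = q) (D : Desc.SchDD g) [IsSeparated D.obj.hom] :
    IsSeparated (pullDD h hq D).obj.hom :=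
  inferInstanceAs (IsSeparated (pullback.snd D.obj.hom h))

instance (h : W ⟶ X) {q : W ⟶ S} (hq : h ≫ g = q) (D : Desc.SchDD g) [Etale D.obj.hom] :
    Etale (pullDD h hq D).obj.hom :=
  inferInstanceAs (Etale (pullback.snd D.obj.hom h))

instance (h : W ⟶ X) {q : W ⟶ S} (hq : h ≫ g = q) (D : Desc.SchDD g) [QuasiCompact D.obj.hom] :
    QuasiCompact (pullDD h hq D).obj.hom :=
  inferInstanceAs (QuasiCompact (pullback.snd D.obj.hom h))

variable (h : W ⟶ X) {q : W ⟶ S} (hq : h ≫ g = q) (D : Desc.SchDD g)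

/-- The map of base changes induced by a refinement. -/
noncomputable def refMap {T : Scheme.{u}} (t : T ⟶ S) : pullback t q ⟶ pullback t g :=
  pullback.lift (pullback.fst t q) (pullback.snd t q ≫ h) (by rw [Category.assoc, hq, pullback.condition])

theorem refMap_fst {T : Scheme.{u}} (t : T ⟶ S) :
    refMap h hq t ≫ pullback.fst t g = pullback.fst t q := pullback.lift_fst _ _ _

theorem refMap_snd {T : Scheme.{u}} (t : T ⟶ S) :
    refMap h hq t ≫ pullback.snd t g = pullback.snd t q ≫ h := pullback.lift_snd _ _ _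

theorem refMap_natural {T T' : Over S} (k : T' ⟶ T) :
    refMap h hq T'.hom ≫ ((Over.pullback g).map k).left = ((Over.pullback q).map k).left ≫ refMap h hq T.hom := by
  have a₁ : ((Over.pullback g).map k).left ≫ pullback.fst T.hom g = pullback.fst T'.hom g ≫ k.left := pullback.lift_fst _ _ _
  have a₂ : ((Over.pullback g).map k).left ≫ pullback.snd T.hom g = pullback.snd T'.hom g := pullback.lift_snd _ _ _
  have b₁ : ((Over.pullback q).map k).left ≫ pullback.fst T.hom q = pullback.fst T'.hom q ≫ k.left := pullback.lift_fst _ _ _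
  have b₂ : ((Over.pullback q).map k).left ≫ pullback.snd T.hom q = pullback.snd T'.hom q := pullback.lift_snd _ _ _
  refine pullback.hom_ext ?_ ?_
  · refine (Category.assoc _ _ _).trans (Eq.trans ?_ (Category.assoc _ _ _).symm)
    rw [a₁, refMap_fst, ← Category.assoc, refMap_fst, b₁]
  · refine (Category.assoc _ _ _).trans (Eq.trans ?_ (Category.assoc _ _ _).symm)
    rw [a₂, refMap_snd, refMap_snd, ← Category.assoc, b₂]

/-- Restriction of a section along a refinement. -/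
noncomputable def resSect {T : Scheme.{u}} (t : T ⟶ S) (σ : Over.mk (pullback.snd t g) ⟶ D.obj) :
    Over.mk (pullback.snd t q) ⟶ (pullDD h hq D).obj :=
  Over.homMk (pullback.lift (refMap h hq t ≫ σ.left) (pullback.snd t q)
    ((Category.assoc _ _ _).trans ((congrArg (refMap h hq t ≫ ·) (Over.w σ)).trans (refMap_snd h hq t))))
    (pullback.lift_snd _ _ _)

theorem isCompat_resSect {T : Scheme.{u}} {t : T ⟶ S} {σ : Over.mk (pullback.snd t g) ⟶ D.obj}
    (hσ : IsCompat D t σ) : IsCompat (pullDD h hq D) t (resSect h hq D t σ) := by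
  intro Z z₀ z₁ e
  apply pullback.hom_ext
  · show pullback.lift _ _ _ ≫ _ = (z₁ ≫ pullback.lift _ _ _) ≫ _
    refine Eq.trans (pullback.lift_fst _ _ _) (Eq.trans ?_ ((Category.assoc _ _ _).trans
      ((congrArg (z₁ ≫ ·) (pullback.lift_fst _ _ _)).trans (Category.assoc _ _ _).symm)).symm)
    refine (φ_congr _ _ _ _ ?_ ?_ ?_).trans (hσ (z₀ ≫ refMap h hq t) (z₁ ≫ refMap h hq t)
      (by rw [Category.assoc, Category.assoc, refMap_fst, e]))
    · rw [Category.assoc, Category.assoc, refMap_snd]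
    · rw [Category.assoc, Category.assoc, refMap_snd]
    · show (z₀ ≫ pullback.lift _ _ _) ≫ _ = (z₀ ≫ refMap h hq t) ≫ σ.left
      rw [Category.assoc, pullback.lift_fst, Category.assoc]
  · show pullback.lift _ _ _ ≫ _ = (z₁ ≫ pullback.lift _ _ _) ≫ _
    rw [pullback.lift_snd, Category.assoc, pullback.lift_snd]

/-- Etale charts descend from a universally submersive refinement. -/
theorem hasCharts_of_refine [IsSeparated D.obj.hom] [Etale D.obj.hom] (hqs : SGA1.UnivSubmersive q)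
    (H : HasCharts (pullDD h hq D)) : HasCharts D := by
  intro T c t
  obtain ⟨V, B, σ', y, z, b, hV, hyb, hyz⟩ := H (ofVal _ _ (isCompat_resSect h hq D (isCompat_val D c))) t
  let s : pullback V.hom q ⟶ D.obj.left := (val _ σ').left ≫ pullback.fst _ _
  have hsu : s ≫ D.obj.hom = pullback.snd V.hom q ≫ h := by
    rw [Category.assoc, pullback.condition, ← Category.assoc]
    exact congrArg (· ≫ h) (Over.w (val _ σ'))
  let Y := pullback (pullback.fst V.hom q) (pullback.fst V.hom g)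
  let r₀ : Y ⟶ pullback V.hom q := pullback.fst _ _
  let r₁ : Y ⟶ pullback V.hom g := pullback.snd _ _
  have hr : r₀ ≫ pullback.fst V.hom q = r₁ ≫ pullback.fst V.hom g := pullback.condition
  have hr' : (r₀ ≫ pullback.snd V.hom q ≫ h) ≫ g = (r₁ ≫ pullback.snd V.hom g) ≫ g := by
    simp only [Category.assoc, hq, ← pullback.condition]
    rw [reassoc_of% hr]
  let v₀ : Desc.Lifts D.obj (r₀ ≫ pullback.snd V.hom q ≫ h) := ⟨r₀ ≫ s, by rw [Category.assoc, hsu]⟩
  let f : Desc.Lifts D.obj (r₁ ≫ pullback.snd V.hom g) := D.φ _ _ hr' v₀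
  have hπ : SGA1.UnivSubmersive r₁ :=
    SGA1Q.univSubmersive_of_isPullback (SGA1Q.univSubmersive_of_isPullback hqs
      (IsPullback.of_hasPullback V.hom q)) (IsPullback.of_hasPullback _ _).flip
  obtain ⟨σ, hσu, hσ⟩ := exists_descend r₁ hπ D.obj.hom (pullback.snd V.hom g) f.1 f.2 fun Q a₀ a₁ e => by
    have hr₀ : (a₀ ≫ r₀) ≫ pullback.fst V.hom q = (a₁ ≫ r₀) ≫ pullback.fst V.hom q := by
      simp only [Category.assoc, hr]
      rw [reassoc_of% e]
    have hc := congrArg (· ≫ pullback.fst D.obj.hom h) (isCompat_val _ σ' (a₀ ≫ r₀) (a₁ ≫ r₀) hr₀)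
    change pullback.lift _ _ _ ≫ pullback.fst _ _ = _ at hc
    rw [pullback.lift_fst] at hc
    let X₀ := ((a₀ ≫ r₀) ≫ pullback.snd V.hom q) ≫ h
    let X₁ := ((a₁ ≫ r₀) ≫ pullback.snd V.hom q) ≫ h
    let R := a₀ ≫ r₁ ≫ pullback.snd V.hom g
    have h₀R : X₀ ≫ g = R ≫ g := by
      simp only [X₀, R, Category.assoc] at hr' ⊢
      rw [hr']
    have h₁R : X₁ ≫ g = R ≫ g := by
      simp only [X₁, R, Category.assoc] at hr' ⊢
      rw [hr', reassoc_of% e]
    have h₀₁ : X₀ ≫ g = X₁ ≫ g := h₀R.trans h₁R.symm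
    let V₀ : Desc.Lifts D.obj X₀ := ⟨(a₀ ≫ r₀) ≫ s, by simp only [X₀, Category.assoc, hsu]⟩
    let V₁ : Desc.Lifts D.obj X₁ := ⟨(a₁ ≫ r₀) ≫ s, by simp only [X₁, Category.assoc, hsu]⟩
    have e01 : D.φ X₀ X₁ h₀₁ V₀ = V₁ := by
      refine Subtype.ext ((φ_congr _ _ _ _ rfl rfl ?_).trans (hc.trans ?_))
      · exact (Category.assoc _ _ _).symm
      · exact Category.assoc _ _ _
    refine ((φ_pre a₀ hr' h₀R _ V₀ ?_ rfl ?_).symm.trans ?_).trans (φ_pre a₁ hr' h₁R _ V₁ ?_ ?_ ?_)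
    · simp only [X₀, Category.assoc]
    · exact Category.assoc _ _ _
    · rw [← e01, D.φ_comp]
    · simp only [X₁, Category.assoc]
    · simp only [R, ← Category.assoc, e]
    · exact Category.assoc _ _ _
  have hσ' : IsCompat D V.hom (Over.homMk σ hσu) := by
    intro Q z₀ z₁ e
    let k₀ := pullback.fst (z₀ ≫ pullback.fst V.hom g) (pullback.fst V.hom q)
    let k₁ := pullback.snd (z₀ ≫ pullback.fst V.hom g) (pullback.fst V.hom q)
    have hk : k₁ ≫ pullback.fst V.hom q = k₀ ≫ z₀ ≫ pullback.fst V.hom g := pullback.condition.symm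
    have : Surjective k₀ := ⟨(SGA1Q.isQuotientMap_fst
      (SGA1Q.univSubmersive_of_isPullback hqs (IsPullback.of_hasPullback V.hom q)) (z₀ ≫ pullback.fst V.hom g)).surjective⟩
    let Q₁ : ∀ z : Q ⟶ pullback V.hom g, z₀ ≫ pullback.fst V.hom g = z ≫ pullback.fst V.hom g →
        (pullback (z₀ ≫ pullback.fst V.hom g) (pullback.fst V.hom q) ⟶ Y) :=
      fun z hz => pullback.lift k₁ (k₀ ≫ z) (hk.trans ((congrArg (k₀ ≫ ·) hz).trans (Category.assoc _ _ _).symm))
    let X' := k₁ ≫ pullback.snd V.hom q ≫ h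
    have hX : ∀ (z : Q ⟶ pullback V.hom g) (hz : z₀ ≫ pullback.fst V.hom g = z ≫ pullback.fst V.hom g),
        ∃ e' : X' ≫ g = (k₀ ≫ z ≫ pullback.snd V.hom g) ≫ g,
        (k₀ ≫ z) ≫ σ = (D.φ X' (k₀ ≫ z ≫ pullback.snd V.hom g) e'
          ⟨k₁ ≫ s, by rw [Category.assoc, hsu]⟩).1 := fun z hz => by
      have e' : X' ≫ g = (k₀ ≫ z ≫ pullback.snd V.hom g) ≫ g := by
        have := congrArg (fun i => Q₁ z hz ≫ i) hr'
        simp only [Q₁, r₀, r₁, Category.assoc, pullback.lift_fst_assoc, pullback.lift_snd_assoc] at this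
        simpa only [X', Category.assoc] using this
      refine ⟨e', ?_⟩
      refine Eq.trans ?_ (φ_pre (Q₁ z hz) hr' e' v₀ ⟨k₁ ≫ s, _⟩ ?_ ?_ ?_).symm
      · show _ = Q₁ z hz ≫ f.1
        rw [← hσ, ← Category.assoc, pullback.lift_snd]
      · exact pullback.lift_fst_assoc _ _ _ _
      · rw [pullback.lift_snd_assoc, Category.assoc]
      · exact (pullback.lift_fst_assoc _ _ _ _).symm
    obtain ⟨e₀, hX₀⟩ := hX z₀ rfl
    obtain ⟨e₁, hX₁⟩ := hX z₁ e
    refine hom_ext_of_surjective k₀ D.obj.hom _ _ ((D.φ _ _ _ _).2.trans ?_) ?_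
    · show _ = (z₁ ≫ σ) ≫ D.obj.hom
      rw [Category.assoc, hσu]
    · refine ((φ_pre k₀ _ (e₀.symm.trans e₁) _ ⟨(k₀ ≫ z₀) ≫ σ, ?_⟩ rfl rfl (Category.assoc _ _ _)).symm).trans ?_
      · rw [Category.assoc, hσu, Category.assoc]
      · refine Eq.trans ?_ (hX₁.symm.trans (Category.assoc _ _ _))
        refine Eq.trans ?_ (congrArg Subtype.val (D.φ_comp X' (k₀ ≫ z₀ ≫ pullback.snd V.hom g)
          (k₀ ≫ z₁ ≫ pullback.snd V.hom g) e₀ (e₀.symm.trans e₁) ⟨k₁ ≫ s, by rw [Category.assoc, hsu]⟩))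
        exact φ_congr _ _ _ _ rfl rfl hX₀
  refine ⟨V, B, ofVal D _ hσ', y, z, b, hV, hyb, val_injective D ?_⟩
  rw [val_comp, val_comp, val_ofVal]
  refine Over.OverMorphism.ext ?_
  have : Surjective (refMap h hq B.hom ≫ pullback.fst B.hom g) := by
    rw [refMap_fst]
    exact ⟨(SGA1Q.isQuotientMap_fst hqs B.hom).surjective⟩
  let mz := ((Over.pullback g).map z).left
  let my := ((Over.pullback g).map y).left
  let τ := val D c
  let K := pullback (pullback.fst B.hom q) (pullback.fst B.hom g)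
  let K₀ : K ⟶ pullback B.hom q := pullback.fst _ _
  let K₁ : K ⟶ pullback B.hom g := pullback.snd _ _
  have hK : K₀ ≫ pullback.fst B.hom q = K₁ ≫ pullback.fst B.hom g := pullback.condition
  have : Surjective (pullback.fst B.hom q) := ⟨(SGA1Q.isQuotientMap_fst hqs B.hom).surjective⟩
  have : Surjective K₁ := MorphismProperty.pullback_snd (P := @Surjective) _ _ inferInstance
  refine hom_ext_of_surjective K₁ D.obj.hom _ _ ((Over.w ((Over.pullback g).map y ≫ τ)).trans
    (Over.w ((Over.pullback g).map z ≫ Over.homMk σ hσu)).symm) ?_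
  have hsec := congrArg (fun i => i.left ≫ pullback.fst D.obj.hom h) ((val_comp _ y _).symm.trans
    ((congrArg (val (pullDD h hq D)) hyz).trans (val_comp _ z σ')))
  rw [val_ofVal] at hsec
  have hsec' : (refMap h hq B.hom ≫ my) ≫ τ.left = ((Over.pullback q).map z).left ≫ s := by
    refine Eq.trans ?_ (hsec.trans (Category.assoc _ _ _))
    rw [refMap_natural h hq y]
    show _ = (((Over.pullback q).map y).left ≫ pullback.lift _ _ _) ≫ pullback.fst _ _
    rw [Category.assoc, Category.assoc, pullback.lift_fst]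
  have hcy : ∀ {Q : Scheme.{u}} (a₀ a₁ : Q ⟶ pullback B.hom g)
      (e : a₀ ≫ pullback.fst B.hom g = a₁ ≫ pullback.fst B.hom g),
      ∃ hv, (D.φ (a₀ ≫ pullback.snd B.hom g) (a₁ ≫ pullback.snd B.hom g) (snd_comp_eq a₀ a₁ e)
        ⟨a₀ ≫ my ≫ τ.left, hv⟩).1 = a₁ ≫ my ≫ τ.left := fun a₀ a₁ e =>
    ⟨_, (isCompat_val D c).map y a₀ a₁ e⟩
  have hcz : ∀ {Q : Scheme.{u}} (a₀ a₁ : Q ⟶ pullback B.hom g)
      (e : a₀ ≫ pullback.fst B.hom g = a₁ ≫ pullback.fst B.hom g),
      ∃ hv, (D.φ (a₀ ≫ pullback.snd B.hom g) (a₁ ≫ pullback.snd B.hom g) (snd_comp_eq a₀ a₁ e)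
        ⟨a₀ ≫ mz ≫ σ, hv⟩).1 = a₁ ≫ mz ≫ σ := fun a₀ a₁ e => ⟨_, hσ'.map z a₀ a₁ e⟩
  have he : (K₀ ≫ refMap h hq B.hom) ≫ pullback.fst B.hom g = K₁ ≫ pullback.fst B.hom g := by
    rw [Category.assoc, refMap_fst, hK]
  obtain ⟨hv₀, e₀⟩ := hcy _ _ he
  obtain ⟨hv₁, e₁⟩ := hcz _ _ he
  refine e₀.symm.trans (Eq.trans (φ_congr _ _ _ _ rfl rfl ?_) e₁)
  show (K₀ ≫ refMap h hq B.hom) ≫ my ≫ τ.left = (K₀ ≫ refMap h hq B.hom) ≫ mz ≫ σ
  have hσs : refMap h hq V.hom ≫ σ = s := by
    let d : pullback V.hom q ⟶ Y := pullback.lift (𝟙 _) (refMap h hq V.hom) (by rw [Category.id_comp, refMap_fst])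
    have hd : d ≫ r₁ = refMap h hq V.hom := pullback.lift_snd _ _ _
    rw [← hd, Category.assoc, hσ]
    refine (φ_pre d hr' rfl _ ⟨s, hsu⟩ ?_ ?_ ?_).symm.trans (congrArg Subtype.val (D.φ_self _ _))
    · exact (pullback.lift_fst_assoc _ _ _ _).trans (Category.id_comp _)
    · rw [← Category.assoc, hd, refMap_snd]
    · exact ((pullback.lift_fst_assoc _ _ _ _).trans (Category.id_comp _)).symm
  rw [Category.assoc, Category.assoc, ← Category.assoc (refMap h hq B.hom) mz σ, refMap_natural h hq z,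
    Category.assoc _ _ σ, hσs, ← hsec', Category.assoc]

end Groth.Agent.EtDescX
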