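import Groth.Agent.EtDescX.HomSheaf
import Groth.Agent.EtFound.IntegralStalk
import Mathlib.AlgebraicGeometry.Morphisms.FormallyUnramified

/-!
# Maps on a geometric fibre of an integral morphism extend to an etale neighbourhood
-/

universe u

open CategoryTheory CategoryTheory.Limits AlgebraicGeometry Opposite

namespace Groth.Agent.EtDescX

set_option autoImplicit false
set_option linter.style.haveILetI false
set_option backward.isDefEq.respectTransparency.types false

open EtFound

variable {X S : Scheme.{u}} (p : X ⟶ S)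

/-- A geometric point of the fibre, as a point with values in the field. -/
noncomputable def fibreLift {Ω : Type u} [Field Ω] {η : Spec (CommRingCat.of Ω) ⟶ S}
    {ξ : Spec (CommRingCat.of Ω) ⟶ X} (hξ : ξ ≫ p = η) : Spec (CommRingCat.of Ω) ⟶ pullback p η :=
  pullback.lift ξ (𝟙 _) (hξ.trans (Category.id_comp η).symm)

set_option maxHeartbeats 1600000 in
/-- A morphism on the geometric fibre into an etale scheme extends to an etale neighbourhood. -/
theorem exists_extend [IsIntegralHom p] {U : Scheme.{u}} (u : U ⟶ X) [Etale u]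
    {Ω : Type u} [Field Ω] [IsAlgClosed Ω] {η : Spec (CommRingCat.of Ω) ⟶ S}
    (σ₀ : pullback p η ⟶ U) (hσ₀ : σ₀ ≫ u = pullback.fst p η) :
    ∃ (V : S.Etale) (v : (Scheme.pointSmallEtale η).fiber.obj V) (σ : ((EtCoh.bc p).obj V).left ⟶ U),
      σ ≫ u = pullback.snd V.hom p ∧
      ∀ (ξ : Spec (CommRingCat.of Ω) ⟶ X) (hξ : ξ ≫ p = η),
        ((liftPt p hξ v).left : Spec (CommRingCat.of Ω) ⟶ ((EtCoh.bc p).obj V).left) ≫ σ = fibreLift p hξ ≫ σ₀ := by
  let Ue : X.Etale := Scheme.Etale.mk u
  let pt : ∀ ξ : {ξ : Spec (CommRingCat.of Ω) ⟶ X // ξ ≫ p = η}, (Scheme.pointSmallEtale ξ.1).fiber.obj Ue :=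
    fun ξ => CategoryTheory.Over.homMk (fibreLift p ξ.2 ≫ σ₀) (by
      show (fibreLift p ξ.2 ≫ σ₀) ≫ u = ξ.1
      rw [Category.assoc, hσ₀]
      exact pullback.lift_fst _ _ _)
  let G := homSheaf Ue
  let c : ∀ ξ : {ξ : Spec (CommRingCat.of Ω) ⟶ X // ξ ≫ p = η},
      ToType ((Scheme.pointSmallEtale ξ.1).sheafFiber.obj G) :=
    fun ξ => (Scheme.pointSmallEtale ξ.1).toPresheafFiber (A := Type (u + 1)) Ue (pt ξ) (homPre Ue)
      (ULift.up.{u + 1} (𝟙 Ue) : (homPre Ue).obj (op Ue))
  obtain ⟨q, hq⟩ := exists_preimage_of_local p G c fun ξ₀ => by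
    obtain ⟨V, v, O, m, t, ht, hmt⟩ := exists_open_factor p ξ₀.2 Ue (pt ξ₀)
    let P : (pullback p η).Opens := fibreTo p v ⁻¹ᵁ O
    let a : (P : Scheme.{u}) ⟶ U := (fibreTo p v).resLE O P le_rfl ≫ m.left
    let b : (P : Scheme.{u}) ⟶ U := P.ι ≫ σ₀
    have hab : a ≫ u = b ≫ u := by
      rw [Category.assoc, Category.assoc, hσ₀]
      refine (congrArg ((fibreTo p v).resLE O P le_rfl ≫ ·) (MorphismProperty.Over.w m :)).trans ?_
      refine (Scheme.Hom.resLE_comp_ι_assoc _ _ _).trans ?_
      exact congrArg (P.ι ≫ ·) (pullback.lift_snd _ _ _)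
    let k : (P : Scheme.{u}) ⟶ pullback u u := pullback.lift a b hab
    let E : (P : Scheme.{u}).Opens := k ⁻¹ᵁ (pullback.diagonal u).opensRange
    have key : ∀ (ξ : {ξ : Spec (CommRingCat.of Ω) ⟶ X // ξ ≫ p = η}) (g : Spec (CommRingCat.of Ω) ⟶ (P : Scheme.{u})),
        g ≫ P.ι = fibreLift p ξ.2 → (g default ∈ E ↔ g ≫ a = g ≫ b) := by
      intro ξ g _
      constructor
      · intro hmem
        let d := IsOpenImmersion.lift (pullback.diagonal u) (g ≫ k) (by
          rintro _ ⟨z, rfl⟩
          rw [Subsingleton.elim z default, Scheme.Hom.comp_apply]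
          exact hmem)
        have hd : d ≫ pullback.diagonal u = g ≫ k := IsOpenImmersion.lift_fac _ _ _
        have h1 := congrArg (· ≫ pullback.fst u u) hd
        have h2 := congrArg (· ≫ pullback.snd u u) hd
        simp only [Category.assoc, pullback.diagonal_fst, pullback.diagonal_snd, Category.comp_id, k,
          pullback.lift_fst, pullback.lift_snd] at h1 h2
        exact h1.symm.trans h2
      · intro he
        refine ⟨(g ≫ a) default, ?_⟩
        have : (g ≫ a) ≫ pullback.diagonal u = g ≫ k := by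
          apply pullback.hom_ext
          · simp only [Category.assoc, pullback.diagonal_fst, Category.comp_id]
            exact (congrArg (g ≫ ·) (pullback.lift_fst a b hab)).symm
          · simp only [Category.assoc, pullback.diagonal_snd, Category.comp_id]
            exact he.trans (congrArg (g ≫ ·) (pullback.lift_snd a b hab)).symm
        exact (Scheme.Hom.comp_apply _ _ _).symm.trans
          ((congrArg (fun z : _ ⟶ pullback u u => z default) this).trans (Scheme.Hom.comp_apply _ _ _))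
    let pl : ∀ (ξ : {ξ : Spec (CommRingCat.of Ω) ⟶ X // ξ ≫ p = η})
        (r : (Scheme.pointSmallEtale ξ.1).fiber.obj (restrictEtale ((EtCoh.bc p).obj V) O)),
        (Scheme.pointSmallEtale ξ.1).fiber.map (restrictEtaleHom ((EtCoh.bc p).obj V) O) r = liftPt p ξ.2 v →
        {g : Spec (CommRingCat.of Ω) ⟶ (P : Scheme.{u}) // g ≫ P.ι = fibreLift p ξ.2 ∧
          g ≫ a = (r.left : Spec (CommRingCat.of Ω) ⟶ (O : Scheme.{u})) ≫ m.left} := fun ξ r hr => by
      have hr' : (r.left : Spec (CommRingCat.of Ω) ⟶ (O : Scheme.{u})) ≫ O.ι = fibreLift p ξ.2 ≫ fibreTo p v := by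
        refine (congr(($hr).left)).trans ?_
        refine pullback.hom_ext ?_ ?_
        · refine (liftPt_fst p ξ.2 v).trans (Eq.symm ?_)
          refine (Category.assoc _ _ _).trans ((congrArg (_ ≫ ·) (pullback.lift_fst _ _ _)).trans ?_)
          exact (Category.assoc _ _ _).symm.trans ((congrArg (· ≫ _) (pullback.lift_snd _ _ _)).trans (Category.id_comp _))
        · refine (pullback.lift_snd _ _ _).trans (Eq.symm ?_)
          exact (Category.assoc _ _ _).trans ((congrArg (_ ≫ ·) (pullback.lift_snd _ _ _)).trans (pullback.lift_fst _ _ _))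
      refine ⟨IsOpenImmersion.lift P.ι (fibreLift p ξ.2) ?_, IsOpenImmersion.lift_fac _ _ _, ?_⟩
      · rintro _ ⟨z, rfl⟩
        rw [Scheme.Opens.range_ι]
        show fibreTo p v (fibreLift p ξ.2 z) ∈ O
        rw [← Scheme.Hom.comp_apply, ← hr', Scheme.Hom.comp_apply]
        exact ((r.left : Spec (CommRingCat.of Ω) ⟶ (O : Scheme.{u})) z).2
      · show _ ≫ (fibreTo p v).resLE O P le_rfl ≫ m.left = _
        rw [← Category.assoc]
        congr 1
        rw [← cancel_mono O.ι, Category.assoc, Scheme.Hom.resLE_comp_ι, IsOpenImmersion.lift_fac_assoc]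
        exact hr'.symm
    obtain ⟨g₀, hg₀, hg₀'⟩ := pl ξ₀ t ht
    have hg₀E : g₀ default ∈ E := by
      refine (key ξ₀ g₀ hg₀).2 (hg₀'.trans ?_)
      rw [← Category.assoc, hg₀]
      exact congr(($hmt).left)
    refine ⟨V, v, O, (ULift.up.{u + 1} m : (homPre Ue).obj (op (restrictEtale ((EtCoh.bc p).obj V) O))), P.ι '' E,
      P.ι.isOpenEmbedding.isOpenMap _ E.isOpen, ⟨g₀ default, hg₀E, ?_⟩, ?_, fun ξ r hr hE => ?_⟩
    · rw [← Scheme.Hom.comp_apply, hg₀]
      rfl
    · refine Set.mem_of_eq_of_mem (s := (O : Set ((EtCoh.bc p).obj V).left)) ?_ ((t.left : Spec (CommRingCat.of Ω) ⟶ (O : Scheme.{u})) (default : Spec (CommRingCat.of Ω))).2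
      exact ((congrArg (fun z : Spec (CommRingCat.of Ω) ⟶ ((EtCoh.bc p).obj V).left => z (default : Spec (CommRingCat.of Ω)))
        (congr(($ht).left))).symm.trans (Scheme.Hom.comp_apply _ _ _))
    · obtain ⟨g, hg, hg'⟩ := pl ξ r hr
      have hgE : g default ∈ E := by
        obtain ⟨z, hz, hze⟩ := hE
        have : g default = z := P.ι.injective (by
          rw [← Scheme.Hom.comp_apply, hg]
          exact hze.symm)
        exact this ▸ hz
      have he : (Scheme.pointSmallEtale ξ.1).fiber.map m r = pt ξ := by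
        refine CategoryTheory.Over.OverMorphism.ext ?_
        show (r.left : Spec (CommRingCat.of Ω) ⟶ (O : Scheme.{u})) ≫ m.left = fibreLift p ξ.2 ≫ σ₀
        rw [← hg', (key ξ g hg).1 hgE, ← Category.assoc, hg]
      show (Scheme.pointSmallEtale ξ.1).toPresheafFiber (A := Type (u + 1)) _ r (homPre Ue) _ = c ξ
      rw [show (ULift.up.{u + 1} m : (homPre Ue).obj (op (restrictEtale ((EtCoh.bc p).obj V) O))) =
        (homPre Ue).map m.op (ULift.up.{u + 1} (𝟙 Ue) : (homPre Ue).obj (op Ue)) from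
        congrArg ULift.up (Category.comp_id m).symm]
      refine ((Scheme.pointSmallEtale ξ.1).toPresheafFiber_w_apply m r (homPre Ue) _).trans ?_
      rw [he]
  obtain ⟨V, v, s, hs⟩ := (Scheme.pointSmallEtale η).toPresheafFiber_jointly_surjective (A := Type (u + 1))
    (P := (((EtCoh.bc p).sheafPushforwardContinuous (Type (u + 1)) S.smallEtaleTopology X.smallEtaleTopology).obj G).obj) q
  refine ⟨V, v, (ULift.down (s : (homPre Ue).obj (op ((EtCoh.bc p).obj V)))).left, MorphismProperty.Over.w _,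
    fun ξ hξ => ?_⟩
  have h1 := hq ⟨ξ, hξ⟩
  rw [← hs, pushStalkAt_germ_apply] at h1
  have h2 := congrArg (evalFiber ξ Ue) h1
  have h2' := ((evalFiber_germ ξ (liftPt p hξ v) _).symm.trans h2).trans (evalFiber_germ ξ (pt ⟨ξ, hξ⟩) (𝟙 Ue))
  have h3 := congrArg ULift.down h2'
  exact congr(($(h3.trans (CategoryTheory.Functor.map_id_apply _ _ _))).left)

end Groth.Agent.EtDescX
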