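import Groth.Agent.EtDescX.Charts
import Groth.Agent.EtDescX.Extend

/-!
# Effectivity of descent for separated etale schemes along integral surjections
-/

universe u

open CategoryTheory CategoryTheory.Limits AlgebraicGeometry Opposite AlgSp Groth.Agent.AlgSpLib Groth.Agent.EtFound

namespace Groth.Agent.EtDescX

set_option autoImplicit false
set_option backward.isDefEq.respectTransparency false
set_option backward.isDefEq.respectTransparency.types false

variable {X S : Scheme.{u}} {p : X ⟶ S}

/-- Extension off geometric fibres along an integral morphism. -/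
theorem exists_fibre_ext [IsIntegralHom p] {U : Scheme.{u}} (u : U ⟶ X) [IsSeparated u] [Etale u]
    {Ω : Type u} [Field Ω] [IsAlgClosed Ω] {η : Spec (CommRingCat.of Ω) ⟶ S}
    (σ₀ : pullback p η ⟶ U) (hσ₀ : σ₀ ≫ u = pullback.fst p η) :
    ∃ (V : Over S) (v : Spec (CommRingCat.of Ω) ⟶ V.left) (hv : v ≫ V.hom = η)
      (σ : pullback V.hom p ⟶ U),
        Etale V.hom ∧ σ ≫ u = pullback.snd V.hom p ∧ fibreMap p v hv ≫ σ = σ₀ := by
  obtain ⟨V, v, σ, hσu, hσ⟩ := exists_extend p u σ₀ hσ₀
  refine ⟨Over.mk V.hom, v.left, CategoryTheory.Over.w v, σ, V.prop, hσu,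
    hom_ext_of_rational (pullback.snd p η) u _ _ ?_ fun l hl => ?_⟩
  · rw [Category.assoc, hσ₀]
    exact (congrArg (fibreMap p _ _ ≫ ·) hσu).trans (fibreMap_snd _ _)
  · let ξ := l ≫ pullback.fst p η
    have hξ : ξ ≫ p = η := by rw [Category.assoc, pullback.condition, ← Category.assoc, hl, Category.id_comp]
    have e : fibreLift p hξ = l := pullback.hom_ext (pullback.lift_fst _ _ _) ((pullback.lift_snd _ _ _).trans hl.symm)
    refine Eq.trans ?_ ((hσ ξ hξ).trans (congrArg (· ≫ σ₀) e))
    rw [← Category.assoc]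
    refine congrArg (· ≫ σ) (pullback.hom_ext ?_ ?_)
    · refine Eq.trans ?_ (liftPt_fst p hξ v).symm
      rw [Category.assoc, fibreMap_fst, ← Category.assoc, hl, Category.id_comp]
    · refine Eq.trans ?_ (pullback.lift_snd _ _ _).symm
      rw [Category.assoc, fibreMap_snd]

/-- Descent data along integral surjections have etale charts. -/
theorem hasCharts_of_integral [IsIntegralHom p] [Surjective p] (D : Desc.SchDD p) [IsSeparated D.obj.hom]
    [Etale D.obj.hom] : HasCharts D :=
  hasCharts_of_ext (𝟙 X) p (univSubmersive_of_universallyClosed _) (Category.id_comp p) fun T c Ω _ _ a => by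
    obtain ⟨V, v, hv, σ, hV, hσu, hσ⟩ := exists_fibre_ext D.obj.hom (fibreMap p a rfl ≫ (val D c).left)
      ((Category.assoc _ _ _).trans ((congrArg (fibreMap p a rfl ≫ ·) (Over.w (val D c))).trans (fibreMap_snd _ _)))
    exact ⟨V, v, hv, Over.homMk σ hσu, hV, isPartCompat_id _ _, hσ⟩

/-- Descent data for quasi-compact separated etale schemes along integral surjections are effective. -/
theorem exists_effective [IsIntegralHom p] [Surjective p] (D : Desc.SchDD p) [QuasiCompact D.obj.hom]
    [IsSeparated D.obj.hom] [Etale D.obj.hom] :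
    ∃ U : Over S, QuasiCompact U.hom ∧ IsSeparated U.hom ∧ Etale U.hom ∧ Nonempty ((Desc.toDD p).obj U ≅ D) := by
  obtain ⟨U, h₁, h₂, h₃, h₄⟩ :=
    exists_effective_of_hasCharts D (univSubmersive_of_universallyClosed p) (hasCharts_of_integral D)
  exact ⟨U, h₃ inferInstance inferInstance, h₁, h₂, h₄⟩

end Groth.Agent.EtDescX
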