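import Groth.Agent.EtDescX.Etale
import Groth.Agent.EtDescX.Descend
import Groth.Agent.EtDescX.Integral

/-!
# Descent along an etale surjection followed by an integral surjection
-/

universe u

open CategoryTheory CategoryTheory.Limits AlgebraicGeometry Opposite AlgSp Groth.Agent.AlgSpLib

namespace Groth.Agent.EtDescX

set_option autoImplicit false
set_option backward.isDefEq.respectTransparency false
set_option backward.isDefEq.respectTransparency.types false

variable {X Z S : Scheme.{u}} {p : X ⟶ S}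

theorem partEq {π : X ⟶ Z} {r : Z ⟶ S} (hr : π ≫ r = p) {T : Scheme.{u}} {x₀ x₁ : T ⟶ X} (h : x₀ ≫ π = x₁ ≫ π) :
    x₀ ≫ p = x₁ ≫ p := by
  rw [← hr, reassoc_of% h]

/-- The descent datum relative to an intermediate scheme. -/
noncomputable def resDD (π : X ⟶ Z) (r : Z ⟶ S) (hr : π ≫ r = p) (D : Desc.SchDD p) : Desc.SchDD π where
  obj := D.obj
  φ T x₀ x₁ h := D.φ x₀ x₁ (partEq hr h)
  φ_natural T T' g x₀ x₁ h h' v v' e := D.φ_natural g x₀ x₁ (partEq hr h) (partEq hr h') v v' e
  φ_self T x v := D.φ_self x v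
  φ_comp T x₀ x₁ x₂ h₀₁ h₁₂ v := D.φ_comp x₀ x₁ x₂ (partEq hr h₀₁) (partEq hr h₁₂) v

/-- Descent data along an etale surjection followed by a universally closed morphism along which sections of
etale schemes extend off geometric fibres have etale charts. -/
theorem hasCharts_of_etale_comp (π : X ⟶ Z) [Etale π] [Surjective π] (r : Z ⟶ S) [UniversallyClosed r]
    (hr : π ≫ r = p)
    (hext : ∀ {U : Scheme.{u}} (u : U ⟶ Z) [IsSeparated u] [Etale u] {Ω : Type u} [Field Ω] [IsAlgClosed Ω]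
      {η : Spec (CommRingCat.of Ω) ⟶ S} (σ₀ : pullback r η ⟶ U), σ₀ ≫ u = pullback.fst r η →
      ∃ (V : Over S) (v : Spec (CommRingCat.of Ω) ⟶ V.left) (hv : v ≫ V.hom = η) (σ : pullback V.hom r ⟶ U),
        Etale V.hom ∧ σ ≫ u = pullback.snd V.hom r ∧ fibreMap r v hv ≫ σ = σ₀)
    (D : Desc.SchDD p) [IsSeparated D.obj.hom] [Etale D.obj.hom] : HasCharts D := by
  have hπ : SGA1.UnivSubmersive π := univSubmersive_of_universallyOpen π
  refine hasCharts_of_ext π r hπ hr fun T c Ω _ _ a => ?_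
  let D' := resDD π r hr D
  have : IsSeparated D'.obj.hom := ‹IsSeparated D.obj.hom›
  have : Etale D'.obj.hom := ‹Etale D.obj.hom›
  obtain ⟨E, hEs, hEe, -, ⟨i⟩⟩ := exists_effective_of_hasCharts D' hπ (hasCharts_of_etale D')
  let w : pullback π E.hom ⟶ D.obj.left := i.hom.hom.left
  have hwu : w ≫ D.obj.hom = pullback.fst π E.hom := Over.w i.hom.hom
  let ri : D.obj.left ⟶ pullback π E.hom := i.inv.hom.left
  have hrw : ri ≫ w = 𝟙 _ := congrArg (fun k : D' ⟶ D' => k.hom.left) i.inv_hom_id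
  have hru : ri ≫ pullback.fst π E.hom = D.obj.hom := Over.w i.inv.hom
  -- the value on the base change of the intermediate scheme
  let σc := val D c
  let η := a ≫ T.hom
  let F := pullback r η
  let Q := pullback π (pullback.fst r η)
  let q₀ : Q ⟶ X := pullback.fst _ _
  let q₁ : Q ⟶ F := pullback.snd _ _
  have hq : q₀ ≫ p = (q₁ ≫ pullback.snd r η) ≫ η := by
    rw [← hr, ← Category.assoc, pullback.condition, Category.assoc, Category.assoc, pullback.condition, ← Category.assoc]
  let f₀ : Q ⟶ pullback T.hom p := pullback.lift q₀ (q₁ ≫ pullback.snd r η) hq ≫ fibreMap p a rfl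
  have hf₀ : f₀ ≫ pullback.snd T.hom p = q₀ := by rw [Category.assoc, fibreMap_snd, pullback.lift_fst]
  have hf₀' : f₀ ≫ pullback.fst T.hom p = q₁ ≫ pullback.snd r η ≫ a := by
    rw [Category.assoc, fibreMap_fst, pullback.lift_snd_assoc, Category.assoc]
  let f : Q ⟶ E.left := f₀ ≫ σc.left ≫ ri ≫ pullback.snd π E.hom
  have hσc : (f₀ ≫ σc.left) ≫ D.obj.hom = q₀ :=
    (Category.assoc _ _ _).trans ((congrArg (f₀ ≫ ·) (Over.w σc)).trans hf₀)
  have hfE : f ≫ E.hom = q₁ ≫ pullback.fst r η := by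
    simp only [f, Category.assoc]
    rw [← pullback.condition (f := π), reassoc_of% hru, ← Category.assoc σc.left, ← Category.assoc f₀,
      ← Category.assoc f₀, hσc]
    exact pullback.condition
  have hq₁ : SGA1.UnivSubmersive q₁ := SGA1Q.univSubmersive_of_isPullback hπ
    (IsPullback.of_hasPullback π (pullback.fst r η)).flip
  obtain ⟨ε, hεu, hε⟩ := exists_descend q₁ hq₁ E.hom (pullback.fst r η) f hfE fun W a₀ a₁ e => by
    have hz : (a₀ ≫ f₀) ≫ pullback.fst T.hom p = (a₁ ≫ f₀) ≫ pullback.fst T.hom p := by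
      simp only [Category.assoc, hf₀']
      rw [reassoc_of% e]
    have hπ' : (a₀ ≫ q₀) ≫ π = (a₁ ≫ q₀) ≫ π := by
      simp only [Category.assoc, q₀, pullback.condition]
      rw [reassoc_of% e]
    have hc := isCompat_val D c (a₀ ≫ f₀) (a₁ ≫ f₀) hz
    let v₀ : Desc.Lifts D'.obj (a₀ ≫ q₀) := ⟨(a₀ ≫ f₀) ≫ σc.left, by
      show _ ≫ D.obj.hom = _
      rw [Category.assoc, Category.assoc, ← Category.assoc f₀, hσc]⟩
    let w₀ : Desc.Lifts ((Desc.toDD π).obj E).obj (a₀ ≫ q₀) := ⟨v₀.1 ≫ ri, (Category.assoc _ _ _).trans ((congrArg (v₀.1 ≫ ·) hru).trans v₀.2)⟩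
    have hi := i.inv.comm (a₀ ≫ q₀) (a₁ ≫ q₀) hπ' v₀ w₀ rfl
    have hcan : (((Desc.toDD π).obj E).φ (a₀ ≫ q₀) (a₁ ≫ q₀) hπ' w₀).1 ≫ pullback.snd π E.hom =
        w₀.1 ≫ pullback.snd π E.hom := pullback.lift_snd _ _ _
    have hv : (D'.φ (a₀ ≫ q₀) (a₁ ≫ q₀) hπ' v₀).1 = (a₁ ≫ f₀) ≫ σc.left := by
      refine (φ_congr (D := D) _ (snd_comp_eq _ _ hz) v₀ _ ?_ ?_ ?_).trans hc
      · rw [Category.assoc, hf₀]
      · rw [Category.assoc, hf₀]
      · rfl
    rw [hi, hv] at hcan
    simp only [f, ← Category.assoc]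
    exact hcan.symm
  -- extension
  obtain ⟨V, v, hv, σE, hV, hσEu, hσE⟩ := hext E.hom ε hεu
  let qm : pullback V.hom p ⟶ pullback V.hom r :=
    pullback.lift (pullback.fst _ _) (pullback.snd _ _ ≫ π) (by rw [Category.assoc, hr]; exact pullback.condition)
  have hqm : qm ≫ pullback.snd V.hom r = pullback.snd V.hom p ≫ π := pullback.lift_snd _ _ _
  let m : pullback V.hom p ⟶ pullback π E.hom :=
    pullback.lift (pullback.snd V.hom p) (qm ≫ σE) (by rw [Category.assoc, hσEu, hqm])
  let σ : Over.mk (pullback.snd V.hom p) ⟶ D.obj :=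
    Over.homMk (m ≫ w) ((Category.assoc _ _ _).trans ((congrArg (m ≫ ·) hwu).trans (pullback.lift_fst _ _ _)))
  refine ⟨V, v, hv, σ, hV, ?_, ?_⟩
  · intro Y z₀ z₁ hz hzπ
    let v₀ : Desc.Lifts ((Desc.toDD π).obj E).obj (z₀ ≫ pullback.snd V.hom p) :=
      ⟨z₀ ≫ m, (Category.assoc _ _ _).trans (congrArg (z₀ ≫ ·) (pullback.lift_fst _ _ _))⟩
    let w₀ : Desc.Lifts D'.obj (z₀ ≫ pullback.snd V.hom p) :=
      ⟨z₀ ≫ σ.left, (Category.assoc _ _ _).trans (congrArg (z₀ ≫ ·) (Over.w σ))⟩
    have hcomm := i.hom.comm _ _ hzπ v₀ w₀ (Category.assoc _ _ _).symm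
    refine (φ_congr (D := D) _ _ _ _ rfl rfl rfl).trans (hcomm.trans ?_)
    refine Eq.trans (congrArg (· ≫ w) ?_) (Category.assoc _ _ _)
    apply pullback.hom_ext
    · exact ((pullback.lift_fst _ _ _).trans (congrArg (z₁ ≫ ·) (pullback.lift_fst _ _ _)).symm).trans (Category.assoc _ _ _).symm
    · refine (pullback.lift_snd _ _ _).trans ?_
      show (z₀ ≫ m) ≫ pullback.snd π E.hom = (z₁ ≫ m) ≫ pullback.snd π E.hom
      simp only [Category.assoc, m, pullback.lift_snd]
      simp only [← Category.assoc]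
      congr 1
      apply pullback.hom_ext
      · simpa only [Category.assoc, qm, pullback.lift_fst] using hz
      · simpa only [Category.assoc, hqm] using hzπ
  · let F₀ := pullback p η
    let n : F₀ ⟶ Q := pullback.lift (pullback.fst p η) (pullback.lift (pullback.fst p η ≫ π) (pullback.snd p η)
      (by rw [Category.assoc, hr]; exact pullback.condition)) (pullback.lift_fst _ _ _).symm
    have hn₀ : n ≫ q₀ = pullback.fst p η := pullback.lift_fst _ _ _
    have hn₁ : n ≫ q₁ ≫ pullback.snd r η = pullback.snd p η := by rw [pullback.lift_snd_assoc, pullback.lift_snd]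
    have hnf : n ≫ f₀ = fibreMap p a rfl := by
      apply pullback.hom_ext
      · rw [Category.assoc, hf₀', fibreMap_fst, reassoc_of% hn₁]
      · rw [Category.assoc, hf₀, hn₀, fibreMap_snd]
    have hnm : fibreMap p v hv ≫ m = n ≫ f₀ ≫ σc.left ≫ ri := by
      apply pullback.hom_ext
      · refine Eq.trans ((Category.assoc _ _ _).trans
          ((congrArg (fibreMap p v hv ≫ ·) (pullback.lift_fst _ _ _)).trans (fibreMap_snd v hv))) (hn₀.symm.trans ?_)
        show n ≫ q₀ = (n ≫ f₀ ≫ σc.left ≫ ri) ≫ pullback.fst π E.hom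
        rw [← hσc, ← hru]
        simp only [Category.assoc]
      · rw [Category.assoc, pullback.lift_snd, Category.assoc, Category.assoc, Category.assoc]
        show fibreMap p v hv ≫ qm ≫ σE = n ≫ f
        rw [← hε, ← hσE, ← Category.assoc, ← Category.assoc n, ← Category.assoc]
        congr 1
        apply pullback.hom_ext
        · simp only [Category.assoc, qm, pullback.lift_fst, fibreMap_fst]
          rw [reassoc_of% hn₁]
        · simp only [Category.assoc, hqm, fibreMap_snd_assoc, fibreMap_snd]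
          rw [← pullback.condition, reassoc_of% hn₀]
    show fibreMap p v hv ≫ m ≫ w = fibreMap p a rfl ≫ σc.left
    rw [reassoc_of% hnm, hrw, reassoc_of% hnf]
    exact congrArg (fibreMap p a rfl ≫ ·) (Category.comp_id _)

/-- Descent data along an etale surjection followed by an integral surjection have etale charts. -/
theorem hasCharts_of_etale_integral (π : X ⟶ Z) [Etale π] [Surjective π] (r : Z ⟶ S) [IsIntegralHom r]
    (hr : π ≫ r = p) (D : Desc.SchDD p) [IsSeparated D.obj.hom] [Etale D.obj.hom] : HasCharts D :=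
  hasCharts_of_etale_comp π r hr (fun u _ _ _ _ _ _ σ₀ hσ₀ => exists_fibre_ext u σ₀ hσ₀) D

end Groth.Agent.EtDescX
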