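import Groth.Prelude.Def_SGA4b
import Groth.Prelude.Def_EtGm
import Groth.Agent.EtFound.Basic
import Mathlib.AlgebraicGeometry.Sites.Fpqc

/-!
# The sheaf of sets represented by an etale scheme
-/

universe u

open CategoryTheory CategoryTheory.Limits AlgebraicGeometry Opposite

namespace Groth.Agent.EtDescX

set_option autoImplicit false
set_option backward.isDefEq.respectTransparency false
set_option backward.isDefEq.respectTransparency.types false

variable {X : Scheme.{u}}

instance subcanonical_etaleTopology : Scheme.etaleTopology.{u}.Subcanonical :=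
  .of_le (Scheme.etaleTopology_le_proetaleTopology.trans Scheme.proetaleTopology_le_fpqcTopology)

/-- Morphisms into a fixed etale scheme, one universe up. -/
noncomputable abbrev homPre (U : X.Etale) : X.Etaleᵒᵖ ⥤ Type (u + 1) :=
  yoneda.obj U ⋙ uliftFunctor.{u + 1, u}

theorem isSheaf_bigHom (W : Scheme.{u}) : Presheaf.IsSheaf X.smallEtaleTopology
    ((Scheme.Etale.forget X ⋙ Over.forget X).op ⋙ yoneda.obj W ⋙ uliftFunctor.{u + 1, u}) := by
  refine ((Scheme.Etale.forget X ⋙ Over.forget X).sheafPushforwardContinuous (Type (u + 1))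
    X.smallEtaleTopology Scheme.etaleTopology).obj ⟨yoneda.obj W ⋙ uliftFunctor.{u + 1, u}, ?_⟩ |>.2
  rw [isSheaf_iff_isSheaf_of_type, Presieve.isSheaf_comp_uliftFunctor_iff]
  exact GrothendieckTopology.Subcanonical.isSheaf_of_isRepresentable _

theorem isSheaf_homPre (U : X.Etale) : Presheaf.IsSheaf X.smallEtaleTopology (homPre U) := by
  rw [isSheaf_iff_isSheaf_of_type]
  intro V R hR x hx
  have hU := (isSheaf_iff_isSheaf_of_type _ _).1 (isSheaf_bigHom (X := X) U.left) R hR
  have hX := (isSheaf_iff_isSheaf_of_type _ _).1 (isSheaf_bigHom (X := X) X) R hR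
  obtain ⟨⟨t⟩, ht, -⟩ := hU (fun W g hg => ⟨(x g hg).down.left⟩)
    (fun W₁ W₂ Z g₁ g₂ f₁ f₂ h₁ h₂ hw => congrArg ULift.up
      (congrArg (fun a : Z ⟶ U => a.left) (congrArg ULift.down (hx g₁ g₂ h₁ h₂ hw))))
  have htX : t ≫ U.hom = V.hom :=
    congrArg ULift.down (hX.isSeparatedFor.ext (t₁ := ULift.up (t ≫ U.hom)) (t₂ := ULift.up V.hom) fun W g hg => by
      refine congrArg ULift.up ?_
      show g.left ≫ t ≫ U.hom = g.left ≫ V.hom
      rw [← Category.assoc, show g.left ≫ t = (x g hg).down.left from congrArg ULift.down (ht g hg),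
        MorphismProperty.Over.w, MorphismProperty.Over.w])
  refine ⟨⟨MorphismProperty.Over.homMk t htX⟩, fun W g hg => ?_, fun y hy => ?_⟩
  · exact congrArg ULift.up (MorphismProperty.Over.Hom.ext (congrArg ULift.down (ht g hg)))
  · refine congrArg ULift.up (MorphismProperty.Over.Hom.ext ?_)
    exact congrArg ULift.down (hU.isSeparatedFor.ext (t₁ := ULift.up y.down.left) (t₂ := ULift.up t)
      fun W g hg => Eq.trans (congrArg ULift.up (congrArg (fun a : W ⟶ U => a.left) (congrArg ULift.down (hy g hg))))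
        (ht g hg).symm)

/-- The sheaf represented by an etale scheme. -/
noncomputable def homSheaf (U : X.Etale) : EtDesc.Sh X := ⟨homPre U, isSheaf_homPre U⟩

/-- Germs of morphisms evaluate to geometric points. -/
noncomputable def evalFiber {Ω : Type u} [Field Ω] [IsSepClosed Ω] (ξ : Spec (CommRingCat.of Ω) ⟶ X) (U : X.Etale) :
    (Scheme.pointSmallEtale ξ).presheafFiber.obj (homPre U) ⟶ ULift.{u + 1} ((Scheme.pointSmallEtale ξ).fiber.obj U) :=
  (Scheme.pointSmallEtale ξ).presheafFiberDesc
    (fun W r => ↾fun a : (homPre U).obj (op W) => ULift.up ((Scheme.pointSmallEtale ξ).fiber.map (ULift.down a) r)) (by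
    intro W W' g r
    refine ConcreteCategory.hom_ext _ _ fun a => ?_
    exact congrArg ULift.up (Functor.map_comp_apply (Scheme.pointSmallEtale ξ).fiber g (ULift.down a) r))

theorem evalFiber_germ {Ω : Type u} [Field Ω] [IsSepClosed Ω] (ξ : Spec (CommRingCat.of Ω) ⟶ X) {U W : X.Etale}
    (r : (Scheme.pointSmallEtale ξ).fiber.obj W) (a : W ⟶ U) :
    evalFiber ξ U ((Scheme.pointSmallEtale ξ).toPresheafFiber (A := Type (u + 1)) W r (homPre U) (ULift.up.{u + 1} a : (homPre U).obj (op W))) =
      ULift.up ((Scheme.pointSmallEtale ξ).fiber.map a r) :=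
  ConcreteCategory.congr_hom (C := Type (u + 1)) ((Scheme.pointSmallEtale ξ).toPresheafFiber_presheafFiberDesc (A := Type (u + 1))
    (P := homPre U) (T := ULift.{u + 1} ((Scheme.pointSmallEtale ξ).fiber.obj U)) _ _ W r) (ULift.up a : (homPre U).obj (op W))

end Groth.Agent.EtDescX
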