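import Groth.Agent.EtDescX.Charts
import Groth.Agent.EtDescX.HomSheaf
import Groth.Agent.EtPBC0.Stalk

/-!
# Effectivity of descent for separated etale schemes along proper surjections
-/

universe u

open CategoryTheory CategoryTheory.Limits AlgebraicGeometry Opposite AlgSp Groth.Agent.AlgSpLib
open Groth.Agent.BigSiteLib.DescSec

namespace Groth.Agent.EtDescX

set_option autoImplicit false
set_option backward.isDefEq.respectTransparency false
set_option backward.isDefEq.respectTransparency.types false

variable {X S : Scheme.{u}}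

/-- Base change of morphisms as a map of sheaves to the direct image. -/
noncomputable def homUnit {P : Scheme.{u}} (k : P ⟶ X) (U : X.Etale) :
    homSheaf U ⟶ (EtDesc.pushSh k).obj (homSheaf ((EtCoh.bc k).obj U)) :=
  ⟨⟨fun W => ↾fun m => ULift.up ((EtCoh.bc k).map (ULift.down m)), fun W W' g => by
    refine ConcreteCategory.hom_ext _ _ fun m => ?_
    exact congrArg ULift.up ((EtCoh.bc k).map_comp g.unop (ULift.down m))⟩⟩

/-- Evaluation of pulled back morphisms. -/
noncomputable def homEval {P : Scheme.{u}} (k : P ⟶ X) (U : X.Etale) :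
    (EtDesc.pullSh k).obj (homSheaf U) ⟶ homSheaf ((EtCoh.bc k).obj U) :=
  ((EtDesc.adjSh k).homEquiv _ _).symm (homUnit k U)

theorem homEval_up {P : Scheme.{u}} (k : P ⟶ X) (U : X.Etale) :
    (homEval k U).hom.app _ (up k (homSheaf U) U (ULift.up.{u + 1} (𝟙 U) : (homPre U).obj (op U))) =
      (ULift.up.{u + 1} (𝟙 ((EtCoh.bc k).obj U)) : (homPre ((EtCoh.bc k).obj U)).obj (op _)) := by
  have h : (EtDesc.adjSh k).unit.app (homSheaf U) ≫ (EtDesc.pushSh k).map (homEval k U) = homUnit k U := by
    refine ((EtDesc.adjSh k).homEquiv_unit _ _ _).symm.trans ?_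
    exact Equiv.apply_symm_apply _ _
  have h2 := congrArg (fun φ : homSheaf U ⟶ (EtDesc.pushSh k).obj (homSheaf ((EtCoh.bc k).obj U)) =>
    φ.hom.app (op U) (ULift.up.{u + 1} (𝟙 U) : (homPre U).obj (op U))) h
  exact h2.trans (congrArg ULift.up ((EtCoh.bc k).map_id U))

/-- A morphism to an etale scheme is determined by the section it pulls back. -/
theorem eq_of_atPt_eq {P : Scheme.{u}} (k : P ⟶ X) (U : X.Etale) (a b : P ⟶ U.left) (ha : a ≫ U.hom = k)
    (hb : b ≫ U.hom = k)
    (h : EtPBC0.atPt k (homSheaf U) U a ha (ULift.up.{u + 1} (𝟙 U) : (homPre U).obj (op U)) =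
      EtPBC0.atPt k (homSheaf U) U b hb (ULift.up.{u + 1} (𝟙 U) : (homPre U).obj (op U))) : a = b := by
  have key : ∀ (c : P ⟶ U.left) (hc : c ≫ U.hom = k),
      (homEval k U).hom.app _ (EtPBC0.atPt k (homSheaf U) U c hc (ULift.up.{u + 1} (𝟙 U) : (homPre U).obj (op U))) =
        (ULift.up.{u + 1} (EtPBC0.secHom k U c hc) : (homPre ((EtCoh.bc k).obj U)).obj (op _)) := fun c hc => by
    refine (NatTrans.naturality_apply (homEval k U).hom (EtPBC0.secHom k U c hc).op _).trans ?_
    rw [homEval_up]
    exact congrArg ULift.up (Category.comp_id (EtPBC0.secHom k U c hc))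
  have := congrArg (ULift.down ∘ (homEval k U).hom.app _) h
  simp only [Function.comp_apply, key] at this
  rw [← EtPBC0.secHom_fst k U a ha, ← EtPBC0.secHom_fst k U b hb, this]

variable {p : X ⟶ S}

/-- Descent data along proper surjections have etale charts. -/
theorem hasCharts_of_proper [IsProper p] [Surjective p] (D : Desc.SchDD p) [IsSeparated D.obj.hom]
    [Etale D.obj.hom] : HasCharts D :=
  hasCharts_of_ext (𝟙 X) p (univSubmersive_of_universallyClosed _) (Category.id_comp p) fun T c Ω _ _ a => by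
    let η := a ≫ T.hom
    let Ue : X.Etale := Scheme.Etale.mk D.obj.hom
    let σ₀ : pullback p η ⟶ D.obj.left := fibreMap p a rfl ≫ (val D c).left
    have hσ₀ : σ₀ ≫ D.obj.hom = pullback.fst p η :=
      (Category.assoc _ _ _).trans ((congrArg (fibreMap p a rfl ≫ ·) (Over.w (val D c))).trans (fibreMap_snd _ _))
    let x₀ : (homPre Ue).obj (op Ue) := ULift.up.{u + 1} (𝟙 Ue)
    obtain ⟨V, v, x, hx⟩ := EtPBC0.exists_phi_eq p (pullback.fst p η) (pullback.snd p η)
      (IsPullback.of_hasPullback p η) (homSheaf Ue)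
      (EtPBC0.atPt (pullback.fst p η) (homSheaf Ue) Ue σ₀ hσ₀ x₀)
    let m : (EtCoh.bc p).obj V ⟶ Ue := ULift.down x
    have hmx : (homPre Ue).map m.op x₀ = x := congrArg ULift.up (Category.comp_id m)
    let l := EtPBC0.fibLift p (pullback.fst p η) (pullback.snd p η) pullback.condition V v
    have hmu : m.left ≫ D.obj.hom = pullback.snd V.hom p := MorphismProperty.Over.w m
    have hl : (l ≫ m.left) ≫ Ue.hom = pullback.fst p η :=
      (Category.assoc _ _ _).trans ((congrArg (l ≫ ·) hmu).trans (pullback.lift_snd _ _ _))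
    have he : l ≫ m.left = σ₀ := by
      refine eq_of_atPt_eq (pullback.fst p η) Ue _ _ hl hσ₀ ?_
      refine Eq.trans ?_ hx
      rw [← hmx]
      exact (EtPBC0.atPt_map (pullback.fst p η) (homSheaf Ue) m l
        (EtPBC0.fibLift_hom p _ _ pullback.condition V v) _ hl rfl x₀).symm
    exact ⟨Over.mk V.hom, v.left, CategoryTheory.Over.w v, Over.homMk m.left hmu, V.prop, isPartCompat_id _ _, he⟩

/-- Descent data for quasi-compact separated etale schemes along proper surjections are effective. -/
theorem exists_effective_of_proper [IsProper p] [Surjective p] (D : Desc.SchDD p) [QuasiCompact D.obj.hom]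
    [IsSeparated D.obj.hom] [Etale D.obj.hom] :
    ∃ U : Over S, QuasiCompact U.hom ∧ IsSeparated U.hom ∧ Etale U.hom ∧ Nonempty ((Desc.toDD p).obj U ≅ D) := by
  obtain ⟨U, h₁, h₂, h₃, h₄⟩ :=
    exists_effective_of_hasCharts D (univSubmersive_of_universallyClosed p) (hasCharts_of_proper D)
  exact ⟨U, h₃ inferInstance inferInstance, h₁, h₂, h₄⟩

end Groth.Agent.EtDescX
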