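import Groth.Agent.EtDescX.Comp
import Groth.Agent.EtDescX.Proper

/-!
# Descent along an etale surjection followed by a proper surjection
-/

universe u

open CategoryTheory CategoryTheory.Limits AlgebraicGeometry Opposite
open Groth.Agent.BigSiteLib.DescSec

namespace Groth.Agent.EtDescX

set_option autoImplicit false
set_option backward.isDefEq.respectTransparency false
set_option backward.isDefEq.respectTransparency.types false

variable {X Z S : Scheme.{u}} {p : X ⟶ S}

/-- Sections of separated etale schemes extend off geometric fibres of proper morphisms. -/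
theorem exists_fibre_ext_proper (r : Z ⟶ S) [IsProper r] {U : Scheme.{u}} (u : U ⟶ Z) [IsSeparated u] [Etale u]
    {Ω : Type u} [Field Ω] [IsAlgClosed Ω] {η : Spec (CommRingCat.of Ω) ⟶ S}
    (σ₀ : pullback r η ⟶ U) (hσ₀ : σ₀ ≫ u = pullback.fst r η) :
    ∃ (V : Over S) (v : Spec (CommRingCat.of Ω) ⟶ V.left) (hv : v ≫ V.hom = η) (σ : pullback V.hom r ⟶ U),
      Etale V.hom ∧ σ ≫ u = pullback.snd V.hom r ∧ fibreMap r v hv ≫ σ = σ₀ := by
  let Ue : Z.Etale := Scheme.Etale.mk u
  let x₀ : (homPre Ue).obj (op Ue) := ULift.up.{u + 1} (𝟙 Ue)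
  obtain ⟨V, v, x, hx⟩ := EtPBC0.exists_phi_eq r (pullback.fst r η) (pullback.snd r η)
    (IsPullback.of_hasPullback r η) (homSheaf Ue) (EtPBC0.atPt (pullback.fst r η) (homSheaf Ue) Ue σ₀ hσ₀ x₀)
  let m : (EtCoh.bc r).obj V ⟶ Ue := ULift.down x
  have hmx : (homPre Ue).map m.op x₀ = x := congrArg ULift.up (Category.comp_id m)
  let l := EtPBC0.fibLift r (pullback.fst r η) (pullback.snd r η) pullback.condition V v
  have hmu : m.left ≫ u = pullback.snd V.hom r := MorphismProperty.Over.w m
  have hl : (l ≫ m.left) ≫ Ue.hom = pullback.fst r η :=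
    (Category.assoc _ _ _).trans ((congrArg (l ≫ ·) hmu).trans (pullback.lift_snd _ _ _))
  have he : l ≫ m.left = σ₀ := by
    refine eq_of_atPt_eq (pullback.fst r η) Ue _ _ hl hσ₀ ?_
    refine Eq.trans ?_ hx
    rw [← hmx]
    exact (EtPBC0.atPt_map (pullback.fst r η) (homSheaf Ue) m l
      (EtPBC0.fibLift_hom r _ _ pullback.condition V v) _ hl rfl x₀).symm
  exact ⟨Over.mk V.hom, v.left, CategoryTheory.Over.w v, m.left, V.prop, hmu, he⟩

/-- Descent data along an etale surjection followed by a proper morphism have etale charts. -/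
theorem hasCharts_of_etale_proper (π : X ⟶ Z) [Etale π] [Surjective π] (r : Z ⟶ S) [IsProper r]
    (hr : π ≫ r = p) (D : Desc.SchDD p) [IsSeparated D.obj.hom] [Etale D.obj.hom] : HasCharts D :=
  hasCharts_of_etale_comp π r hr (fun u _ _ _ _ _ _ σ₀ hσ₀ => exists_fibre_ext_proper r u σ₀ hσ₀) D

end Groth.Agent.EtDescX
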