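import Groth.Agent.EtDescX.Comp

/-!
# Etale localisation on the base
-/

universe u

open CategoryTheory CategoryTheory.Limits AlgebraicGeometry Opposite AlgSp Groth.Agent.AlgSpLib

namespace Groth.Agent.EtDescX

set_option autoImplicit false
set_option backward.isDefEq.respectTransparency false
set_option backward.isDefEq.respectTransparency.types false

variable {X S : Scheme.{u}} {g : X ⟶ S}

/-- The base change of a descent datum along a morphism to the base. -/
noncomputable abbrev baseDD {V : Scheme.{u}} (ν : V ⟶ S) (D : Desc.SchDD g) : Desc.SchDD (pullback.snd g ν) :=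
  resDD (pullback.snd g ν) ν rfl (pullDD (pullback.fst g ν) pullback.condition D)

instance {V : Scheme.{u}} (ν : V ⟶ S) (D : Desc.SchDD g) [IsSeparated D.obj.hom] : IsSeparated (baseDD ν D).obj.hom :=
  inferInstanceAs (IsSeparated (pullback.snd D.obj.hom (pullback.fst g ν)))

instance {V : Scheme.{u}} (ν : V ⟶ S) (D : Desc.SchDD g) [Etale D.obj.hom] : Etale (baseDD ν D).obj.hom :=
  inferInstanceAs (Etale (pullback.snd D.obj.hom (pullback.fst g ν)))

set_option maxHeartbeats 1600000 in
/-- Having etale charts is etale local on the base. -/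
theorem hasCharts_of_local (D : Desc.SchDD g)
    (H : ∀ s : S, ∃ (V : Scheme.{u}) (ν : V ⟶ S), Etale ν ∧ s ∈ Set.range ν ∧ HasCharts (baseDD ν D)) :
    HasCharts D := by
  intro T c t
  obtain ⟨V, ν, hν, hs, hch⟩ := H (T.hom t)
  obtain ⟨v₀, hv₀⟩ := hs
  obtain ⟨t', ht', -⟩ := Scheme.Pullback.exists_preimage_pullback (f := T.hom) (g := ν) t v₀ hv₀.symm
  let σc := val D c
  let T' : Over V := Over.mk (pullback.snd T.hom ν)
  let gV := pullback.snd g ν
  let π₁ : pullback T'.hom gV ⟶ pullback T.hom ν := pullback.fst _ _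
  let π₂ : pullback T'.hom gV ⟶ pullback g ν := pullback.snd _ _
  have hπ : π₁ ≫ pullback.snd T.hom ν = π₂ ≫ gV := pullback.condition
  let jT : pullback T'.hom gV ⟶ pullback T.hom g := pullback.lift (π₁ ≫ pullback.fst T.hom ν) (π₂ ≫ pullback.fst g ν) (by
    rw [Category.assoc, Category.assoc, pullback.condition, pullback.condition (f := g), reassoc_of% hπ])
  have hjT₁ : jT ≫ pullback.fst T.hom g = π₁ ≫ pullback.fst T.hom ν := pullback.lift_fst _ _ _
  have hjT₂ : jT ≫ pullback.snd T.hom g = π₂ ≫ pullback.fst g ν := pullback.lift_snd _ _ _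
  have hjσ : (jT ≫ σc.left) ≫ D.obj.hom = π₂ ≫ pullback.fst g ν :=
    (Category.assoc _ _ _).trans ((congrArg (jT ≫ ·) (Over.w σc)).trans hjT₂)
  let τ : Over.mk (pullback.snd T'.hom gV) ⟶ (baseDD ν D).obj :=
    Over.homMk (pullback.lift (jT ≫ σc.left) π₂ hjσ) (pullback.lift_snd _ _ _)
  have hτ : IsCompat (baseDD ν D) T'.hom τ := by
    intro Z z₀ z₁ e
    refine pullback.hom_ext ?_ ?_
    · show pullback.lift _ _ _ ≫ _ = (z₁ ≫ pullback.lift _ _ _) ≫ _
      refine Eq.trans (pullback.lift_fst _ _ _) (Eq.trans ?_ ((Category.assoc _ _ _).trans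
        ((congrArg (z₁ ≫ ·) (pullback.lift_fst _ _ _)).trans (Category.assoc _ _ _).symm)).symm)
      refine (φ_congr _ _ _ _ ?_ ?_ ?_).trans (isCompat_val D c (z₀ ≫ jT) (z₁ ≫ jT)
        (by
          rw [Category.assoc, Category.assoc, hjT₁]
          exact (Category.assoc _ _ _).symm.trans
            ((congrArg (· ≫ pullback.fst T.hom ν) e).trans (Category.assoc _ _ _))))
      · rw [Category.assoc, Category.assoc, hjT₂]
      · rw [Category.assoc, Category.assoc, hjT₂]
      · show (z₀ ≫ pullback.lift _ _ _) ≫ _ = (z₀ ≫ jT) ≫ σc.left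
        rw [Category.assoc, pullback.lift_fst, Category.assoc]
    · show pullback.lift _ _ _ ≫ _ = (z₁ ≫ pullback.lift _ _ _) ≫ _
      refine (pullback.lift_snd _ _ _).trans ?_
      rw [Category.assoc, pullback.lift_snd]
  obtain ⟨V', B, σ', y, z, b, hV', hyb, hyz⟩ := hch (ofVal (baseDD ν D) τ hτ) t'
  let S' : Over S := Over.mk (V'.hom ≫ ν)
  let l : pullback S'.hom g ⟶ pullback g ν := pullback.lift (pullback.snd _ _) (pullback.fst _ _ ≫ V'.hom)
    (pullback.condition.symm.trans (Category.assoc _ _ _).symm)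
  let jV : pullback S'.hom g ⟶ pullback V'.hom gV := pullback.lift (pullback.fst _ _) l (pullback.lift_snd _ _ _).symm
  have hjV₁ : jV ≫ pullback.fst V'.hom gV = pullback.fst S'.hom g := pullback.lift_fst _ _ _
  have hjV₂ : jV ≫ pullback.snd V'.hom gV ≫ pullback.fst g ν = pullback.snd S'.hom g := by
    rw [pullback.lift_snd_assoc, pullback.lift_fst]
  let s' : pullback V'.hom gV ⟶ D.obj.left := (val _ σ').left ≫ pullback.fst D.obj.hom (pullback.fst g ν)
  have hs' : s' ≫ D.obj.hom = pullback.snd V'.hom gV ≫ pullback.fst g ν := by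
    rw [Category.assoc, pullback.condition, ← Category.assoc]
    exact congrArg (· ≫ pullback.fst g ν) (Over.w (val _ σ'))
  let σ : Over.mk (pullback.snd S'.hom g) ⟶ D.obj :=
    Over.homMk (jV ≫ s') (by
      show (jV ≫ s') ≫ D.obj.hom = pullback.snd S'.hom g
      rw [Category.assoc, hs', hjV₂])
  have hσ : IsCompat D S'.hom σ := by
    intro Z z₀ z₁ e
    have e' : (z₀ ≫ jV) ≫ pullback.fst V'.hom gV = (z₁ ≫ jV) ≫ pullback.fst V'.hom gV := by
      rw [Category.assoc, Category.assoc, hjV₁, e]
    have hc := congrArg (· ≫ pullback.fst D.obj.hom (pullback.fst g ν)) (isCompat_val _ σ' (z₀ ≫ jV) (z₁ ≫ jV) e')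
    change pullback.lift _ _ _ ≫ pullback.fst _ _ = _ at hc
    rw [pullback.lift_fst] at hc
    refine (φ_congr _ _ _ _ ?_ ?_ ?_).trans (hc.trans ?_)
    · simp only [Category.assoc]; rw [hjV₂]
    · simp only [Category.assoc]; rw [hjV₂]
    · show z₀ ≫ jV ≫ s' = _
      simp only [pushLift, s', Category.assoc]
    · show _ = z₁ ≫ jV ≫ s'
      simp only [s', Category.assoc]
  let W : Over S := Over.mk (B.hom ≫ ν)
  let y' : W ⟶ T := Over.homMk (y.left ≫ pullback.fst T.hom ν) (by
    show (y.left ≫ pullback.fst T.hom ν) ≫ T.hom = B.hom ≫ ν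
    rw [← Over.w y, Category.assoc, Category.assoc, pullback.condition]
    rfl)
  let z' : W ⟶ S' := Over.homMk z.left (by
    show z.left ≫ V'.hom ≫ ν = B.hom ≫ ν
    rw [← Over.w z, Category.assoc])
  refine ⟨S', W, ofVal D σ hσ, y', z', b, ?_, ?_, val_injective D ?_⟩
  · have : Etale V'.hom := hV'
    have : Etale ν := hν
    exact inferInstanceAs (Etale (V'.hom ≫ ν))
  · exact (Scheme.Hom.comp_apply _ _ _).trans ((congrArg _ hyb).trans ht')
  rw [val_comp, val_comp, val_ofVal]
  refine Over.OverMorphism.ext ?_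
  let lW : pullback W.hom g ⟶ pullback g ν := pullback.lift (pullback.snd _ _) (pullback.fst _ _ ≫ B.hom)
    (pullback.condition.symm.trans (Category.assoc _ _ _).symm)
  let jW : pullback W.hom g ⟶ pullback B.hom gV := pullback.lift (pullback.fst _ _) lW (pullback.lift_snd _ _ _).symm
  have hsec := congrArg (fun i => jW ≫ i.left ≫ pullback.fst D.obj.hom (pullback.fst g ν))
    ((val_comp _ y _).symm.trans ((congrArg (val (baseDD ν D)) hyz).trans (val_comp _ z σ')))
  rw [val_ofVal] at hsec
  let my := ((Over.pullback gV).map y).left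
  let mz := ((Over.pullback gV).map z).left
  let my' := ((Over.pullback g).map y').left
  let mz' := ((Over.pullback g).map z').left
  have hy₁ : my' = jW ≫ my ≫ jT := by
    apply pullback.hom_ext
    · simp only [Category.assoc, hjT₁]
      rw [show my ≫ π₁ ≫ pullback.fst T.hom ν = (pullback.fst B.hom gV ≫ y.left) ≫ pullback.fst T.hom ν from
        (Category.assoc _ _ _).symm.trans (congrArg (· ≫ pullback.fst T.hom ν) (pullback.lift_fst _ _ _))]
      simp only [jW, Category.assoc, pullback.lift_fst_assoc]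
      exact pullback.lift_fst _ _ _
    · simp only [Category.assoc, hjT₂]
      rw [show my ≫ π₂ ≫ pullback.fst g ν = pullback.snd B.hom gV ≫ pullback.fst g ν from
        (Category.assoc _ _ _).symm.trans (congrArg (· ≫ pullback.fst g ν) (pullback.lift_snd _ _ _))]
      simp only [jW, lW, pullback.lift_snd_assoc, pullback.lift_fst]
      exact pullback.lift_snd _ _ _
  have hz₁ : mz' ≫ jV = jW ≫ mz := by
    apply pullback.hom_ext
    · rw [Category.assoc, hjV₁, Category.assoc,
        show mz ≫ pullback.fst V'.hom gV = pullback.fst B.hom gV ≫ z.left from pullback.lift_fst _ _ _,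
        pullback.lift_fst_assoc]
      exact pullback.lift_fst _ _ _
    · rw [Category.assoc, pullback.lift_snd, Category.assoc,
        show mz ≫ pullback.snd V'.hom gV = pullback.snd B.hom gV from pullback.lift_snd _ _ _, pullback.lift_snd]
      apply pullback.hom_ext
      · rw [Category.assoc, pullback.lift_fst, pullback.lift_fst]
        exact pullback.lift_snd _ _ _
      · rw [Category.assoc, pullback.lift_snd, pullback.lift_snd, ← Category.assoc,
          show mz' ≫ pullback.fst S'.hom g = pullback.fst W.hom g ≫ z.left from pullback.lift_fst _ _ _,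
          Category.assoc, Over.w z]
  show my' ≫ σc.left = mz' ≫ jV ≫ s'
  rw [hy₁, ← Category.assoc mz', hz₁]
  refine Eq.trans ?_ (hsec.trans (Category.assoc _ _ _).symm) |>.trans ?_
  · show _ = jW ≫ (my ≫ pullback.lift _ _ _) ≫ pullback.fst _ _
    simp only [Category.assoc, pullback.lift_fst]
  · simp only [Category.assoc]
    rfl

end Groth.Agent.EtDescX
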