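import Groth.Agent.EtDescX.Effective
import Groth.Agent.EtDescX.Local
import Groth.Agent.AlgSpDec.OpenGlue

/-!
# Effectivity of descent for etale schemes is local on the base
-/

universe u

open CategoryTheory CategoryTheory.Limits AlgebraicGeometry Opposite AlgSp Groth.Agent.AlgSpLib Groth.Agent.AlgSpDec

namespace Groth.Agent.EtDescX

set_option autoImplicit false
set_option backward.isDefEq.respectTransparency false
set_option backward.isDefEq.respectTransparency.types false

/-- Morphisms into unramified schemes agreeing after a surjection agree. -/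
theorem hom_ext_of_surjective_unramified {Y Z U B : Scheme.{u}} (π : Y ⟶ Z) [Surjective π] (u : U ⟶ B)
    [FormallyUnramified u] [LocallyOfFiniteType u] (a b : Z ⟶ U) (h : a ≫ u = b ≫ u) (e : π ≫ a = π ≫ b) :
    a = b := by
  let k : Z ⟶ pullback u u := pullback.lift a b h
  have hr : Set.range k ⊆ Set.range (pullback.diagonal u) := by
    rintro _ ⟨z, rfl⟩
    obtain ⟨y, rfl⟩ := π.surjective z
    refine ⟨(π ≫ a) y, ?_⟩
    have : (π ≫ a) ≫ pullback.diagonal u = π ≫ k := by
      apply pullback.hom_ext <;> simp [k, e]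
    rw [← Scheme.Hom.comp_apply, this, Scheme.Hom.comp_apply]
  have hl := IsOpenImmersion.lift_fac (pullback.diagonal u) k hr
  have h1 := congrArg (· ≫ pullback.fst u u) hl
  have h2 := congrArg (· ≫ pullback.snd u u) hl
  simp only [Category.assoc, pullback.diagonal_fst, pullback.diagonal_snd, Category.comp_id, k,
    pullback.lift_fst, pullback.lift_snd] at h1 h2
  exact h1.symm.trans h2

variable {X S V : Scheme.{u}} {g : X ⟶ S} (ν : V ⟶ S) (E : Over V)

theorem mT_eq {T : Over S} (k : T.left ⟶ E.left) (hk : k ≫ E.hom ≫ ν = T.hom) :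
    pullback.snd T.hom g ≫ g = (pullback.fst T.hom g ≫ k ≫ E.hom) ≫ ν := by
  simp only [Category.assoc, hk, pullback.condition]

/-- The map of base changes attached to a morphism to an object over an open piece. -/
noncomputable def mT {T : Over S} (k : T.left ⟶ E.left) (hk : k ≫ E.hom ≫ ν = T.hom) :
    pullback T.hom g ⟶ pullback (pullback.snd g ν) E.hom :=
  pullback.lift (pullback.lift (pullback.snd T.hom g) (pullback.fst T.hom g ≫ k ≫ E.hom) (mT_eq ν E k hk))
    (pullback.fst T.hom g ≫ k) (by rw [pullback.lift_snd, Category.assoc])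

variable {D : Desc.SchDD g} (i : (Desc.toDD (pullback.snd g ν)).obj E ≅ baseDD ν D)

theorem localSect_w {T : Over S} (k : T.left ⟶ E.left) (hk : k ≫ E.hom ≫ ν = T.hom) :
    (mT ν E k hk ≫ i.hom.hom.left ≫ pullback.fst _ _) ≫ D.obj.hom = pullback.snd T.hom g := by
  have hw : i.hom.hom.left ≫ pullback.snd D.obj.hom (pullback.fst g ν) = pullback.fst (pullback.snd g ν) E.hom :=
    Over.w i.hom.hom
  refine (Category.assoc _ _ _).trans ((congrArg (mT ν E k hk ≫ ·) ((Category.assoc _ _ _).trans
    ((congrArg (i.hom.hom.left ≫ ·) pullback.condition).trans ((Category.assoc _ _ _).symm.trans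
      (congrArg (· ≫ pullback.fst g ν) hw))))).trans ?_)
  simp only [mT, pullback.lift_fst_assoc, pullback.lift_fst]

/-- The section attached to a morphism to an object inducing the restricted descent datum. -/
noncomputable def localSect {T : Over S} (k : T.left ⟶ E.left) (hk : k ≫ E.hom ≫ ν = T.hom) :
    Over.mk (pullback.snd T.hom g) ⟶ D.obj :=
  Over.homMk (mT ν E k hk ≫ i.hom.hom.left ≫ pullback.fst _ _) (localSect_w ν E i k hk)

theorem isCompat_localSect {T : Over S} (k : T.left ⟶ E.left) (hk : k ≫ E.hom ≫ ν = T.hom) :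
    IsCompat D T.hom (localSect ν E i k hk) := by
  intro Z z₀ z₁ h
  let q := pullback.fst (pullback.snd g ν) E.hom
  let x₀ := z₀ ≫ mT ν E k hk ≫ q
  let x₁ := z₁ ≫ mT ν E k hk ≫ q
  have hx : x₀ ≫ pullback.snd g ν = x₁ ≫ pullback.snd g ν := by
    simp only [x₀, x₁, q, Category.assoc, mT, pullback.lift_fst_assoc, pullback.lift_snd]
    rw [reassoc_of% h]
  let v₀ : Desc.Lifts ((Desc.toDD (pullback.snd g ν)).obj E).obj x₀ := ⟨z₀ ≫ mT ν E k hk, Category.assoc _ _ _⟩
  let w₀ : Desc.Lifts (baseDD ν D).obj x₀ := Desc.SchDD.Hom.push i.hom v₀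
  have hφ : (((Desc.toDD (pullback.snd g ν)).obj E).φ x₀ x₁ hx v₀).1 = z₁ ≫ mT ν E k hk := by
    refine pullback.hom_ext ?_ ?_
    · exact (pullback.lift_fst _ _ _).trans (Category.assoc _ _ _).symm
    · refine (pullback.lift_snd _ _ _).trans ?_
      show (z₀ ≫ mT ν E k hk) ≫ _ = (z₁ ≫ mT ν E k hk) ≫ _
      simp only [mT, Category.assoc, pullback.lift_snd]
      rw [reassoc_of% h]
  have hc := congrArg (· ≫ pullback.fst D.obj.hom (pullback.fst g ν))
    ((i.hom.comm x₀ x₁ hx v₀ w₀ rfl).trans (congrArg (· ≫ i.hom.hom.left) hφ))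
  change pullback.lift _ _ _ ≫ pullback.fst _ _ = _ at hc
  rw [pullback.lift_fst] at hc
  refine (φ_congr _ _ _ _ ?_ ?_ ?_).trans (hc.trans ?_)
  · simp only [x₀, q, Category.assoc, mT, pullback.lift_fst]
  · simp only [x₁, q, Category.assoc, mT, pullback.lift_fst]
  · show z₀ ≫ mT ν E k hk ≫ i.hom.hom.left ≫ pullback.fst _ _ =
      ((z₀ ≫ mT ν E k hk) ≫ i.hom.hom.left) ≫ pullback.fst _ _
    simp only [Category.assoc]
  · show ((z₁ ≫ mT ν E k hk) ≫ i.hom.hom.left) ≫ pullback.fst _ _ =
      z₁ ≫ mT ν E k hk ≫ i.hom.hom.left ≫ pullback.fst _ _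
    simp only [Category.assoc]

/-- The object inducing the restricted descent datum, over the base. -/
noncomputable abbrev pieceOver : Over S := Over.mk (E.hom ≫ ν)

/-- Its map to the sheaf of sections. -/
noncomputable def pieceMap : (yon S).obj (pieceOver ν E) ⟶ sectSp D :=
  ofVal D (localSect ν E i (T := pieceOver ν E) (𝟙 E.left) (Category.id_comp _)) (isCompat_localSect ν E i _ _)

theorem val_pieceMap {T : Over S} (k : T ⟶ pieceOver ν E) :
    val D ((yon S).map k ≫ pieceMap ν E i) = localSect ν E i k.left (Over.w k) := by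
  rw [val_comp, pieceMap, val_ofVal]
  refine Over.OverMorphism.ext ?_
  show ((Over.pullback g).map k).left ≫ _ ≫ _ = mT ν E k.left _ ≫ _
  rw [← Category.assoc]
  congr 1
  have a₁ : ((Over.pullback g).map k).left ≫ pullback.fst (E.hom ≫ ν) g = pullback.fst T.hom g ≫ k.left :=
    pullback.lift_fst _ _ _
  have a₂ : ((Over.pullback g).map k).left ≫ pullback.snd (E.hom ≫ ν) g = pullback.snd T.hom g := pullback.lift_snd _ _ _
  refine pullback.hom_ext (pullback.hom_ext ?_ ?_) ?_
  · simp only [mT, Category.assoc, pullback.lift_fst]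
    exact a₂
  · simp only [mT, Category.assoc, pullback.lift_snd, pullback.lift_fst_assoc]
    refine ((reassoc_of% a₁) _).trans ?_
    exact congrArg (fun z => pullback.fst T.hom g ≫ k.left ≫ z) (Category.id_comp E.hom)
  · simp only [mT, Category.assoc, pullback.lift_snd]
    refine ((reassoc_of% a₁) _).trans ?_
    exact congrArg (pullback.fst T.hom g ≫ ·) (Category.comp_id k.left)

variable (hg : SGA1.UnivSubmersive g) [Etale E.hom] [Mono ν]

omit [Mono ν] in
include hg in
/-- A morphism to an object inducing the restricted datum is determined by its section and its structure map. -/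
theorem localSect_injective_of_eq {T : Over S} (k₁ k₂ : T.left ⟶ E.left) (hk₁ : k₁ ≫ E.hom ≫ ν = T.hom)
    (hk₂ : k₂ ≫ E.hom ≫ ν = T.hom) (hE : k₁ ≫ E.hom = k₂ ≫ E.hom)
    (h : localSect ν E i k₁ hk₁ = localSect ν E i k₂ hk₂) : k₁ = k₂ := by
  have hw : i.hom.hom.left ≫ pullback.snd D.obj.hom (pullback.fst g ν) = pullback.fst (pullback.snd g ν) E.hom :=
    Over.w i.hom.hom
  let m₁ : pullback T.hom g ⟶ pullback (pullback.snd g ν) E.hom := mT ν E k₁ hk₁
  let m₂ : pullback T.hom g ⟶ pullback (pullback.snd g ν) E.hom := mT ν E k₂ hk₂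
  have hm : m₁ ≫ i.hom.hom.left = m₂ ≫ i.hom.hom.left := by
    refine pullback.hom_ext ?_ ?_
    · exact (Category.assoc _ _ _).trans ((congrArg CommaMorphism.left h).trans (Category.assoc _ _ _).symm)
    · refine (Category.assoc _ _ _).trans ((congrArg (m₁ ≫ ·) hw).trans
        (Eq.trans ?_ ((Category.assoc _ _ _).trans (congrArg (m₂ ≫ ·) hw)).symm))
      simp only [m₁, m₂, mT, pullback.lift_fst, hE]
  have hri : i.hom.hom.left ≫ i.inv.hom.left = 𝟙 _ :=
    congrArg (fun k : (Desc.toDD (pullback.snd g ν)).obj E ⟶ (Desc.toDD (pullback.snd g ν)).obj E => k.hom.left) i.hom_inv_id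
  have hm' : m₁ = m₂ := (Category.comp_id _).symm.trans ((congrArg (m₁ ≫ ·) hri).symm.trans
    ((Category.assoc _ _ _).symm.trans ((congrArg (· ≫ i.inv.hom.left) hm).trans ((Category.assoc _ _ _).trans
      ((congrArg (m₂ ≫ ·) hri).trans (Category.comp_id _))))))
  have hs := congrArg (· ≫ pullback.snd _ _) hm'
  simp only [m₁, m₂, mT, pullback.lift_snd] at hs
  have : Surjective (pullback.fst T.hom g) := ⟨(SGA1Q.isQuotientMap_fst hg T.hom).surjective⟩
  exact hom_ext_of_surjective_unramified (pullback.fst T.hom g) E.hom _ _ hE hs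

include hg in
theorem localSect_injective {T : Over S} (k₁ k₂ : T ⟶ pieceOver ν E)
    (h : localSect ν E i k₁.left (Over.w k₁) = localSect ν E i k₂.left (Over.w k₂)) : k₁ = k₂ :=
  Over.OverMorphism.ext (localSect_injective_of_eq ν E i hg _ _ _ _ (by
    rw [← cancel_mono ν, Category.assoc, Category.assoc]
    exact (Over.w k₁).trans (Over.w k₂).symm) h)

omit [Mono ν] in
include hg in
theorem exists_localSect_eq' {T : Over S} (t : T.left ⟶ V) (ht : t ≫ ν = T.hom)
    (σ : Over.mk (pullback.snd T.hom g) ⟶ D.obj) (hσ : IsCompat D T.hom σ) :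
    ∃ k : T ⟶ pieceOver ν E, k.left ≫ E.hom = t ∧ localSect ν E i k.left (Over.w k) = σ := by
  let gV := pullback.snd g ν
  let l : pullback T.hom g ⟶ pullback g ν := pullback.lift (pullback.snd _ _) (pullback.fst _ _ ≫ t)
    (by rw [Category.assoc, ht, pullback.condition])
  have hr' : σ.left ≫ D.obj.hom = l ≫ pullback.fst g ν := (Over.w σ).trans (pullback.lift_fst _ _ _).symm
  let r : pullback T.hom g ⟶ (baseDD ν D).obj.left := pullback.lift σ.left l hr'
  let ri : (baseDD ν D).obj.left ⟶ pullback gV E.hom := i.inv.hom.left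
  have hri : ri ≫ pullback.fst gV E.hom = pullback.snd D.obj.hom (pullback.fst g ν) := Over.w i.inv.hom
  let f : pullback T.hom g ⟶ E.left := r ≫ ri ≫ pullback.snd gV E.hom
  have hfE : f ≫ E.hom = pullback.fst T.hom g ≫ t := by
    simp only [f, Category.assoc]
    rw [← pullback.condition, reassoc_of% hri, ← Category.assoc, show r ≫ pullback.snd _ _ = l from pullback.lift_snd _ _ _]
    exact pullback.lift_snd _ _ _
  obtain ⟨k, hkE, hk⟩ := exists_descend (pullback.fst T.hom g)
      (SGA1Q.univSubmersive_of_isPullback hg (IsPullback.of_hasPullback T.hom g)) E.hom t f hfE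
      fun Z a₀ a₁ e => by
    have hx : (a₀ ≫ l) ≫ gV = (a₁ ≫ l) ≫ gV := by
      simp only [Category.assoc, l, gV, pullback.lift_snd]
      rw [reassoc_of% e]
    let w₀ : Desc.Lifts (baseDD ν D).obj (a₀ ≫ l) :=
      ⟨a₀ ≫ r, (Category.assoc _ _ _).trans (congrArg (a₀ ≫ ·) (pullback.lift_snd _ _ _))⟩
    have hw₁ : ((baseDD ν D).φ (a₀ ≫ l) (a₁ ≫ l) hx w₀).1 = a₁ ≫ r := by
      refine pullback.hom_ext ?_ ?_
      · refine (pullback.lift_fst _ _ _).trans ((φ_congr _ _ _ _ ?_ ?_ ?_).trans
          ((hσ a₀ a₁ e).trans ((congrArg (a₁ ≫ ·) (pullback.lift_fst _ _ _)).symm.trans (Category.assoc _ _ _).symm)))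
        · rw [Category.assoc, pullback.lift_fst]
        · rw [Category.assoc, pullback.lift_fst]
        · exact (Category.assoc _ _ _).trans (congrArg (a₀ ≫ ·) (pullback.lift_fst _ _ _))
      · exact (pullback.lift_snd _ _ _).trans ((congrArg (a₁ ≫ ·) (pullback.lift_snd _ _ _)).symm.trans
          (Category.assoc _ _ _).symm)
    have hc := congrArg (· ≫ pullback.snd gV E.hom)
      (i.inv.comm (a₀ ≫ l) (a₁ ≫ l) hx w₀ (Desc.SchDD.Hom.push i.inv w₀) rfl)
    change pullback.lift _ _ _ ≫ pullback.snd _ _ = _ at hc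
    rw [pullback.lift_snd] at hc
    calc a₀ ≫ f = ((a₀ ≫ r) ≫ ri) ≫ pullback.snd gV E.hom := by simp only [f, Category.assoc]
      _ = (((baseDD ν D).φ (a₀ ≫ l) (a₁ ≫ l) hx w₀).1 ≫ ri) ≫ pullback.snd gV E.hom := hc
      _ = a₁ ≫ f := by rw [hw₁]; simp only [f, Category.assoc]
  let k' : T ⟶ pieceOver ν E := Over.homMk k (by
    show k ≫ E.hom ≫ ν = T.hom
    rw [reassoc_of% hkE, ht])
  refine ⟨k', hkE, Over.OverMorphism.ext ?_⟩
  have hm : mT ν E k'.left (Over.w k') = r ≫ ri := by
    refine pullback.hom_ext ?_ ?_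
    · refine (pullback.lift_fst _ _ _).trans (Eq.trans ?_ ((Category.assoc _ _ _).trans (congrArg (r ≫ ·) hri)).symm)
      refine Eq.trans (pullback.hom_ext ?_ ?_) (pullback.lift_snd _ _ _).symm
      · rw [pullback.lift_fst, pullback.lift_fst]
      · rw [pullback.lift_snd, pullback.lift_snd]
        exact congrArg (pullback.fst T.hom g ≫ ·) hkE
    · exact (pullback.lift_snd _ _ _).trans (hk.trans (Category.assoc _ _ _).symm)
  show mT ν E k'.left _ ≫ i.hom.hom.left ≫ pullback.fst _ _ = σ.left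
  rw [hm, Category.assoc, ← Category.assoc ri]
  have hwi : ri ≫ i.hom.hom.left = 𝟙 _ := congrArg (fun z : baseDD ν D ⟶ baseDD ν D => z.hom.left) i.inv_hom_id
  exact (congrArg (fun z => r ≫ z ≫ pullback.fst _ _) hwi).trans
    ((congrArg (r ≫ ·) (Category.id_comp _)).trans (pullback.lift_fst _ _ _))

omit [Mono ν] in
include hg in
theorem exists_localSect_eq {T : Over S} (t : T.left ⟶ V) (ht : t ≫ ν = T.hom)
    (σ : Over.mk (pullback.snd T.hom g) ⟶ D.obj) (hσ : IsCompat D T.hom σ) :
    ∃ k : T ⟶ pieceOver ν E, localSect ν E i k.left (Over.w k) = σ :=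
  let ⟨k, _, hk⟩ := exists_localSect_eq' ν E i hg t ht σ hσ
  ⟨k, hk⟩

variable [IsOpenImmersion ν]

include hg in
/-- The piece is an open subfunctor of the sheaf of sections. -/
theorem repWith_pieceMap : RepWith @IsOpenImmersion (pieceMap ν E i) := by
  refine MorphismProperty.relative.of_exists fun T c => ?_
  let O : T.left.Opens := T.hom ⁻¹ᵁ ν.opensRange
  let R : Over S := Over.mk (O.ι ≫ T.hom)
  let j : R ⟶ T := Over.homMk O.ι rfl
  have hj : Mono j := (Over.forget S).mono_of_mono_map (inferInstanceAs (Mono O.ι))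
  have hr : Set.range R.hom ⊆ Set.range ν := by
    rintro _ ⟨q, rfl⟩
    exact q.2
  obtain ⟨k, hk⟩ := exists_localSect_eq ν E i hg (T := R) (IsOpenImmersion.lift ν R.hom hr)
    (IsOpenImmersion.lift_fac _ _ hr) (val D ((yon S).map j ≫ c)) (isCompat_val D _)
  have hkc : (yon S).map k ≫ pieceMap ν E i = (yon S).map j ≫ c :=
    val_injective D ((val_pieceMap ν E i k).trans hk)
  refine ⟨R, (yon S).map k, j, isPullback_of_points hkc ?_ ?_, inferInstanceAs (IsOpenImmersion O.ι)⟩
  · intro Z x y _ hy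
    obtain ⟨x, rfl⟩ := (yon S).map_surjective x
    obtain ⟨y, rfl⟩ := (yon S).map_surjective y
    rw [← Functor.map_comp, ← Functor.map_comp] at hy
    rw [(cancel_mono j).1 ((yon S).map_injective hy)]
  · intro Z x y hxy
    obtain ⟨x, rfl⟩ := (yon S).map_surjective x
    obtain ⟨y, rfl⟩ := (yon S).map_surjective y
    have hr : Set.range y.left ⊆ Set.range O.ι := by
      rw [Scheme.Opens.range_ι]
      rintro _ ⟨q, rfl⟩
      refine ⟨(x.left ≫ E.hom) q, ?_⟩
      rw [← Scheme.Hom.comp_apply, ← Scheme.Hom.comp_apply, Category.assoc, Over.w y]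
      exact congrArg (fun z : Z.left ⟶ S => z q) (Over.w x)
    let l : Z ⟶ R := Over.homMk (IsOpenImmersion.lift O.ι y.left hr) (by
      show IsOpenImmersion.lift O.ι y.left hr ≫ O.ι ≫ T.hom = _
      rw [IsOpenImmersion.lift_fac_assoc]
      exact Over.w y)
    have hl : l ≫ j = y := Over.OverMorphism.ext (IsOpenImmersion.lift_fac _ _ hr)
    refine ⟨(yon S).map l, ?_, by rw [← Functor.map_comp, hl]⟩
    rw [← Functor.map_comp]
    congr 1
    refine localSect_injective ν E i hg _ _ ?_
    rw [← val_pieceMap, ← val_pieceMap, hxy, Functor.map_comp, Category.assoc, hkc, ← Functor.map_comp_assoc, hl]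

variable {ν E}

omit ν E i [Etale E.hom] [Mono ν] [IsOpenImmersion ν]

/-- Effectivity of descent for etale schemes along universally submersive morphisms is local on the base. -/
theorem exists_effective_of_open_cover (hg : SGA1.UnivSubmersive g) (D : Desc.SchDD g) {ι : Type u}
    (V : ι → S.Opens) (hV : ⨆ i, V i = ⊤)
    (H : ∀ i, ∃ E : Over (V i : Scheme.{u}), Etale E.hom ∧
      Nonempty ((Desc.toDD (pullback.snd g (V i).ι)).obj E ≅ baseDD (V i).ι D)) :
    ∃ U : Over S, Etale U.hom ∧ Nonempty ((Desc.toDD g).obj U ≅ D) := by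
  choose E hE hi using H
  let T : ι → Over S := fun i => pieceOver (V i).ι (E i)
  let j : ∀ i, (yon S).obj (T i) ⟶ sectSp D := fun i => pieceMap (V i).ι (E i) (hi i).some
  have hj : ∀ i, RepWith @IsOpenImmersion (j i) := fun i =>
    have := hE i
    repWith_pieceMap (V i).ι (E i) (hi i).some hg
  have hc : ∀ x, ∃ i v, Points.ofPt (j i) v = x := by
    intro x
    induction x using Points.ind with
    | h p =>
      obtain ⟨K, str, a⟩ := p
      have hs : str (IsLocalRing.closedPoint K) ∈ ⨆ i, V i := by rw [hV]; trivial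
      obtain ⟨i, hi'⟩ := TopologicalSpace.Opens.mem_iSup.1 hs
      have := hE i
      have hr : Set.range str ⊆ Set.range (V i).ι := by
        rintro _ ⟨q, rfl⟩
        rw [Scheme.Opens.range_ι, show q = IsLocalRing.closedPoint K from Subsingleton.elim _ _]
        exact hi'
      obtain ⟨k, hk⟩ := exists_localSect_eq (V i).ι (E i) (hi i).some hg (T := Over.mk str)
        (IsOpenImmersion.lift (V i).ι str hr) (IsOpenImmersion.lift_fac _ _ hr)
        (val D ((J S).uliftYonedaEquiv.symm a)) (isCompat_val D _)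
      have hkc : (yon S).map k ≫ j i = (J S).uliftYonedaEquiv.symm a :=
        val_injective D ((val_pieceMap _ _ _ k).trans hk)
      refine ⟨i, k.left (IsLocalRing.closedPoint K), ?_⟩
      refine (Points.ofPt_eq_map_ofScheme _ _).trans
        ((congrArg (Points.map (j i)) (Points.ofScheme_apply_eq_mk (T i) (K := K) k.left (Over.w k))).trans ?_)
      rw [Points.map_mk]
      have ha : (J S).uliftYonedaEquiv ((yon S).map k ≫ j i) = a := by rw [hkc, Equiv.apply_symm_apply]
      rw [GrothendieckTopology.uliftYonedaEquiv_comp] at ha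
      exact congrArg (fun z => Points.mk (⟨K, str, z⟩ : FieldPt (sectSp D))) ha
  obtain ⟨Q, ⟨e⟩, -⟩ := exists_iso_of_open_cover T j hj hc
  refine ⟨Q, ?_, nonempty_iso_of_rep Q e⟩
  choose k hk using fun i => (yon S).map_surjective (j i ≫ e.inv)
  have hopen : ∀ i, IsOpenImmersion (k i).left := fun i =>
    (repWith_yon_map_iff _ (k i)).1 (hk i ▸ MorphismProperty.RespectsIso.postcomp _ _ _ (hj i))
  have hcov : ∀ x : Q.left, ∃ i v, (k i).left v = x := fun x => by
    obtain ⟨i, v, hv⟩ := hc (Points.ofPt e.hom x)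
    refine ⟨i, v, ?_⟩
    show (k i).left v = x
    have h := congrArg (fun z => Points.toScheme Q (Points.map e.inv z)) hv
    simp only [Points.map_ofPt, Iso.hom_inv_id] at h
    rw [← hk i, Points.toScheme_ofPt] at h
    exact h.trans (Points.toScheme_ofScheme Q x)
  let 𝒰 : Q.left.OpenCover :=
    Scheme.Cover.mkOfCovers ι (fun i => (T i).left) (fun i => (k i).left) hcov hopen
  refine IsZariskiLocalAtSource.of_openCover 𝒰 fun i => ?_
  show Etale ((k i).left ≫ Q.hom)
  rw [Over.w (k i)]
  have := hE i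
  exact inferInstanceAs (Etale ((E i).hom ≫ (V i).ι))

end Groth.Agent.EtDescX
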