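import Groth.Agent.EtDescX.Fpqc
import Groth.Agent.EtDescX.Bridge
import Groth.Agent.EtDescX.Zariski

/-!
# Effectivity from faithfully flat algebras over the local rings
-/

universe u

open CategoryTheory CategoryTheory.Limits AlgebraicGeometry

namespace Groth.Agent.EtDescX

set_option autoImplicit false
set_option backward.isDefEq.respectTransparency false
set_option backward.isDefEq.respectTransparency.types false

set_option maxHeartbeats 800000 in
/-- A split over a composite base change is a split of the base changed datum. -/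
theorem isSplit_baseDD {X S V V' : Scheme.{u}} {g : X ⟶ S} (σ : V ⟶ S) (π : V' ⟶ V) {D : Desc.SchDD g}
    {E : Over V'} {w : pullback (D.obj.hom ≫ g) (π ≫ σ) ⟶ E.left} (h : IsSplit (π ≫ σ) D E w) :
    ∃ w', IsSplit π (baseDD σ D) E w' := by
  let u' : pullback D.obj.hom (pullback.fst g σ) ⟶ pullback g σ := pullback.snd _ _
  let p₀ : pullback D.obj.hom (pullback.fst g σ) ⟶ D.obj.left := pullback.fst _ _
  let gσ := pullback.snd g σ
  have hp : p₀ ≫ D.obj.hom ≫ g = (u' ≫ gσ) ≫ σ := by rw [← Category.assoc, baseEq]
  let α : pullback (u' ≫ gσ) π ⟶ pullback (D.obj.hom ≫ g) (π ≫ σ) :=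
    pullback.lift (pullback.fst _ _ ≫ p₀) (pullback.snd _ _) (by rw [Category.assoc, hp, pullback.condition_assoc])
  let αi : pullback (D.obj.hom ≫ g) (π ≫ σ) ⟶ pullback (u' ≫ gσ) π :=
    pullback.lift (pullback.lift (pullback.fst _ _)
      (pullback.lift (pullback.fst _ _ ≫ D.obj.hom) (pullback.snd _ _ ≫ π) (by
        rw [Category.assoc, Category.assoc]; exact pullback.condition))
      (by rw [pullback.lift_fst])) (pullback.snd _ _) (by
      rw [pullback.lift_snd_assoc, pullback.lift_snd])
  have : IsIso α := by
    refine ⟨αi, ?_, ?_⟩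
    · apply pullback.hom_ext
      · simp only [α, αi, Category.assoc, pullback.lift_fst, Category.id_comp]
        apply pullback.hom_ext
        · simp only [Category.assoc, pullback.lift_fst, p₀]
        · simp only [Category.assoc, pullback.lift_snd]
          apply pullback.hom_ext
          · simp only [Category.assoc, pullback.lift_fst, pullback.lift_fst_assoc, p₀]
            exact congrArg (pullback.fst _ _ ≫ ·) pullback.condition
          · simp only [Category.assoc, pullback.lift_snd, pullback.lift_snd_assoc]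
            exact pullback.condition.symm
      · simp only [α, αi, Category.assoc, pullback.lift_snd, Category.id_comp]
    · apply pullback.hom_ext
      · simp only [α, αi, Category.assoc, pullback.lift_fst, pullback.lift_fst_assoc, p₀, Category.id_comp]
      · simp only [α, αi, Category.assoc, pullback.lift_snd, Category.id_comp]
  let w' : pullback (u' ≫ gσ) π ⟶ E.left := α ≫ w
  have hw' : w' ≫ E.hom = pullback.snd _ _ := by
    simp only [w', α, Category.assoc, h.w_hom, pullback.lift_snd]
  refine ⟨w', hw', ?_, ?_⟩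
  · let m : pullback (u' ≫ gσ) gσ ⟶ pullback (D.obj.hom ≫ g) g :=
      pullback.lift (pullback.fst _ _ ≫ p₀) (pullback.snd _ _ ≫ pullback.fst g σ)
        (by rw [Category.assoc, hp, pullback.condition_assoc, Category.assoc, pullback.condition])
    let β : pullback (pairHom (baseDD σ D)) π ⟶ pullback (pairHom D) (π ≫ σ) :=
      pullback.lift (pullback.fst _ _ ≫ m) (pullback.snd _ _) (by
        show (_ ≫ m) ≫ pullback.fst _ _ ≫ D.obj.hom ≫ g = _
        rw [← Category.assoc (pullback.snd _ π), ← pullback.condition]
        simp only [m, Category.assoc, pullback.lift_fst_assoc, hp]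
        rfl)
    have hτ : (tauPt (baseDD σ D)).left ≫ p₀ = m ≫ (tauPt D).left := by
      refine (pullback.lift_fst _ _ _).trans (φ_pre m (tauEq D) _ _ _ ?_ (pullback.lift_snd _ _ _) ?_)
      · show m ≫ pullback.fst _ _ ≫ D.obj.hom = (pullback.fst _ _ ≫ u') ≫ pullback.fst g σ
        simp only [m, pullback.lift_fst_assoc, Category.assoc, p₀, u', pullback.condition]
      · exact (pullback.lift_fst _ _ _).symm
    have e₀ : pairFst π (baseDD σ D) ≫ α = β ≫ pairFst (π ≫ σ) D := by
      apply pullback.hom_ext
      · simp only [pairFst, α, β, m, Category.assoc, pullback.lift_fst, pullback.lift_fst_assoc]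
        exact (pullback.lift_fst_assoc _ _ _ _).trans (Category.assoc _ _ _)
      · simp only [pairFst, α, β, Category.assoc, pullback.lift_snd]
        exact pullback.lift_snd _ _ _
    have e₁ : pairSnd π (baseDD σ D) ≫ α = β ≫ pairSnd (π ≫ σ) D := by
      apply pullback.hom_ext
      · simp only [pairSnd, α, β, Category.assoc, pullback.lift_fst, pullback.lift_fst_assoc]
        refine (pullback.lift_fst_assoc _ _ _ _).trans ((Category.assoc _ _ _).trans ?_)
        exact congrArg (pullback.fst _ _ ≫ ·) hτ
      · simp only [pairSnd, α, β, Category.assoc, pullback.lift_snd]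
        exact pullback.lift_snd _ _ _
    show pairFst π (baseDD σ D) ≫ α ≫ w = pairSnd π (baseDD σ D) ≫ α ≫ w
    rw [reassoc_of% e₀, reassoc_of% e₁, h.invariant]
  · let δ₀ := pullbackLeftPullbackSndIso g σ π
    let δ : pullback (pullback.snd gσ π) E.hom ⟶ pullback (pullback.snd g (π ≫ σ)) E.hom :=
      pullback.map _ _ _ _ δ₀.hom (𝟙 _) (𝟙 _) (by simp [δ₀, gσ]) (by simp)
    have := h.iso
    let l' : pullback (u' ≫ gσ) π ⟶ pullback (pullback.snd gσ π) E.hom :=
      pullback.lift (totX π (baseDD σ D)) w' ((totX_snd π (baseDD σ D)).trans hw'.symm)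
    have e : l' ≫ δ = α ≫ pullback.lift (totX (π ≫ σ) D) w (by rw [totX_snd, h.w_hom]) := by
      apply pullback.hom_ext
      · simp only [l', δ, pullback.map, Category.assoc, pullback.lift_fst, pullback.lift_fst_assoc]
        apply pullback.hom_ext
        · simp only [δ₀, gσ, Category.assoc, pullbackLeftPullbackSndIso_hom_fst, totX_fst, α, pullback.lift_fst_assoc]
          refine (pullback.lift_fst_assoc _ _ _ _).trans ((Category.assoc _ _ _).trans ?_)
          exact congrArg (pullback.fst _ _ ≫ ·) pullback.condition.symm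
        · simp only [δ₀, gσ, Category.assoc, pullbackLeftPullbackSndIso_hom_snd, totX_snd, α, pullback.lift_snd]
          rfl
      · simp only [l', δ, w', pullback.map, Category.assoc, pullback.lift_snd, pullback.lift_snd_assoc, Category.comp_id]
    have : IsIso (l' ≫ δ) := by rw [e]; infer_instance
    exact IsIso.of_isIso_comp_right l' δ

/-- Effectivity descends along fpqc morphisms between base changes. -/
theorem eff_of_baseChange {X S V V' : Scheme.{u}} {g : X ⟶ S} (σ : V ⟶ S) (π : V' ⟶ V) [Flat π] [Surjective π]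
    [QuasiCompact π] (hg : SGA1.UnivSubmersive g) [QuasiCompact g] [QuasiSeparated g] {D : Desc.SchDD g}
    [IsSeparated D.obj.hom] [QuasiCompact D.obj.hom] (h : Eff (π ≫ σ) D) : Eff σ D := by
  have := surjective_of_univSubmersive hg
  obtain ⟨E, hE, ⟨i⟩⟩ := h
  obtain ⟨w, hw⟩ := exists_isSplit i
  have := (qcqs_of_split hw).1
  obtain ⟨w', hw'⟩ := isSplit_baseDD σ π hw
  obtain ⟨i'⟩ := hw'.nonempty_iso
  obtain ⟨U, hU, -, -, hi⟩ := exists_effective_of_fpqc (D := baseDD σ D) π
    (SGA1Q.univSubmersive_of_isPullback hg (IsPullback.of_hasPullback g σ).flip) hE i'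
  exact ⟨U, hU, hi⟩

/-- Effectivity follows from effectivity over a faithfully flat algebra over each local ring. -/
theorem exists_effective_of_complete {X S : Scheme.{u}} {g : X ⟶ S} (hg : SGA1.UnivSubmersive g)
    [LocallyOfFinitePresentation g] [QuasiCompact g] [QuasiSeparated g]
    (D : Desc.SchDDFam (fun _ : PUnit.{1} => g)) [Etale (D.obj PUnit.unit).hom]
    [QuasiCompact (D.obj PUnit.unit).hom] [IsSeparated (D.obj PUnit.unit).hom]
    (H : ∀ a : S, ∃ (B : Type u) (_ : CommRing B) (_ : Algebra (S.presheaf.stalk a) B),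
      Module.FaithfullyFlat (S.presheaf.stalk a) B ∧
        Eff (Spec.map (CommRingCat.ofHom (algebraMap (S.presheaf.stalk a) B)) ≫ S.fromSpecStalk a)
          ((Desc.SchDDFam.toSchDD g).obj D)) :
    ∃ U : Over S, Etale U.hom ∧ Nonempty ((Desc.toDDFam (fun _ : PUnit.{1} => g)).obj U ≅ D) := by
  have := surjective_of_univSubmersive hg
  let D₀ := (Desc.SchDDFam.toSchDD g).obj D
  have : Etale D₀.obj.hom := inferInstanceAs (Etale (D.obj PUnit.unit).hom)
  have : IsSeparated D₀.obj.hom := inferInstanceAs (IsSeparated (D.obj PUnit.unit).hom)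
  have : QuasiCompact D₀.obj.hom := inferInstanceAs (QuasiCompact (D.obj PUnit.unit).hom)
  have hW : ∀ a : S, ∃ W : S.Opens, a ∈ W ∧ Eff W.ι D₀ := fun a => by
    obtain ⟨B, _, _, hB, h⟩ := H a
    refine exists_eff_nhd a ?_
    let π := Spec.map (CommRingCat.ofHom (algebraMap (S.presheaf.stalk a) B))
    obtain ⟨hf, hs⟩ := (flat_and_surjective_SpecMap_iff
      (CommRingCat.ofHom (algebraMap (S.presheaf.stalk a) B))).2 (RingHom.faithfullyFlat_algebraMap_iff.2 hB)
    -- pass to the base change to the local ring
    let σ := S.fromSpecStalk a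
    exact eff_of_baseChange σ π hg h
  choose W ha hEff using hW
  obtain ⟨U, hU, hi⟩ := exists_effective_of_open_cover hg D₀ W
    (top_le_iff.1 fun a _ => TopologicalSpace.Opens.mem_iSup.2 ⟨a, ha a⟩) hEff
  exact ⟨U, hU, (nonempty_iso_fam_iff U D).2 hi⟩

end Groth.Agent.EtDescX
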