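import Groth.Agent.EtDescX.Split
import Groth.Agent.LimSm.Descend
import Groth.Agent.Pi1Ext.SpreadLim
import Groth.Agent.ConsPropLib.Approx
import Groth.Agent.MorLib.DescendIso
import Groth.Agent.SrcDescent.QsSurj
import Groth.Agent.AlgSpLib.Descends2
import Groth.Agent.S9219

/-!
# Spreading out effectivity from a local ring to a neighbourhood
-/

universe u

open CategoryTheory CategoryTheory.Limits AlgebraicGeometry
open Groth.Agent.MorLib Groth.Agent.ConsPropLib

namespace Groth.Agent.EtDescX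

set_option autoImplicit false
set_option linter.style.haveILetI false
set_option backward.isDefEq.respectTransparency false
set_option backward.isDefEq.respectTransparency.types false

variable {X S : Scheme.{u}} {g : X ⟶ S} {D : Desc.SchDD g}

theorem qcqs_of_split [QuasiCompact g] [QuasiSeparated g] [Surjective g] [QuasiCompact D.obj.hom]
    [QuasiSeparated D.obj.hom] {V : Scheme.{u}} {ν : V ⟶ S} {U : Over V}
    {w : pullback (D.obj.hom ≫ g) ν ⟶ U.left} (h : IsSplit ν D U w) :
    QuasiCompact U.hom ∧ QuasiSeparated U.hom := by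
  have := h.iso
  let q := pullback.snd (pullback.snd g ν) U.hom
  let l : pullback (D.obj.hom ≫ g) ν ⟶ pullback (pullback.snd g ν) U.hom :=
    pullback.lift (totX ν D) w (by rw [totX_snd, h.w_hom])
  have : IsIso l := h.iso
  have he : q ≫ U.hom = inv l ≫ pullback.snd (D.obj.hom ≫ g) ν := by
    rw [IsIso.eq_inv_comp, ← Category.assoc, show l ≫ q = w from pullback.lift_snd _ _ _, h.w_hom]
  have : Surjective q := MorphismProperty.pullback_snd (P := @Surjective) _ _
    (MorphismProperty.pullback_snd (P := @Surjective) _ _ ‹_›)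
  have h₁ : QuasiCompact (q ≫ U.hom) := by rw [he]; infer_instance
  have h₂ : QuasiSeparated (q ≫ U.hom) := by rw [he]; infer_instance
  exact ⟨AlgSpLib.quasiCompact_of_comp_surjective q U.hom, SrcDescent.quasiSeparated_of_comp_surjective q U.hom⟩

variable {I : Type u} [SmallCategory I] [IsCofiltered I] {Φ : I ⥤ Scheme.{u}} {c : Cone Φ} (hc : IsLimit c)
  [∀ (i j : I) (k : i ⟶ j), IsAffineHom (Φ.map k)] [∀ i, CompactSpace (Φ.obj i)]
  [∀ i, QuasiSeparatedSpace (Φ.obj i)]
  (τ : ∀ i, Φ.obj i ⟶ S) (hτ : ∀ {i j : I} (k : i ⟶ j), Φ.map k ≫ τ j = τ i)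
  {σ : c.pt ⟶ S} (hσ : ∀ i, c.π.app i ≫ τ i = σ)

include hc hτ hσ in
/-- Morphisms to a model descend to a stage. -/
theorem exists_hom_stage {A : Scheme.{u}} (f : A ⟶ S) [LocallyOfFinitePresentation f] [QuasiCompact f]
    [QuasiSeparated f] {E : Scheme.{u}} {eh : E ⟶ c.pt} {i : I} {U : Scheme.{u}} {u : U ⟶ Φ.obj i}
    {q : E ⟶ U} (hm : IsModel eh i u q) (w : pullback f σ ⟶ E) (hw : w ≫ eh = pullback.snd f σ) :
    ∃ (j : I) (U' : Scheme.{u}) (u' : U' ⟶ Φ.obj j) (q' : E ⟶ U') (φ : j ⟶ i),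
      IsModel eh j u' q' ∧ (∀ [Etale u], Etale u') ∧
      ∃ w' : pullback f (τ j) ⟶ U', w' ≫ u' = pullback.snd _ _ ∧
        resMap f (c.π.app j) (hσ j) ≫ w' = w ≫ q' := by
  haveI := hm.lfp; haveI := hm.qc; haveI := hm.qs
  haveI : CompactSpace U := hm.compactSpace
  haveI : QuasiSeparatedSpace U := hm.quasiSeparatedSpace
  haveI : CompactSpace ↥(pullback f (τ i)) := QuasiCompact.compactSpace_of_compactSpace (pullback.snd f (τ i))
  haveI : QuasiSeparatedSpace ↥(pullback f (τ i)) := quasiSeparatedSpace_of_quasiSeparated (pullback.snd f (τ i))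
  obtain ⟨j, φ, fj, sX, sY, hfj, a₁, a₂, b₁, b₂, hs⟩ := S9218.result Φ c hc i (pullback.snd f (τ i)) u _ _
    (isPullback_resMap f (c.π.app i) (hσ i)) q eh hm.sq w hw
  have sqj := isPullback_resMap f (Φ.map φ) (hτ φ)
  let e := sqj.isoPullback
  refine ⟨j, _, pullback.snd u (Φ.map φ), hm.push φ, φ, hm.pushed φ, fun [Etale u] => inferInstance,
    e.hom ≫ fj, ?_, ?_⟩
  · rw [Category.assoc, hfj, sqj.isoPullback_hom_snd]
  · have eY : sY = hm.push φ := pullback.hom_ext (b₁.trans (hm.push_fst φ).symm) (b₂.trans (hm.push_snd φ).symm)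
    have eX : resMap f (c.π.app j) (hσ j) ≫ e.hom = sX := by
      apply pullback.hom_ext
      · rw [Category.assoc, sqj.isoPullback_hom_fst, a₁]
        apply pullback.hom_ext
        · simp only [resMap, Category.assoc, pullback.lift_fst]
        · simp only [resMap, Category.assoc, pullback.lift_snd, pullback.lift_snd_assoc, c.w]
      · rw [Category.assoc, sqj.isoPullback_hom_snd, a₂, resMap_snd]
    rw [reassoc_of% eX, hs, eY]

include hc hτ hσ in
set_option maxHeartbeats 800000 in
/-- Effectivity over the limit spreads out to a stage. -/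
theorem exists_eff_stage [Surjective g] [LocallyOfFinitePresentation g] [QuasiCompact g] [QuasiSeparated g]
    [Etale D.obj.hom] [QuasiCompact D.obj.hom] [QuasiSeparated D.obj.hom] (h : Eff σ D) :
    ∃ j : I, Eff (τ j) D := by
  haveI : ∀ {i j : I} (k : i ⟶ j), IsAffineHom (Φ.map k) := fun {i j} k => inferInstance
  obtain ⟨E, wE, hE, hw⟩ := eff_iff_exists_isSplit.1 h
  obtain ⟨hEqc, hEqs⟩ := qcqs_of_split hw
  haveI : LocallyOfFinitePresentation E.hom := inferInstance
  obtain ⟨m, U₀, u₀, q₀, hm₀⟩ := hasModel hc E.hom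
  haveI := hm₀.qc; haveI := hm₀.qs
  obtain ⟨i, θ, hθ⟩ := Desc.descend Φ c hc m (P := @Etale) LimSm.core_etale u₀ hm₀.lfp
    (Desc.of_two @Etale hm₀.sq (IsPullback.of_hasPullback _ _) hE)
  haveI : Etale (pullback.snd u₀ (Φ.map θ)) := hθ
  -- the morphism at a stage
  obtain ⟨j, Uj, uj, qj, -, hmj, hje, wj, hwj, hwjE⟩ :=
    exists_hom_stage hc τ hτ hσ (D.obj.hom ≫ g) (hm₀.pushed θ) wE hw.w_hom
  haveI : Etale uj := hje
  haveI := hmj.lfp; haveI := hmj.qc; haveI := hmj.qs
  let gj := pullback.snd g (τ j)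
  let lj : pullback (D.obj.hom ≫ g) (τ j) ⟶ pullback gj uj :=
    pullback.lift (totX (τ j) D) wj (by rw [totX_snd, hwj])
  let bj : pullback gj uj ⟶ Φ.obj j := pullback.fst gj uj ≫ gj
  have hlj : lj ≫ bj = pullback.snd (D.obj.hom ≫ g) (τ j) := by
    simp only [lj, bj, pullback.lift_fst_assoc]
    exact totX_snd _ _
  haveI : QuasiCompact (lj ≫ bj) := by rw [hlj]; infer_instance
  haveI : QuasiSeparated (lj ≫ bj) := by rw [hlj]; infer_instance
  haveI : LocallyOfFinitePresentation (lj ≫ bj) := by rw [hlj]; infer_instance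
  haveI : LocallyOfFinitePresentation lj := AlgSpPts.locallyOfFinitePresentation_of_comp lj bj
  haveI : QuasiCompact lj := QuasiCompact.of_comp lj bj
  haveI : QuasiSeparated lj := QuasiSeparated.of_comp lj bj
  haveI : CompactSpace ↥(pullback gj uj) := QuasiCompact.compactSpace_of_compactSpace bj
  haveI : MorphismProperty.RespectsIso (@LocallyOfFinitePresentation : MorphismProperty Scheme.{u}) :=
    MorphismProperty.IsStableUnderBaseChange.respectsIso
  -- at a further stage it is an isomorphism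
  obtain ⟨k, ψ, Xk, Yk, fk, bk, pY, pX, sY, sX, hiso⟩ := Desc.descend₂ Φ c hc
    (P := MorphismProperty.isomorphisms Scheme.{u}) (Q := @LocallyOfFinitePresentation) Desc.core_iso lj bj
    inferInstance _ _ _ _ (isPullback_canRes_base (U := Over.mk uj) (U' := E) (q := qj) (c.π.app j) (hσ j) hmj.sq)
    (isPullback_lift (U := Over.mk uj) (U' := E) (q := qj) (c.π.app j) (hσ j) hmj.sq hwj hw.w_hom hwjE) hw.iso
  let uk := pullback.snd uj (Φ.map ψ)
  let wk : pullback (D.obj.hom ≫ g) (τ k) ⟶ pullback uj (Φ.map ψ) :=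
    pullback.lift (resMap _ (Φ.map ψ) (hτ ψ) ≫ wj) (pullback.snd _ _) (by rw [Category.assoc, hwj, resMap_snd])
  have hwk : wk ≫ uk = pullback.snd _ _ := pullback.lift_snd _ _ _
  have hwkE : resMap (D.obj.hom ≫ g) (c.π.app k) (hσ k) ≫ wk = wE ≫ hmj.push ψ := by
    apply pullback.hom_ext
    · rw [Category.assoc, pullback.lift_fst, Category.assoc, hmj.push_fst, ← Category.assoc]
      refine (congrArg (· ≫ wj) ?_).trans hwjE
      apply pullback.hom_ext
      · simp only [resMap, Category.assoc, pullback.lift_fst]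
      · simp only [resMap, Category.assoc, pullback.lift_snd, pullback.lift_snd_assoc, c.w]
    · rw [Category.assoc, pullback.lift_snd, Category.assoc, hmj.push_snd, resMap_snd, reassoc_of% hw.w_hom]
  have hik : IsIso (pullback.lift (totX (τ k) D) wk (by rw [totX_snd, hwk]) :
      pullback (D.obj.hom ≫ g) (τ k) ⟶ pullback (pullback.snd g (τ k)) uk) := by
    have s₁ := isPullback_canRes_base (g := g) (U := Over.mk uj) (U' := Over.mk uk) (q := pullback.fst uj (Φ.map ψ))
      (Φ.map ψ) (hτ ψ) (IsPullback.of_hasPullback _ _)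
    have s₂ := isPullback_lift (D := D) (U := Over.mk uj) (U' := Over.mk uk) (q := pullback.fst uj (Φ.map ψ))
      (w := wj) (w' := wk) (Φ.map ψ) (hτ ψ) (IsPullback.of_hasPullback _ _) hwj hwk (pullback.lift_fst _ _ _).symm
    let e := s₁.isoIsPullback _ _ sY
    have he : e.hom ≫ pY = canRes (g := g) (U := Over.mk uj) (U' := Over.mk uk) (Φ.map ψ) (hτ ψ)
        (q := pullback.fst uj (Φ.map ψ)) (IsPullback.of_hasPullback _ _) := s₁.isoIsPullback_hom_fst _ _ sY
    refine Desc.of_factor (MorphismProperty.isomorphisms Scheme.{u}) ?_ he s₂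
    exact Desc.of_two (MorphismProperty.isomorphisms Scheme.{u}) sX (IsPullback.of_hasPullback lj pY) hiso
  -- and invariant at a further stage
  haveI : Etale uk := inferInstance
  have hmk := hmj.pushed ψ
  haveI := hmk.lfp; haveI := hmk.qc; haveI := hmk.qs
  haveI : CompactSpace ↥(pullback uj (Φ.map ψ)) := hmk.compactSpace
  haveI : QuasiSeparatedSpace ↥(pullback uj (Φ.map ψ)) := hmk.quasiSeparatedSpace
  let pk := pullback.snd (pairHom D) (τ k)
  haveI : CompactSpace ↥(pullback (pairHom D) (τ k)) := QuasiCompact.compactSpace_of_compactSpace pk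
  haveI : QuasiSeparatedSpace ↥(pullback (pairHom D) (τ k)) := quasiSeparatedSpace_of_quasiSeparated pk
  haveI : LocallyOfFinitePresentation pk := inferInstance
  have h₁ : (pairFst (τ k) D ≫ wk) ≫ uk = pk := by rw [Category.assoc, hwk]; exact pullback.lift_snd _ _ _
  have h₂ : (pairSnd (τ k) D ≫ wk) ≫ uk = pk := by rw [Category.assoc, hwk]; exact pullback.lift_snd _ _ _
  obtain ⟨l, χ, hl⟩ := S9219.result Φ c hc k pk uk _ _ (isPullback_resMap (pairHom D) (c.π.app k) (hσ k))
    (pairFst (τ k) D ≫ wk) (pairSnd (τ k) D ≫ wk) h₁ h₂ (by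
      rw [reassoc_of% (resMap_pairFst (c.π.app k) (hσ k) (D := D)),
        reassoc_of% (resMap_pairSnd (c.π.app k) (hσ k) (D := D)), hwkE,
        ← Category.assoc, ← Category.assoc, hw.invariant])
  let ul := pullback.snd uk (Φ.map χ)
  let wl : pullback (D.obj.hom ≫ g) (τ l) ⟶ pullback uk (Φ.map χ) :=
    pullback.lift (resMap _ (Φ.map χ) (hτ χ) ≫ wk) (pullback.snd _ _) (by rw [Category.assoc, hwk, resMap_snd])
  have hwl : wl ≫ ul = pullback.snd _ _ := pullback.lift_snd _ _ _
  refine ⟨l, eff_iff_exists_isSplit.2 ⟨Over.mk ul, wl, inferInstanceAs (Etale ul), hwl, ?_, ?_⟩⟩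
  · have hr := (isPullback_resMap (pairHom D) (Φ.map χ) (hτ χ))
    apply pullback.hom_ext
    · simp only [Category.assoc, wl, pullback.lift_fst]
      rw [← reassoc_of% (resMap_pairFst (Φ.map χ) (hτ χ) (D := D)),
        ← reassoc_of% (resMap_pairSnd (Φ.map χ) (hτ χ) (D := D)), ← hr.isoPullback_hom_fst, Category.assoc,
        Category.assoc, hl]
    · simp only [Category.assoc, wl, pullback.lift_snd, pairFst, pairSnd]
  · exact MorphismProperty.of_isPullback (P := MorphismProperty.isomorphisms Scheme.{u})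
      (isPullback_lift (U := Over.mk uk) (U' := Over.mk ul) (q := pullback.fst uk (Φ.map χ)) (Φ.map χ) (hτ χ)
        (IsPullback.of_hasPullback _ _) hwk hwl (pullback.lift_fst _ _ _).symm) hik

/-- Effectivity over the local ring spreads out to a neighbourhood. -/
theorem exists_eff_nhd [Surjective g] [LocallyOfFinitePresentation g] [QuasiCompact g] [QuasiSeparated g]
    [Etale D.obj.hom] [QuasiCompact D.obj.hom] [QuasiSeparated D.obj.hom] (a : S)
    (h : Eff (S.fromSpecStalk a) D) : ∃ W : S.Opens, a ∈ W ∧ Eff W.ι D := by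
  obtain ⟨W, hW⟩ := exists_eff_stage (Pi1Ext.SpreadLim.isLimit S a) (Pi1Ext.SpreadLim.toX S a)
    (fun k => Pi1Ext.SpreadLim.map_toX S a k) (Pi1Ext.SpreadLim.π_toX S a) h
  exact ⟨W.1, W.2.2, hW.restrict W.2.1.isoSpec.hom (W.2.1.isoSpec_hom_fromSpec)⟩

/-- Effectivity over an open neighbourhood gives effectivity over the local ring. -/
theorem eff_stalk_of_nhd (a : S) (W : S.Opens) (ha : a ∈ W) (h : Eff W.ι D) : Eff (S.fromSpecStalk a) D :=
  h.restrict (W.fromSpecStalkOfMem a ha) (Scheme.Opens.fromSpecStalkOfMem_ι _ _ _)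

end Groth.Agent.EtDescX
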