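import Groth.Agent.EtDescX.Fpqc
import Groth.Agent.EtDescX.Spread
import Groth.Agent.MorLib.DescendSep
import Groth.Agent.MorLib.BaseChangeLim

/-!
# Descent data of etale separated schemes descend along limits of the source
-/

universe u

set_option autoImplicit false
set_option linter.style.haveILetI false
set_option backward.isDefEq.respectTransparency false
set_option backward.isDefEq.respectTransparency.types false

open CategoryTheory CategoryTheory.Limits AlgebraicGeometry
open Groth.Agent.MorLib Groth.Agent.ConsPropLib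

namespace Groth.Agent.EtDescX

/-! ### A descent datum from one morphism -/

section ofTau

variable {E X S : Scheme.{u}} {p : X ⟶ S} (e : E ⟶ X) (t : pullback (e ≫ p) p ⟶ E)
  (ht : t ≫ e = pullback.snd _ _)

/-- The scheme of triples. -/
noncomputable abbrev triples : Scheme.{u} := pullback (pullback.snd (e ≫ p) p ≫ p) p

include ht in
theorem triples_w : (pullback.fst (pullback.snd (e ≫ p) p ≫ p) p ≫ t) ≫ e ≫ p =
    pullback.snd (pullback.snd (e ≫ p) p ≫ p) p ≫ p := by
  rw [Category.assoc, reassoc_of% ht, pullback.condition]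

theorem triples_w' : (pullback.fst (pullback.snd (e ≫ p) p ≫ p) p ≫ pullback.fst (e ≫ p) p) ≫ e ≫ p =
    pullback.snd (pullback.snd (e ≫ p) p ≫ p) p ≫ p := by
  rw [Category.assoc, pullback.condition (f := e ≫ p), pullback.condition (f := pullback.snd (e ≫ p) p ≫ p)]

/-- The axioms for a transport morphism to give a descent datum. -/
structure IsTau : Prop where
  hom : t ≫ e = pullback.snd _ _
  self : pullback.lift (𝟙 E) e (by rw [Category.id_comp]) ≫ t = 𝟙 E
  comp : pullback.lift (pullback.fst _ _ ≫ t) (pullback.snd _ _) (triples_w e t hom) ≫ t =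
    pullback.lift (pullback.fst _ _ ≫ pullback.fst (e ≫ p) p) (pullback.snd _ _) (triples_w' e) ≫ t

variable {e t}

theorem IsTau.ptW {T : Scheme.{u}} {x₀ x₁ : T ⟶ X} (hx : x₀ ≫ p = x₁ ≫ p)
    (v : Desc.Lifts (Over.mk e) x₀) : v.1 ≫ e ≫ p = x₁ ≫ p := by
  rw [← hx, ← Category.assoc]
  exact congrArg (· ≫ p) v.2

/-- The transport of a point. -/
noncomputable def IsTau.move (h : IsTau e t) {T : Scheme.{u}} {x₀ x₁ : T ⟶ X} (hx : x₀ ≫ p = x₁ ≫ p)
    (v : Desc.Lifts (Over.mk e) x₀) : Desc.Lifts (Over.mk e) x₁ :=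
  ⟨pullback.lift v.1 x₁ (IsTau.ptW hx v) ≫ t, by
    show (_ ≫ t) ≫ e = x₁
    rw [Category.assoc, h.hom, pullback.lift_snd]⟩

theorem IsTau.move_self (h : IsTau e t) {T : Scheme.{u}} {x : T ⟶ X} (v : Desc.Lifts (Over.mk e) x) :
    h.move (x₀ := x) (x₁ := x) rfl v = v := by
  refine Subtype.ext ?_
  show pullback.lift v.1 x _ ≫ t = v.1
  have : pullback.lift v.1 x (IsTau.ptW (p := p) rfl v) =
      v.1 ≫ (pullback.lift (𝟙 E) e (by rw [Category.id_comp]) : E ⟶ pullback (e ≫ p) p) := by
    apply pullback.hom_ext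
    · rw [pullback.lift_fst, Category.assoc, pullback.lift_fst]
      exact (Category.comp_id _).symm
    · rw [pullback.lift_snd, Category.assoc, pullback.lift_snd]
      exact v.2.symm
  rw [this, Category.assoc, h.self]
  exact Category.comp_id _

theorem IsTau.move_comp (h : IsTau e t) {T : Scheme.{u}} {x₀ x₁ x₂ : T ⟶ X} (h₀₁ : x₀ ≫ p = x₁ ≫ p)
    (h₁₂ : x₁ ≫ p = x₂ ≫ p) (v : Desc.Lifts (Over.mk e) x₀) :
    h.move h₁₂ (h.move h₀₁ v) = h.move (h₀₁.trans h₁₂) v := by
  refine Subtype.ext ?_
  let r : T ⟶ triples e (p := p) :=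
    pullback.lift (pullback.lift v.1 x₁ (IsTau.ptW h₀₁ v)) x₂ (by rw [pullback.lift_snd_assoc, h₁₂])
  have hr := congrArg (r ≫ ·) h.comp
  simp only [r, ← Category.assoc] at hr
  refine Eq.trans ?_ (hr.trans ?_)
  · refine congrArg (· ≫ t) (pullback.hom_ext ?_ ?_)
    · rw [pullback.lift_fst, Category.assoc, pullback.lift_fst, pullback.lift_fst_assoc]
      rfl
    · rw [pullback.lift_snd, Category.assoc, pullback.lift_snd, pullback.lift_snd]
  · refine congrArg (· ≫ t) (pullback.hom_ext ?_ ?_)
    · rw [Category.assoc, pullback.lift_fst, pullback.lift_fst_assoc, pullback.lift_fst, pullback.lift_fst]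
    · rw [Category.assoc, pullback.lift_snd, pullback.lift_snd, pullback.lift_snd]

/-- The descent datum of a transport morphism. -/
noncomputable def ddOfTau (h : IsTau e t) : Desc.SchDD p where
  obj := Over.mk e
  φ T x₀ x₁ hx :=
    { toFun := h.move hx
      invFun := h.move hx.symm
      left_inv := fun v => (h.move_comp hx hx.symm v).trans (h.move_self v)
      right_inv := fun v => (h.move_comp hx.symm hx v).trans (h.move_self v) }
  φ_natural T T' g x₀ x₁ hx hx' v v' hv := by
    show pullback.lift v'.1 (g ≫ x₁) _ ≫ t = g ≫ pullback.lift v.1 x₁ _ ≫ t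
    rw [← Category.assoc]
    refine congrArg (· ≫ t) (pullback.hom_ext ?_ ?_)
    · rw [pullback.lift_fst, Category.assoc, pullback.lift_fst, hv]
    · rw [pullback.lift_snd, Category.assoc, pullback.lift_snd]
  φ_self T x v := h.move_self v
  φ_comp T x₀ x₁ x₂ h₀₁ h₁₂ v := h.move_comp h₀₁ h₁₂ v

end ofTau

/-! ### The transport morphism of a datum -/

section tau

variable {X S : Scheme.{u}} {g : X ⟶ S} (D : Desc.SchDD g)

theorem tau_hom : (tauPt D).left ≫ D.obj.hom = pullback.snd (D.obj.hom ≫ g) g := Over.w (tauPt D)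

theorem tau_eq {T : Scheme.{u}} {x₀ x₁ : T ⟶ X} (h : x₀ ≫ g = x₁ ≫ g) (v : Desc.Lifts D.obj x₀)
    (r : T ⟶ pullback (D.obj.hom ≫ g) g) (hr₁ : r ≫ pullback.fst _ _ = v.1) (hr₂ : r ≫ pullback.snd _ _ = x₁) :
    (D.φ x₀ x₁ h v).1 = r ≫ (tauPt D).left :=
  φ_pre r (tauEq D) h ⟨pullback.fst (D.obj.hom ≫ g) g, rfl⟩ v
    (by rw [reassoc_of% hr₁]; exact v.2) hr₂ hr₁.symm

theorem isTau_tauPt : IsTau D.obj.hom (tauPt D).left := by
  refine ⟨tau_hom D, ?_, ?_⟩
  · have h := tau_eq D (x₀ := D.obj.hom) (x₁ := D.obj.hom) rfl ⟨𝟙 _, Category.id_comp _⟩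
      (pullback.lift (𝟙 _) D.obj.hom (by rw [Category.id_comp])) (pullback.lift_fst _ _ _) (pullback.lift_snd _ _ _)
    rw [← h, D.φ_self]
  · let π := pullback.fst (pullback.snd (D.obj.hom ≫ g) g ≫ g) g
    let x₂ := pullback.snd (pullback.snd (D.obj.hom ≫ g) g ≫ g) g
    let x₀ := π ≫ pullback.fst (D.obj.hom ≫ g) g ≫ D.obj.hom
    let x₁ := π ≫ pullback.snd (D.obj.hom ≫ g) g
    have h₀₁ : x₀ ≫ g = x₁ ≫ g := by simp only [x₀, x₁, Category.assoc, pullback.condition]
    have h₁₂ : x₁ ≫ g = x₂ ≫ g := by simp only [x₁, x₂, π, Category.assoc, pullback.condition]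
    let v : Desc.Lifts D.obj x₀ := ⟨π ≫ pullback.fst (D.obj.hom ≫ g) g, Category.assoc _ _ _⟩
    rw [← tau_eq D h₁₂ (D.φ x₀ x₁ h₀₁ v) _ ((pullback.lift_fst _ _ _).trans
        (tau_eq D h₀₁ v π rfl rfl).symm) (pullback.lift_snd _ _ _),
      ← tau_eq D (h₀₁.trans h₁₂) v _ (pullback.lift_fst _ _ _) (pullback.lift_snd _ _ _), D.φ_comp]

/-- An invariant morphism cartesian over a scheme over the base gives a split. -/
theorem isSplit_of_invariant {U : Over S} (w : D.obj.left ⟶ U.left)
    (sq : IsPullback D.obj.hom w g U.hom) (hinv : (tauPt D).left ≫ w = pullback.fst _ _ ≫ w) :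
    IsSplit (𝟙 S) D U (pullback.fst _ _ ≫ w) := by
  let w' : pullback (D.obj.hom ≫ g) (𝟙 S) ⟶ U.left := pullback.fst _ _ ≫ w
  have hw' : w' ≫ U.hom = pullback.snd _ _ := by
    rw [Category.assoc, ← sq.w, pullback.condition, Category.comp_id]
  refine ⟨hw', ?_, ?_⟩
  · simp only [w', pairFst, pairSnd, pullback.lift_fst_assoc, Category.assoc, hinv]
  · let a : pullback (pullback.snd g (𝟙 S)) U.hom ⟶ pullback (D.obj.hom ≫ g) (𝟙 S) :=
      pullback.lift (sq.lift (pullback.fst _ _ ≫ pullback.fst g (𝟙 S)) (pullback.snd _ _)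
        (by rw [Category.assoc, pullback.condition, Category.comp_id, pullback.condition]))
        (pullback.fst _ _ ≫ pullback.snd g (𝟙 S)) (by
          rw [sq.lift_fst_assoc, Category.assoc, pullback.condition, Category.assoc])
    refine ⟨a, ?_, ?_⟩
    · apply pullback.hom_ext
      · apply sq.hom_ext
        · simp only [a, Category.assoc, pullback.lift_fst, IsPullback.lift_fst, pullback.lift_fst_assoc,
            Category.id_comp, totX_fst]
        · simp only [a, w', Category.assoc, pullback.lift_fst, IsPullback.lift_snd, pullback.lift_snd,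
            Category.id_comp]
      · simp only [a, Category.assoc, pullback.lift_snd, pullback.lift_fst_assoc, Category.id_comp, totX_snd]
    · apply pullback.hom_ext
      · apply pullback.hom_ext
        · simp only [a, Category.assoc, pullback.lift_fst, pullback.lift_fst_assoc, totX_fst,
            IsPullback.lift_fst, Category.id_comp]
        · simp only [a, Category.assoc, pullback.lift_fst, totX_snd, pullback.lift_snd, Category.id_comp]
      · simp only [a, w', Category.assoc, pullback.lift_snd, pullback.lift_fst_assoc, IsPullback.lift_snd,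
          Category.id_comp]

/-- A descent datum with an invariant morphism cartesian over a scheme over the base is canonical. -/
theorem nonempty_iso_of_invariant {U : Over S} (w : D.obj.left ⟶ U.left)
    (sq : IsPullback D.obj.hom w g U.hom) (hinv : (tauPt D).left ≫ w = pullback.fst _ _ ≫ w) :
    Nonempty ((Desc.toDD g).obj U ≅ D) :=
  nonempty_iso_of_isSplit_id (isSplit_of_invariant D w sq hinv)

/-- An isomorphism with a canonical datum gives an invariant cartesian morphism. -/
theorem exists_invariant_of_iso {U : Over S} (i : (Desc.toDD g).obj U ≅ D) :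
    ∃ w : D.obj.left ⟶ U.left, IsPullback D.obj.hom w g U.hom ∧
      (tauPt D).left ≫ w = pullback.fst _ _ ≫ w := by
  let iv : D.obj.left ⟶ pullback g U.hom := i.inv.hom.left
  have hiv : iv ≫ pullback.fst _ _ = D.obj.hom := Over.w i.inv.hom
  haveI : IsIso iv := ⟨i.hom.hom.left, congrArg (fun m : D ⟶ D => m.hom.left) i.inv_hom_id,
    congrArg (fun m : (Desc.toDD g).obj U ⟶ (Desc.toDD g).obj U => m.hom.left) i.hom_inv_id⟩
  refine ⟨iv ≫ pullback.snd _ _, (IsPullback.of_hasPullback g U.hom).of_iso (asIso iv).symm (Iso.refl _)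
    (Iso.refl _) (Iso.refl _) (by simp [← hiv]) (by simp) (by simp) (by simp), ?_⟩
  let a := pullback.fst (D.obj.hom ≫ g) g
  have h := congrArg (· ≫ pullback.snd g U.hom)
    (i.inv.comm (a ≫ D.obj.hom) (pullback.snd (D.obj.hom ≫ g) g) (tauEq D) ⟨a, rfl⟩
      (Desc.SchDD.Hom.push i.inv ⟨a, rfl⟩) rfl)
  change pullback.lift _ _ _ ≫ pullback.snd _ _ = _ at h
  rw [pullback.lift_snd] at h
  change (a ≫ iv) ≫ _ = ((tauPt D).left ≫ iv) ≫ _ at h
  simpa only [Category.assoc] using h.symm

end tau

/-! ### Fibre products of systems over a fixed base -/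

section prodSys

variable {J : Type u} [SmallCategory J] {S : Scheme.{u}} (A B : J ⥤ Scheme.{u})
  (a : ∀ j, A.obj j ⟶ S) (b : ∀ j, B.obj j ⟶ S)
  (ha : ∀ {j k : J} (f : j ⟶ k), A.map f ≫ a k = a j) (hb : ∀ {j k : J} (f : j ⟶ k), B.map f ≫ b k = b j)

/-- The fibre products of two systems over the base. -/
noncomputable def prodSys : J ⥤ Scheme.{u} where
  obj j := pullback (a j) (b j)
  map {j k} f := pullback.map _ _ _ _ (A.map f) (B.map f) (𝟙 S) (by rw [Category.comp_id, ha])
    (by rw [Category.comp_id, hb])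
  map_id j := by
    apply pullback.hom_ext
    · rw [pullback.lift_fst, A.map_id, Category.id_comp, Category.comp_id]
    · rw [pullback.lift_snd, B.map_id, Category.id_comp, Category.comp_id]
  map_comp f f' := by
    apply pullback.hom_ext
    · simp only [Category.assoc, pullback.lift_fst, pullback.lift_fst_assoc, A.map_comp]
    · simp only [Category.assoc, pullback.lift_snd, pullback.lift_snd_assoc, B.map_comp]

theorem prodSys_map_fst {j k : J} (f : j ⟶ k) :
    (prodSys A B a b ha hb).map f ≫ pullback.fst (a k) (b k) = pullback.fst (a j) (b j) ≫ A.map f :=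
  pullback.lift_fst _ _ _

theorem prodSys_map_snd {j k : J} (f : j ⟶ k) :
    (prodSys A B a b ha hb).map f ≫ pullback.snd (a k) (b k) = pullback.snd (a j) (b j) ≫ B.map f :=
  pullback.lift_snd _ _ _

variable {cA : Cone A} {cB : Cone B} (aL : cA.pt ⟶ S) (bL : cB.pt ⟶ S)
  (haL : ∀ j, cA.π.app j ≫ a j = aL) (hbL : ∀ j, cB.π.app j ≫ b j = bL)

/-- The cone of fibre products. -/
noncomputable def prodCone : Cone (prodSys A B a b ha hb) where
  pt := pullback aL bL
  π :=
    { app := fun j => pullback.map _ _ _ _ (cA.π.app j) (cB.π.app j) (𝟙 S) (by rw [Category.comp_id, haL])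
        (by rw [Category.comp_id, hbL])
      naturality := fun j k f => by
        apply pullback.hom_ext
        · refine (congrArg (· ≫ _) (Category.id_comp _)).trans ?_
          rw [Category.assoc, prodSys_map_fst, pullback.lift_fst, pullback.lift_fst_assoc, Category.assoc, cA.w]
        · refine (congrArg (· ≫ _) (Category.id_comp _)).trans ?_
          rw [Category.assoc, prodSys_map_snd, pullback.lift_snd, pullback.lift_snd_assoc, Category.assoc, cB.w] }

theorem prodCone_π_fst (j : J) :
    (prodCone A B a b ha hb aL bL haL hbL).π.app j ≫ pullback.fst (a j) (b j) = pullback.fst aL bL ≫ cA.π.app j :=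
  pullback.lift_fst _ _ _

theorem prodCone_π_snd (j : J) :
    (prodCone A B a b ha hb aL bL haL hbL).π.app j ≫ pullback.snd (a j) (b j) = pullback.snd aL bL ≫ cB.π.app j :=
  pullback.lift_snd _ _ _

/-- The fibre product of the limits is the limit of the fibre products. -/
noncomputable def isLimitProdCone [Nonempty J] (hA : IsLimit cA) (hB : IsLimit cB) :
    IsLimit (prodCone A B a b ha hb aL bL haL hbL) :=
  let sA : ∀ s : Cone (prodSys A B a b ha hb), Cone A := fun s =>
    { pt := s.pt
      π :=
        { app := fun j => s.π.app j ≫ pullback.fst (a j) (b j)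
          naturality := fun j k f => by
            refine (Category.id_comp _).trans ?_
            rw [Category.assoc, ← prodSys_map_fst A B a b ha hb f, ← Category.assoc, s.w] } }
  let sB : ∀ s : Cone (prodSys A B a b ha hb), Cone B := fun s =>
    { pt := s.pt
      π :=
        { app := fun j => s.π.app j ≫ pullback.snd (a j) (b j)
          naturality := fun j k f => by
            refine (Category.id_comp _).trans ?_
            rw [Category.assoc, ← prodSys_map_snd A B a b ha hb f, ← Category.assoc, s.w] } }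
  { lift := fun s => pullback.lift (hA.lift (sA s)) (hB.lift (sB s)) (by
      obtain ⟨j⟩ := ‹Nonempty J›
      rw [← haL j, ← hbL j, ← Category.assoc, ← Category.assoc, hA.fac, hB.fac]
      simp only [sA, sB, Category.assoc, pullback.condition])
    fac := fun s j => by
      apply pullback.hom_ext
      · rw [Category.assoc, prodCone_π_fst, pullback.lift_fst_assoc, hA.fac]
      · rw [Category.assoc, prodCone_π_snd, pullback.lift_snd_assoc, hB.fac]
    uniq := fun s m hm => by
      apply pullback.hom_ext
      · rw [pullback.lift_fst]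
        refine hA.uniq (sA s) _ fun j => ?_
        rw [Category.assoc, ← prodCone_π_fst A B a b ha hb aL bL haL hbL j, ← Category.assoc, hm]
      · rw [pullback.lift_snd]
        refine hB.uniq (sB s) _ fun j => ?_
        rw [Category.assoc, ← prodCone_π_snd A B a b ha hb aL bL haL hbL j, ← Category.assoc, hm] }

theorem isAffineHom_prodSys [∀ {j k : J} (f : j ⟶ k), IsAffineHom (A.map f)]
    [∀ {j k : J} (f : j ⟶ k), IsAffineHom (B.map f)] {j k : J} (f : j ⟶ k) :
    IsAffineHom ((prodSys A B a b ha hb).map f) :=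
  MorphismProperty.pullbackMap (P := @IsAffineHom) (inferInstanceAs (IsAffineHom (A.map f)))
    (inferInstanceAs (IsAffineHom (B.map f))) (ha f).symm (hb f).symm

theorem compactSpace_prodSys [QuasiSeparatedSpace S] (j : J) [CompactSpace (A.obj j)] [CompactSpace (B.obj j)] :
    CompactSpace ↥((prodSys A B a b ha hb).obj j) :=
  haveI : QuasiCompact (b j) := quasiCompact_of_compactSpace _
  QuasiCompact.compactSpace_of_compactSpace (pullback.fst (a j) (b j))

theorem quasiSeparatedSpace_prodSys (j : J) [QuasiSeparatedSpace (A.obj j)] [QuasiSeparatedSpace (B.obj j)] :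
    QuasiSeparatedSpace ↥((prodSys A B a b ha hb).obj j) :=
  haveI : QuasiSeparated (b j) := inferInstance
  quasiSeparatedSpace_of_quasiSeparated (pullback.fst (a j) (b j))

end prodSys

end Groth.Agent.EtDescX
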