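import Groth.Agent.EtDescX.DDLimit

/-!
# Effectivity of descent along a limit of sources
-/

universe u

set_option autoImplicit false
set_option linter.style.haveILetI false
set_option backward.isDefEq.respectTransparency false
set_option backward.isDefEq.respectTransparency.types false

open CategoryTheory CategoryTheory.Limits AlgebraicGeometry
open Groth.Agent.MorLib Groth.Agent.ConsPropLib

namespace Groth.Agent.EtDescX

variable {I : Type u} [SmallCategory I] [IsCofiltered I] {Φ : I ⥤ Scheme.{u}} {c : Cone Φ} (hc : IsLimit c)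
  [∀ (i j : I) (k : i ⟶ j), IsAffineHom (Φ.map k)] [∀ i, CompactSpace (Φ.obj i)]
  [∀ i, QuasiSeparatedSpace (Φ.obj i)]
  {S : Scheme.{u}} [QuasiSeparatedSpace S]
  (τ : ∀ i, Φ.obj i ⟶ S) (hτ : ∀ {i j : I} (k : i ⟶ j), Φ.map k ≫ τ j = τ i)
  {g : c.pt ⟶ S} (hσ : ∀ i, c.π.app i ≫ τ i = g)

include hc hτ hσ in
set_option maxHeartbeats 1600000 in
/-- An etale separated quasi-compact descent datum along a limit is effective if all such data along the
stages are. -/
theorem exists_effective_of_limit (D : Desc.SchDD g) [Etale D.obj.hom] [IsSeparated D.obj.hom]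
    [QuasiCompact D.obj.hom]
    (H : ∀ (i : I) (D' : Desc.SchDD (τ i)), IsSeparated D'.obj.hom → Etale D'.obj.hom → QuasiCompact D'.obj.hom →
      ∃ U : Over S, IsSeparated U.hom ∧ Etale U.hom ∧ QuasiCompact U.hom ∧ Nonempty ((Desc.toDD (τ i)).obj U ≅ D')) :
    ∃ U : Over S, IsSeparated U.hom ∧ Etale U.hom ∧ QuasiCompact U.hom ∧ Nonempty ((Desc.toDD g).obj U ≅ D) := by
  haveI : ∀ {i j : I} (k : i ⟶ j), IsAffineHom (Φ.map k) := fun {i j} k => inferInstance
  haveI : LocallyOfFinitePresentation D.obj.hom := inferInstance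
  haveI : QuasiSeparated D.obj.hom := inferInstance
  -- the object at a stage
  obtain ⟨m, E₀, e₀, q₀, hm₀⟩ := hasModel hc D.obj.hom
  haveI := hm₀.lfp; haveI := hm₀.qc; haveI := hm₀.qs
  haveI := hm₀.compactSpace; haveI := hm₀.quasiSeparatedSpace
  obtain ⟨i₁, θ₁, het⟩ := Desc.descend Φ c hc m (P := @Etale) LimSm.core_etale e₀ hm₀.lfp
    (Desc.of_two @Etale hm₀.sq (IsPullback.of_hasPullback _ _) ‹_›)
  obtain ⟨i₂, θ₂, hsep⟩ := Desc.descend Φ c hc m (P := @IsSeparated) Groth.Agent.MorLib.Desc.core_isSeparated e₀ trivial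
    (Desc.of_two @IsSeparated hm₀.sq (IsPullback.of_hasPullback _ _) ‹_›)
  obtain ⟨i, u₁, u₂, hu⟩ := IsCofiltered.cospan θ₁ θ₂
  let e := pullback.snd e₀ (Φ.map (u₁ ≫ θ₁))
  haveI : Etale e := Desc.of_factor @Etale het (a := Φ.map u₁) (by rw [← Φ.map_comp]) (IsPullback.of_hasPullback _ _)
  haveI : IsSeparated e := Desc.of_factor @IsSeparated hsep (a := Φ.map u₂) (by rw [← Φ.map_comp, hu])
    (IsPullback.of_hasPullback _ _)
  have hm := hm₀.pushed (u₁ ≫ θ₁)
  let q := hm₀.push (u₁ ≫ θ₁)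
  haveI := hm.qc; haveI := hm.compactSpace; haveI := hm.quasiSeparatedSpace
  -- the systems
  let Af := BC.diag Φ e
  let cA := BC.cone Φ e hm.sq
  have hA : IsLimit cA := BC.isLimitCone Φ e hm.sq hc
  let Bf : Over i ⥤ Scheme.{u} := Over.forget i ⋙ Φ
  let cB := c.whisker (Over.forget i)
  have hB : IsLimit cB := (Functor.Initial.isLimitWhiskerEquiv (Over.forget i) c).symm hc
  haveI : Nonempty (Over i) := ⟨Over.mk (𝟙 i)⟩
  haveI : ∀ {j k : Over i} (f : j ⟶ k), IsAffineHom (Af.map f) := fun f => BC.isAffineHom_map Φ e f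
  haveI : ∀ {j k : Over i} (f : j ⟶ k), IsAffineHom (Bf.map f) := fun f => inferInstanceAs (IsAffineHom (Φ.map f.left))
  haveI : ∀ j : Over i, CompactSpace (Af.obj j) := fun j => BC.compactSpace_obj Φ e j
  haveI : ∀ j : Over i, QuasiSeparatedSpace (Af.obj j) := fun j => BC.quasiSeparatedSpace_obj Φ e j
  haveI : ∀ j : Over i, CompactSpace (Bf.obj j) := fun j => inferInstanceAs (CompactSpace (Φ.obj j.left))
  haveI : ∀ j : Over i, QuasiSeparatedSpace (Bf.obj j) := fun j => inferInstanceAs (QuasiSeparatedSpace (Φ.obj j.left))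
  let ek : ∀ j : Over i, Af.obj j ⟶ Bf.obj j := fun j => pullback.snd e (Φ.map j.hom)
  let a : ∀ j : Over i, Af.obj j ⟶ S := fun j => ek j ≫ τ j.left
  let b : ∀ j : Over i, Bf.obj j ⟶ S := fun j => τ j.left
  have ha : ∀ {j k : Over i} (f : j ⟶ k), Af.map f ≫ a k = a j := fun {j k} f => by
    show Af.map f ≫ ek k ≫ τ k.left = _
    rw [← Category.assoc, show Af.map f ≫ ek k = ek j ≫ Φ.map f.left from BC.map_snd Φ e f, Category.assoc, hτ]
    rfl
  have hb : ∀ {j k : Over i} (f : j ⟶ k), Bf.map f ≫ b k = b j := fun {j k} f => hτ f.left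
  let eL : cA.pt ⟶ cB.pt := D.obj.hom
  have heL : ∀ j, cA.π.app j ≫ ek j = eL ≫ cB.π.app j := fun j => BC.proj_snd Φ e hm.sq j
  let aL : cA.pt ⟶ S := eL ≫ g
  let bL : cB.pt ⟶ S := g
  have haL : ∀ j, cA.π.app j ≫ a j = aL := fun j => by
    rw [← Category.assoc, heL, Category.assoc, show cB.π.app j ≫ τ j.left = g from hσ j.left]
  have hbL : ∀ j, cB.π.app j ≫ b j = bL := fun j => hσ j.left
  let Pf := prodSys Af Bf a b ha hb
  let cP := prodCone Af Bf a b ha hb aL bL haL hbL
  have hP : IsLimit cP := isLimitProdCone Af Bf a b ha hb aL bL haL hbL hA hB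
  haveI : ∀ {j k : Over i} (f : j ⟶ k), IsAffineHom (Pf.map f) := fun f => isAffineHom_prodSys Af Bf a b ha hb f
  haveI : ∀ j : Over i, CompactSpace (Pf.obj j) := fun j => compactSpace_prodSys Af Bf a b ha hb j
  haveI : ∀ j : Over i, QuasiSeparatedSpace (Pf.obj j) := fun j => quasiSeparatedSpace_prodSys Af Bf a b ha hb j
  let p : ∀ j : Over i, Pf.obj j ⟶ S := fun j => pullback.snd (a j) (b j) ≫ b j
  have hp : ∀ {j k : Over i} (f : j ⟶ k), Pf.map f ≫ p k = p j := fun {j k} f => by
    show Pf.map f ≫ pullback.snd (a k) (b k) ≫ b k = _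
    rw [← Category.assoc, prodSys_map_snd, Category.assoc, hb]
  let pL : cP.pt ⟶ S := pullback.snd aL bL ≫ bL
  have hpL : ∀ j, cP.π.app j ≫ p j = pL := fun j => by
    show cP.π.app j ≫ pullback.snd (a j) (b j) ≫ b j = _
    rw [← Category.assoc, prodCone_π_snd, Category.assoc, hbL]
  let Qf := prodSys Pf Bf p b hp hb
  let cQ := prodCone Pf Bf p b hp hb pL bL hpL hbL
  have hQ : IsLimit cQ := isLimitProdCone Pf Bf p b hp hb pL bL hpL hbL hP hB
  haveI : ∀ {j k : Over i} (f : j ⟶ k), IsAffineHom (Qf.map f) := fun f => isAffineHom_prodSys Pf Bf p b hp hb f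
  haveI : ∀ j : Over i, CompactSpace (Qf.obj j) := fun j => compactSpace_prodSys Pf Bf p b hp hb j
  -- the transport morphism at a stage
  let tτ : cP.pt ⟶ cA.pt := (tauPt D).left
  have htτ : tτ ≫ eL = pullback.snd aL bL := tau_hom D
  let qA : cA.pt ⟶ _ := q
  have hqe : qA ≫ e = eL ≫ c.π.app i := hm.sq.w
  let tP : Pf ⟶ (Functor.const (Over i)).obj (Φ.obj i) :=
    { app := fun j => pullback.snd (a j) (b j) ≫ Φ.map j.hom
      naturality := fun j k f => by
        refine Eq.trans ?_ (Category.comp_id _).symm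
        rw [← Category.assoc, prodSys_map_snd, Category.assoc,
          show Bf.map f ≫ Φ.map k.hom = Φ.map j.hom from by
            show Φ.map f.left ≫ _ = _
            rw [← Φ.map_comp, Over.w f]] }
  obtain ⟨j₁, t₁, ht₁π, ht₁⟩ := Scheme.exists_π_app_comp_eq_of_locallyOfFinitePresentation Pf tP e cP hP (tτ ≫ qA)
    (by
      ext j
      show cP.π.app j ≫ pullback.snd (a j) (b j) ≫ Φ.map j.hom = (tτ ≫ qA) ≫ e
      rw [← Category.assoc, prodCone_π_snd, Category.assoc, Category.assoc, hqe, reassoc_of% htτ]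
      exact congrArg (pullback.snd aL bL ≫ ·) (c.w j.hom))
  have hTw : ∀ {k : Over i} (φ : k ⟶ j₁), (Pf.map φ ≫ t₁) ≫ e = pullback.snd (a k) (b k) ≫ Φ.map k.hom := fun {k} φ => by
    rw [Category.assoc, ht₁, tP.naturality φ]
    exact Category.comp_id _
  let T : ∀ {k : Over i} (φ : k ⟶ j₁), Pf.obj k ⟶ Af.obj k := fun {k} φ =>
    pullback.lift (Pf.map φ ≫ t₁) (pullback.snd (a k) (b k)) (hTw φ)
  have hTsnd : ∀ {k : Over i} (φ : k ⟶ j₁), T φ ≫ ek k = pullback.snd (a k) (b k) := fun φ => pullback.lift_snd _ _ _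
  have hTmap : ∀ {k l : Over i} (ψ : l ⟶ k) (φ : k ⟶ j₁), Pf.map ψ ≫ T φ = T (ψ ≫ φ) ≫ Af.map ψ := fun {k l} ψ φ => by
    apply pullback.hom_ext
    · rw [Category.assoc, pullback.lift_fst, Category.assoc, BC.map_fst, pullback.lift_fst, Pf.map_comp,
        Category.assoc]
    · rw [Category.assoc, pullback.lift_snd, prodSys_map_snd, Category.assoc, BC.map_snd, pullback.lift_snd_assoc]
      rfl
  have hTπ : ∀ {k : Over i} (φ : k ⟶ j₁), cP.π.app k ≫ T φ = tτ ≫ cA.π.app k := fun {k} φ => by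
    apply pullback.hom_ext
    · rw [Category.assoc, pullback.lift_fst, ← Category.assoc, cP.w, ht₁π, Category.assoc]
      exact congrArg (tτ ≫ ·) (BC.proj_fst Φ e hm.sq k).symm
    · rw [Category.assoc, pullback.lift_snd, prodCone_π_snd, Category.assoc]
      exact ((congrArg (tτ ≫ ·) (heL k)).trans ((Category.assoc _ _ _).symm.trans (congrArg (· ≫ cB.π.app k) htτ))).symm
  -- the diagonal
  let Δ : ∀ k : Over i, Af.obj k ⟶ Pf.obj k := fun k =>
    pullback.lift (𝟙 _) (ek k) (by rw [Category.id_comp])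
  have hΔmap : ∀ {k l : Over i} (ψ : l ⟶ k), Af.map ψ ≫ Δ k = Δ l ≫ Pf.map ψ := fun {k l} ψ => by
    apply pullback.hom_ext
    · rw [Category.assoc, pullback.lift_fst, Category.assoc, prodSys_map_fst, pullback.lift_fst_assoc,
        Category.id_comp, Category.comp_id]
    · rw [Category.assoc, pullback.lift_snd, Category.assoc, prodSys_map_snd, pullback.lift_snd_assoc]
      exact BC.map_snd Φ e ψ
  let ΔL : cA.pt ⟶ cP.pt := pullback.lift (𝟙 _) eL (by rw [Category.id_comp])
  have hΔπ : ∀ k, cA.π.app k ≫ Δ k = ΔL ≫ cP.π.app k := fun k => by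
    apply pullback.hom_ext
    · rw [Category.assoc, pullback.lift_fst, Category.assoc, prodCone_π_fst, pullback.lift_fst_assoc]
      exact (Category.comp_id _).trans (Category.id_comp _).symm
    · rw [Category.assoc, pullback.lift_snd, Category.assoc, prodCone_π_snd, pullback.lift_snd_assoc, heL]
  let T₁ : Pf.obj j₁ ⟶ Af.obj j₁ := T (𝟙 j₁)
  let fst₁ : Af.obj j₁ ⟶ _ := pullback.fst e (Φ.map j₁.hom)
  let tA : Af ⟶ (Functor.const (Over i)).obj (Φ.obj i) :=
    { app := fun j => pullback.fst e (Φ.map j.hom) ≫ e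
      naturality := fun j k f => by
        refine Eq.trans ?_ (Category.comp_id _).symm
        rw [← Category.assoc, BC.map_fst] }
  obtain ⟨k₂, φ₂, hself⟩ := Scheme.exists_hom_comp_eq_comp_of_locallyOfFiniteType Af tA e cA hA (i := j₁)
    (Δ j₁ ≫ T₁ ≫ fst₁) fst₁ (by
      show pullback.fst e (Φ.map j₁.hom) ≫ e = _
      simp only [Category.assoc, fst₁, pullback.condition, T₁, Δ, T, pullback.lift_snd_assoc]
      rfl)
    rfl (by
      rw [← Category.assoc, hΔπ, Category.assoc, ← Category.assoc (cP.π.app j₁), hTπ, ← Category.assoc, ← Category.assoc,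
        show ΔL ≫ tτ = 𝟙 _ from (isTau_tauPt D).self]
      exact congrArg (· ≫ fst₁) (Category.id_comp _))
  -- the cocycle
  let L : ∀ {k : Over i} (φ : k ⟶ j₁), Qf.obj k ⟶ Pf.obj k := fun {k} φ =>
    pullback.lift (pullback.fst (p k) (b k) ≫ T φ) (pullback.snd (p k) (b k)) (by
      show (_ ≫ T φ) ≫ ek k ≫ τ k.left = _
      rw [Category.assoc, reassoc_of% hTsnd φ, pullback.condition])
  let R : ∀ k : Over i, Qf.obj k ⟶ Pf.obj k := fun k =>
    pullback.lift (pullback.fst (p k) (b k) ≫ pullback.fst (a k) (b k)) (pullback.snd (p k) (b k)) (by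
      rw [Category.assoc, pullback.condition (f := a k), ← pullback.condition (f := p k)])
  have hLmap : ∀ {k l : Over i} (ψ : l ⟶ k) (φ : k ⟶ j₁), Qf.map ψ ≫ L φ = L (ψ ≫ φ) ≫ Pf.map ψ := fun {k l} ψ φ => by
    apply pullback.hom_ext
    · rw [Category.assoc, pullback.lift_fst, Category.assoc, prodSys_map_fst, pullback.lift_fst_assoc,
        ← Category.assoc, prodSys_map_fst, Category.assoc, hTmap, Category.assoc]
    · rw [Category.assoc, pullback.lift_snd, Category.assoc, prodSys_map_snd, prodSys_map_snd,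
        pullback.lift_snd_assoc]
  have hRmap : ∀ {k l : Over i} (ψ : l ⟶ k), Qf.map ψ ≫ R k = R l ≫ Pf.map ψ := fun {k l} ψ => by
    apply pullback.hom_ext
    · rw [Category.assoc, pullback.lift_fst, Category.assoc, prodSys_map_fst, pullback.lift_fst_assoc,
        ← Category.assoc, prodSys_map_fst, Category.assoc, prodSys_map_fst, Category.assoc]
    · rw [Category.assoc, pullback.lift_snd, Category.assoc, prodSys_map_snd, prodSys_map_snd,
        pullback.lift_snd_assoc]
  let LL : cQ.pt ⟶ cP.pt := pullback.lift (pullback.fst pL bL ≫ tτ) (pullback.snd pL bL) (by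
    show (_ ≫ tτ) ≫ eL ≫ g = _
    rw [Category.assoc, reassoc_of% htτ, pullback.condition])
  let RL : cQ.pt ⟶ cP.pt := pullback.lift (pullback.fst pL bL ≫ pullback.fst aL bL) (pullback.snd pL bL) (by
    rw [Category.assoc, pullback.condition (f := aL), ← pullback.condition (f := pL)])
  have hLπ : cQ.π.app j₁ ≫ L (𝟙 j₁) = LL ≫ cP.π.app j₁ := by
    apply pullback.hom_ext
    · rw [Category.assoc, pullback.lift_fst, Category.assoc, prodCone_π_fst, pullback.lift_fst_assoc,
        ← Category.assoc, prodCone_π_fst, Category.assoc, hTπ, Category.assoc]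
    · rw [Category.assoc, pullback.lift_snd, Category.assoc, prodCone_π_snd, prodCone_π_snd,
        pullback.lift_snd_assoc]
  have hRπ : cQ.π.app j₁ ≫ R j₁ = RL ≫ cP.π.app j₁ := by
    apply pullback.hom_ext
    · rw [Category.assoc, pullback.lift_fst, Category.assoc, prodCone_π_fst, pullback.lift_fst_assoc,
        ← Category.assoc, prodCone_π_fst, Category.assoc, prodCone_π_fst, Category.assoc]
    · rw [Category.assoc, pullback.lift_snd, Category.assoc, prodCone_π_snd, prodCone_π_snd,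
        pullback.lift_snd_assoc]
  let tQ : Qf ⟶ (Functor.const (Over i)).obj (Φ.obj i) :=
    { app := fun j => pullback.snd (p j) (b j) ≫ Φ.map j.hom
      naturality := fun j k f => by
        refine Eq.trans ?_ (Category.comp_id _).symm
        rw [← Category.assoc, prodSys_map_snd, Category.assoc,
          show Bf.map f ≫ Φ.map k.hom = Φ.map j.hom from by
            show Φ.map f.left ≫ _ = _
            rw [← Φ.map_comp, Over.w f]] }
  obtain ⟨k₃, φ₃, hcomp⟩ := Scheme.exists_hom_comp_eq_comp_of_locallyOfFiniteType Qf tQ e cQ hQ (i := j₁)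
    (L (𝟙 j₁) ≫ T₁ ≫ fst₁) (R j₁ ≫ T₁ ≫ fst₁)
    (by simp only [Category.assoc, fst₁, pullback.condition, T₁, L, T, pullback.lift_snd_assoc]; rfl)
    (by simp only [Category.assoc, fst₁, pullback.condition, T₁, R, T, pullback.lift_snd_assoc]; rfl)
    (by
      rw [reassoc_of% hLπ, reassoc_of% hRπ, reassoc_of% hTπ (𝟙 j₁)]
      exact (reassoc_of% (isTau_tauPt D).comp) _)
  obtain ⟨k, w₂, w₃, hw⟩ := IsCofiltered.cospan φ₂ φ₃
  let φ := w₂ ≫ φ₂
  have htau : IsTau (p := τ k.left) (ek k) (T φ) := by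
    refine ⟨hTsnd φ, ?_, ?_⟩
    · show Δ k ≫ T φ = 𝟙 _
      apply pullback.hom_ext
      · rw [Category.id_comp, Category.assoc]
        have h1 : T φ ≫ pullback.fst e (Φ.map k.hom) = Pf.map φ ≫ T₁ ≫ fst₁ := by
          rw [← Category.assoc, hTmap φ (𝟙 j₁), Category.comp_id, Category.assoc, BC.map_fst]
        rw [h1, ← Category.assoc, ← hΔmap, Category.assoc, ← BC.map_fst Φ e φ]
        show Af.map (w₂ ≫ φ₂) ≫ _ = Af.map (w₂ ≫ φ₂) ≫ _
        rw [Af.map_comp, Category.assoc, Category.assoc, hself]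
      · rw [Category.id_comp, Category.assoc, hTsnd, pullback.lift_snd]
    · show L φ ≫ T φ = R k ≫ T φ
      apply pullback.hom_ext
      · have h1 : T φ ≫ pullback.fst e (Φ.map k.hom) = Pf.map φ ≫ T₁ ≫ fst₁ := by
          rw [← Category.assoc, hTmap φ (𝟙 j₁), Category.comp_id, Category.assoc, BC.map_fst]
        rw [Category.assoc, Category.assoc, h1, ← Category.assoc, ← Category.assoc (R k), ← hRmap φ]
        have h2 := hLmap φ (𝟙 j₁)
        rw [Category.comp_id] at h2
        rw [← h2, Category.assoc, Category.assoc]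
        show Qf.map (w₂ ≫ φ₂) ≫ _ = Qf.map (w₂ ≫ φ₂) ≫ _
        rw [hw, Qf.map_comp, Category.assoc, Category.assoc, hcomp]
      · rw [Category.assoc, Category.assoc, hTsnd, pullback.lift_snd, pullback.lift_snd]
  -- conclude
  let Dk : Desc.SchDD (τ k.left) := ddOfTau htau
  haveI : Etale (ek k) := inferInstanceAs (Etale (pullback.snd e (Φ.map k.hom)))
  haveI : IsSeparated (ek k) := inferInstanceAs (IsSeparated (pullback.snd e (Φ.map k.hom)))
  haveI : QuasiCompact (ek k) := inferInstanceAs (QuasiCompact (pullback.snd e (Φ.map k.hom)))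
  obtain ⟨U, hU₁, hU₂, hU₃, ⟨is⟩⟩ := H k.left Dk ‹_› ‹_› ‹_›
  refine ⟨U, hU₁, hU₂, hU₃, ?_⟩
  let iv : Af.obj k ⟶ pullback (τ k.left) U.hom := is.inv.hom.left
  have hiv : iv ≫ pullback.fst _ _ = ek k := Over.w is.inv.hom
  haveI : IsIso iv := ⟨is.hom.hom.left, congrArg (fun m : Dk ⟶ Dk => m.hom.left) is.inv_hom_id,
    congrArg (fun m : (Desc.toDD (τ k.left)).obj U ⟶ (Desc.toDD (τ k.left)).obj U => m.hom.left) is.hom_inv_id⟩
  let Wk : Af.obj k ⟶ U.left := iv ≫ pullback.snd _ _
  have sqk : IsPullback (ek k) Wk (τ k.left) U.hom :=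
    (IsPullback.of_hasPullback (τ k.left) U.hom).of_iso (asIso iv).symm (Iso.refl _) (Iso.refl _) (Iso.refl _)
      (by simp [← hiv]) (by simp [Wk]) (by simp) (by simp)
  have hinv : T φ ≫ Wk = pullback.fst (a k) (b k) ≫ Wk := by
    let v : Desc.Lifts Dk.obj (pullback.fst (a k) (b k) ≫ ek k) := ⟨pullback.fst (a k) (b k), rfl⟩
    have h := congrArg (· ≫ pullback.snd (τ k.left) U.hom)
      (is.inv.comm (pullback.fst (a k) (b k) ≫ ek k) (pullback.snd (a k) (b k))
        ((Category.assoc _ _ _).trans pullback.condition) v (Desc.SchDD.Hom.push is.inv v) rfl)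
    have hmove : (Dk.φ (pullback.fst (a k) (b k) ≫ ek k) (pullback.snd (a k) (b k))
        ((Category.assoc _ _ _).trans pullback.condition) v).1 = T φ := by
      show pullback.lift (pullback.fst (a k) (b k)) (pullback.snd (a k) (b k)) _ ≫ T φ = T φ
      rw [show pullback.lift (pullback.fst (a k) (b k)) (pullback.snd (a k) (b k)) _ = 𝟙 _ from
        pullback.hom_ext (by rw [pullback.lift_fst, Category.id_comp]) (by rw [pullback.lift_snd, Category.id_comp]),
        Category.id_comp]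
    change pullback.lift _ _ _ ≫ pullback.snd _ _ = _ at h
    rw [pullback.lift_snd, hmove] at h
    change (pullback.fst (a k) (b k) ≫ iv) ≫ _ = (T φ ≫ iv) ≫ _ at h
    simpa only [Wk, Category.assoc] using h.symm
  refine nonempty_iso_of_invariant D (cA.π.app k ≫ Wk) ?_ ?_
  · have s1 : IsPullback eL (cA.π.app k) (cB.π.app k) (ek k) := (BC.isPullback_proj Φ e hm.sq k).flip
    have s2 : IsPullback D.obj.hom (cA.π.app k ≫ Wk) (c.π.app k.left ≫ τ k.left) U.hom := s1.paste_vert sqk
    rwa [hσ] at s2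
  · show tτ ≫ cA.π.app k ≫ Wk = pullback.fst aL bL ≫ cA.π.app k ≫ Wk
    rw [← Category.assoc, ← hTπ φ, Category.assoc, hinv, ← Category.assoc, prodCone_π_fst, Category.assoc]

end Groth.Agent.EtDescX
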