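import Groth.Agent.EtDescX.Space
import Groth.Agent.AlgSpDec.LqfScheme
import Groth.Agent.AlgSpLib.Descends2
import Groth.Agent.AlgSpLib.EtLocalInst

/-!
# Effectivity of descent for separated etale schemes from etale charts
-/

universe u

open CategoryTheory CategoryTheory.Limits AlgebraicGeometry Opposite AlgSp Groth.Agent.AlgSpLib Groth.Agent.AlgSpDec

namespace Groth.Agent.EtDescX

set_option autoImplicit false
set_option backward.isDefEq.respectTransparency false
set_option backward.isDefEq.respectTransparency.types false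

variable {X S : Scheme.{u}} {p : X ⟶ S} {D : Desc.SchDD p}

/-- A compatible section is determined by its value along a section of the projection. -/
theorem eq_of_section {T : Scheme.{u}} {t : T ⟶ S} {τ τ' : Over.mk (pullback.snd t p) ⟶ D.obj} (hτ : IsCompat D t τ)
    (hτ' : IsCompat D t τ') (s : T ⟶ pullback t p) (hs : s ≫ pullback.fst t p = 𝟙 T)
    (h : s ≫ τ.left = s ≫ τ'.left) : τ = τ' := by
  have hz : (pullback.fst t p ≫ s) ≫ pullback.fst t p = 𝟙 _ ≫ pullback.fst t p := by
    rw [Category.assoc, hs, Category.comp_id, Category.id_comp]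
  refine Over.OverMorphism.ext ?_
  refine (Category.id_comp _).symm.trans (Eq.trans ?_ (Category.id_comp _))
  exact ((hτ _ _ hz).symm.trans (φ_congr _ _ _ _ rfl rfl
    ((Category.assoc _ _ _).trans ((congrArg (pullback.fst t p ≫ ·) h).trans (Category.assoc _ _ _).symm)))).trans (hτ' _ _ hz)

section

variable (D)

theorem tauEq : (pullback.fst (D.obj.hom ≫ p) p ≫ D.obj.hom) ≫ p = pullback.snd (D.obj.hom ≫ p) p ≫ p :=
  (Category.assoc _ _ _).trans pullback.condition

/-- The universal compatible section, over the object of the descent datum. -/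
noncomputable def tauPt : Over.mk (pullback.snd (D.obj.hom ≫ p) p) ⟶ D.obj :=
  Over.homMk (D.φ _ _ (tauEq D) ⟨pullback.fst (D.obj.hom ≫ p) p, rfl⟩).1
    (D.φ _ _ (tauEq D) ⟨pullback.fst (D.obj.hom ≫ p) p, rfl⟩).2

theorem isCompat_tauPt : IsCompat D (D.obj.hom ≫ p) (tauPt D) := by
  let u := D.obj.hom
  let T₀ : Over S := Over.mk (u ≫ p)
  let a := pullback.fst T₀.hom p
  let b := pullback.snd T₀.hom p
  have hab : (a ≫ u) ≫ p = b ≫ p := tauEq D
  let τ : Over.mk b ⟶ D.obj := tauPt D
  intro Z z₀ z₁ h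
  have h' : ∀ (z : Z ⟶ pullback T₀.hom p) (hz : (z₀ ≫ a ≫ u) ≫ p = (z ≫ b) ≫ p), z ≫ a = z₀ ≫ a →
      z ≫ τ.left = (D.φ (z₀ ≫ a ≫ u) (z ≫ b) hz ⟨z₀ ≫ a, Category.assoc _ _ _⟩).1 := fun z hz he => by
    refine (φ_pre z hab hz ⟨a, rfl⟩ ⟨z₀ ≫ a, Category.assoc _ _ _⟩ ?_ rfl he.symm).symm
    rw [← Category.assoc, he, Category.assoc]
  have h₁ : (z₀ ≫ a ≫ u) ≫ p = (z₀ ≫ b) ≫ p := by simp only [Category.assoc] at hab ⊢; rw [hab]
  have h₂ : (z₀ ≫ a ≫ u) ≫ p = (z₁ ≫ b) ≫ p := h₁.trans (snd_comp_eq z₀ z₁ h)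
  rw [h' z₁ h₂ h.symm, ← D.φ_comp (z₀ ≫ a ≫ u) (z₀ ≫ b) (z₁ ≫ b) h₁ (snd_comp_eq z₀ z₁ h)
    ⟨z₀ ≫ a, Category.assoc _ _ _⟩]
  exact φ_congr _ _ _ _ rfl rfl (h' z₀ h₁ rfl)

end

/-- The sheaf of sections being represented, the descent datum is effective. -/
theorem nonempty_iso_of_rep (U₀ : Over S) (e : (yon S).obj U₀ ≅ sectSp D) :
    Nonempty ((Desc.toDD p).obj U₀ ≅ D) := by
  let σu : Over.mk (pullback.snd U₀.hom p) ⟶ D.obj := val D e.hom
  let U := D.obj.left
  let u : U ⟶ X := D.obj.hom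
  let sy : pullback p U₀.hom ⟶ pullback U₀.hom p := pullback.lift (pullback.snd _ _) (pullback.fst _ _) pullback.condition.symm
  let w : pullback p U₀.hom ⟶ U := sy ≫ σu.left
  have hwu : w ≫ u = pullback.fst p U₀.hom :=
    (Category.assoc _ _ _).trans ((congrArg (sy ≫ ·) (Over.w σu)).trans (pullback.lift_snd _ _ _))
  have hev : ∀ {T : Over S} (g : T ⟶ U₀) (x : T.left ⟶ X) (h : x ≫ p = g.left ≫ U₀.hom),
      pullback.lift (𝟙 T.left) x ((Category.id_comp _).trans ((Over.w g).symm.trans h.symm)) ≫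
        (val D ((yon S).map g ≫ e.hom)).left = pullback.lift x g.left h ≫ w := fun {T} g x h => by
    rw [val_comp]
    show pullback.lift _ _ _ ≫ ((Over.pullback p).map g).left ≫ σu.left = pullback.lift x g.left h ≫ sy ≫ σu.left
    rw [← Category.assoc, ← Category.assoc]
    congr 1
    apply pullback.hom_ext
    · rw [Category.assoc, Category.assoc,
        show ((Over.pullback p).map g).left ≫ pullback.fst U₀.hom p = pullback.fst T.hom p ≫ g.left from pullback.lift_fst _ _ _,
        pullback.lift_fst, pullback.lift_snd, pullback.lift_fst_assoc, Category.id_comp]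
    · rw [Category.assoc, Category.assoc,
        show ((Over.pullback p).map g).left ≫ pullback.snd U₀.hom p = pullback.snd T.hom p from pullback.lift_snd _ _ _,
        pullback.lift_snd, pullback.lift_snd, pullback.lift_fst]
  let T₀ : Over S := Over.mk (u ≫ p)
  let a := pullback.fst T₀.hom p
  let b := pullback.snd T₀.hom p
  have hab : (a ≫ u) ≫ p = b ≫ p := tauEq D
  let τ : Over.mk b ⟶ D.obj := tauPt D
  have hτ : IsCompat D T₀.hom τ := isCompat_tauPt D
  obtain ⟨k, hk⟩ := (yon S).map_surjective (ofVal D τ hτ ≫ e.inv)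
  have hk' : val D ((yon S).map k ≫ e.hom) = τ := by rw [hk, Category.assoc, e.inv_hom_id, Category.comp_id, val_ofVal]
  let r : U ⟶ pullback p U₀.hom := pullback.lift u k.left (Over.w k).symm
  have hrw : r ≫ w = 𝟙 U := by
    refine (hev k u (Over.w k).symm).symm.trans ?_
    rw [hk']
    refine (φ_pre (pullback.lift (𝟙 U) u (Category.id_comp _)) hab rfl ⟨a, rfl⟩ ⟨𝟙 U, Category.id_comp _⟩
      ?_ ?_ ?_).symm.trans (congrArg Subtype.val (D.φ_self u ⟨𝟙 U, Category.id_comp _⟩))
    · rw [← Category.assoc]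
      exact (congrArg (· ≫ u) (pullback.lift_fst _ _ _)).trans (Category.id_comp _)
    · exact pullback.lift_snd _ _ _
    · exact (pullback.lift_fst _ _ _).symm
  let T₁ : Over S := Over.mk (pullback.fst p U₀.hom ≫ p)
  let g₁ : T₁ ⟶ U₀ := Over.homMk (pullback.snd p U₀.hom) pullback.condition.symm
  let g₂ : T₁ ⟶ U₀ := Over.homMk (w ≫ k.left) (by
    show (w ≫ k.left) ≫ U₀.hom = pullback.fst p U₀.hom ≫ p
    rw [Category.assoc, Over.w k, ← hwu, Category.assoc]
    rfl)
  have hg : g₂ = g₁ := by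
    apply (yon S).map_injective
    rw [← cancel_mono e.hom]
    refine val_injective D (eq_of_section (isCompat_val D _) (isCompat_val D _)
      (pullback.lift (𝟙 _) (pullback.fst p U₀.hom) (Category.id_comp _)) (pullback.lift_fst _ _ _) ?_)
    refine (hev g₂ _ (Over.w g₂).symm).trans (Eq.trans ?_ (hev g₁ _ (Over.w g₁).symm).symm)
    have e₁ : pullback.lift (pullback.fst p U₀.hom) g₂.left (Over.w g₂).symm = w ≫ r := by
      apply pullback.hom_ext
      · rw [pullback.lift_fst, Category.assoc, pullback.lift_fst, hwu]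
      · rw [pullback.lift_snd, Category.assoc, pullback.lift_snd]
        rfl
    have e₂ : pullback.lift (pullback.fst p U₀.hom) g₁.left (Over.w g₁).symm = 𝟙 _ := by
      apply pullback.hom_ext
      · rw [pullback.lift_fst, Category.id_comp]
      · rw [pullback.lift_snd, Category.id_comp]
        rfl
    rw [e₁, e₂, Category.assoc, hrw]
    exact (Category.comp_id w).trans (Category.id_comp w).symm
  have hwr : w ≫ r = 𝟙 _ := by
    apply pullback.hom_ext
    · rw [Category.assoc, pullback.lift_fst, hwu, Category.id_comp]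
    · rw [Category.assoc, pullback.lift_snd, Category.id_comp]
      exact congrArg CommaMorphism.left hg
  let wO : ((Desc.toDD p).obj U₀).obj ⟶ D.obj := Over.homMk w hwu
  let rO : D.obj ⟶ ((Desc.toDD p).obj U₀).obj := Over.homMk r (pullback.lift_fst _ _ _)
  have hcomm : ∀ ⦃T : Scheme.{u}⦄ (x₀ x₁ : T ⟶ X) (h : x₀ ≫ p = x₁ ≫ p)
      (v : Desc.Lifts ((Desc.toDD p).obj U₀).obj x₀) (v' : Desc.Lifts D.obj x₀), v'.1 = v.1 ≫ w →
      (D.φ x₀ x₁ h v').1 = (((Desc.toDD p).obj U₀).φ x₀ x₁ h v).1 ≫ w := fun T x₀ x₁ h v v' hv => by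
    let g : Over.mk (x₀ ≫ p) ⟶ U₀ := Over.homMk (v.1 ≫ pullback.snd p U₀.hom) (by
      show (v.1 ≫ pullback.snd p U₀.hom) ≫ U₀.hom = x₀ ≫ p
      rw [Category.assoc, ← pullback.condition, ← Category.assoc]
      exact congrArg (· ≫ p) v.2)
    have hz := (isCompat_val D ((yon S).map g ≫ e.hom)) (pullback.lift (𝟙 T) x₀ (Category.id_comp _))
      (pullback.lift (𝟙 T) x₁ ((Category.id_comp _).trans h)) (by rw [pullback.lift_fst, pullback.lift_fst])
    refine (φ_congr _ _ _ _ (pullback.lift_snd _ _ _).symm (pullback.lift_snd _ _ _).symm ?_).trans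
      (hz.trans (hev g x₁ (h.symm.trans (Over.w g).symm)))
    refine hv.trans (Eq.trans (congrArg (· ≫ w) ?_) (hev g x₀ (Over.w g).symm).symm)
    apply pullback.hom_ext
    · exact v.2.trans (pullback.lift_fst _ _ _).symm
    · exact (pullback.lift_snd _ _ _).symm
  refine ⟨⟨⟨wO, hcomm⟩, ⟨rO, fun T x₀ x₁ h v v' hv => ?_⟩, Desc.SchDD.hom_ext ?_, Desc.SchDD.hom_ext ?_⟩⟩
  · have := hcomm x₀ x₁ h v' v (by
      rw [hv]
      show v.1 = (v.1 ≫ r) ≫ w
      rw [Category.assoc, hrw]
      exact (Category.comp_id _).symm)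
    show _ = (D.φ x₀ x₁ h v).1 ≫ r
    rw [this, Category.assoc, hwr]
    exact (Category.comp_id _).symm
  · exact Over.OverMorphism.ext hwr
  · exact Over.OverMorphism.ext hrw

variable (D)

/-- Descent data for separated etale schemes along universally submersive morphisms are effective as soon
as their sections have etale charts. -/
theorem exists_effective_of_hasCharts [IsSeparated D.obj.hom] [Etale D.obj.hom] (hp : SGA1.UnivSubmersive p)
    (hch : HasCharts D) :
    ∃ U : Over S, IsSeparated U.hom ∧ Etale U.hom ∧ (QuasiCompact p → QuasiCompact D.obj.hom → QuasiCompact U.hom) ∧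
      Nonempty ((Desc.toDD p).obj U ≅ D) := by
  have := surjective_of_univSubmersive hp
  obtain ⟨V, a, hV, hsp, hae, has⟩ := exists_atlas D hp hch
  let f : sectSp D ⟶ (yon S).obj (Over.mk (𝟙 S)) := ⟨⟨fun T => ↾fun _ =>
    ULift.up (Over.homMk T.unop.hom (Category.comp_id _) : T.unop ⟶ Over.mk (𝟙 S)), fun T T' g => by
      ext x
      exact congrArg ULift.up (Over.OverMorphism.ext (Over.w g.unop).symm)⟩⟩
  let h : V ⟶ Over.mk (𝟙 S) := Over.homMk V.hom (Category.comp_id _)
  have hw : a ≫ f = (yon S).map h ≫ 𝟙 _ := by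
    obtain ⟨g, hg⟩ := (yon S).map_surjective (a ≫ f)
    rw [← hg, Category.comp_id]
    congr 1
    exact Over.OverMorphism.ext ((Category.comp_id g.left).symm.trans (Over.w g))
  have hqf : LocP (@LocallyQuasiFinite ⊓ @LocallyOfFiniteType) f :=
    locP_of_chart hae has (repWith_id _ _) hw ⟨(inferInstance : LocallyQuasiFinite V.hom),
      (inferInstance : LocallyOfFiniteType V.hom)⟩
  obtain ⟨U₀, ⟨e⟩⟩ := exists_iso_of_lqf_separated hsp f hqf (isSeparatedMor_sectSp hp f)
  obtain ⟨k, hk⟩ := (yon S).map_surjective (a ≫ e.inv)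
  have hke : Etale k.left := (repWith_yon_map_iff _ k).1 (hk ▸ MorphismProperty.RespectsIso.postcomp _ _ _ hae)
  have hks : Surjective k.left := (repWith_yon_map_iff _ k).1 (hk ▸ MorphismProperty.RespectsIso.postcomp _ _ _ has)
  have het : Etale U₀.hom := IsEtLocal.of_precomp (P := @Etale) k.left U₀.hom hke hks (by
    rw [Over.w k]
    exact hV)
  obtain ⟨i⟩ := nonempty_iso_of_rep U₀ e
  let w : pullback p U₀.hom ⟶ D.obj.left := i.hom.hom.left
  have hwi : IsIso w := ⟨i.inv.hom.left, congrArg (fun z : (Desc.toDD p).obj U₀ ⟶ (Desc.toDD p).obj U₀ => z.hom.left) i.hom_inv_id,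
    congrArg (fun z : D ⟶ D => z.hom.left) i.inv_hom_id⟩
  have hc : pullback.snd p U₀.hom ≫ U₀.hom = w ≫ D.obj.hom ≫ p := by
    rw [← pullback.condition, ← Category.assoc]
    exact congrArg (· ≫ p) (Over.w i.hom.hom).symm
  refine ⟨U₀, ?_, het, fun _ _ => ?_, ⟨i⟩⟩
  · let g₁ : Over.mk (pullback.fst U₀.hom U₀.hom ≫ U₀.hom) ⟶ U₀ := Over.homMk (pullback.fst _ _) rfl
    let g₂ : Over.mk (pullback.fst U₀.hom U₀.hom ≫ U₀.hom) ⟶ U₀ :=
      Over.homMk (pullback.snd _ _) pullback.condition.symm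
    obtain ⟨O, hOc, hO⟩ := exists_agree_points hp ((yon S).map g₁ ≫ e.hom) ((yon S).map g₂ ≫ e.hom)
    refine ⟨?_⟩
    let O' : (pullback.diagonalObj U₀.hom).Opens := O
    suffices h : Set.range (pullback.diagonal U₀.hom) = (O' : Set ↥(pullback.diagonalObj U₀.hom)) from
      .of_isPreimmersion _ (by rw [h]; exact hOc)
    refine Set.Subset.antisymm ?_ fun x hx => ?_
    · refine (hO (Over.homMk (pullback.diagonal U₀.hom) (pullback.diagonal_fst_assoc U₀.hom U₀.hom) :
        U₀ ⟶ Over.mk (pullback.fst U₀.hom U₀.hom ≫ U₀.hom))).1 ?_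
      rw [← Category.assoc, ← Category.assoc, ← Functor.map_comp, ← Functor.map_comp]
      congr 2
      exact Over.OverMorphism.ext ((pullback.diagonal_fst _).trans (pullback.diagonal_snd _).symm)
    · let j : Over.mk (O.ι ≫ pullback.fst U₀.hom U₀.hom ≫ U₀.hom) ⟶ Over.mk (pullback.fst U₀.hom U₀.hom ≫ U₀.hom) :=
        Over.homMk O.ι rfl
      have he := (hO j).2 (Scheme.Opens.range_ι O).subset
      have he' : (yon S).map (j ≫ g₁) = (yon S).map (j ≫ g₂) := by
        refine ((yon S).map_comp j g₁).trans (Eq.trans ?_ ((yon S).map_comp j g₂).symm)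
        exact (cancel_mono e.hom).1 ((Category.assoc _ _ _).trans (he.trans (Category.assoc _ _ _).symm))
      have hj : O.ι = (O.ι ≫ pullback.fst U₀.hom U₀.hom) ≫ pullback.diagonal U₀.hom := by
        apply pullback.hom_ext
        · simp
        · simp only [Category.assoc, pullback.diagonal_snd, Category.comp_id]
          exact (congrArg CommaMorphism.left ((yon S).map_injective he')).symm
      refine ⟨(O.ι ≫ pullback.fst U₀.hom U₀.hom) ⟨x, hx⟩, ?_⟩
      rw [← Scheme.Hom.comp_apply, ← hj]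
      rfl
  · have : QuasiCompact (pullback.snd p U₀.hom ≫ U₀.hom) := by rw [hc]; infer_instance
    exact AlgSpLib.quasiCompact_of_comp_surjective (pullback.snd p U₀.hom) _

end Groth.Agent.EtDescX
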