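import Groth.Agent.EtDescX.Effective

/-!
# Effectivity of descent for separated etale schemes along etale surjections
-/

universe u

open CategoryTheory CategoryTheory.Limits AlgebraicGeometry Opposite AlgSp Groth.Agent.AlgSpLib

namespace Groth.Agent.EtDescX

set_option autoImplicit false
set_option backward.isDefEq.respectTransparency false
set_option backward.isDefEq.respectTransparency.types false

variable {X S : Scheme.{u}} {p : X ⟶ S}

/-- Descent data along etale surjections have etale charts. -/
theorem hasCharts_of_etale [Etale p] [Surjective p] (D : Desc.SchDD p) [IsSeparated D.obj.hom] [Etale D.obj.hom] :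
    HasCharts D := by
  intro T c t
  obtain ⟨x, hx⟩ := (pullback.fst T.hom p).surjective t
  let σc := val D c
  let a : Spec ((pullback T.hom p).residueField x) ⟶ pullback T.hom p := (pullback T.hom p).fromSpecResidueField x
  let b := a ≫ pullback.snd T.hom p
  let W : Over S := Over.mk (b ≫ p)
  let y : W ⟶ T := Over.homMk (a ≫ pullback.fst T.hom p) (by
    show (a ≫ pullback.fst T.hom p) ≫ T.hom = b ≫ p
    rw [Category.assoc, pullback.condition, ← Category.assoc])
  let V : Over S := Over.mk (D.obj.hom ≫ p)
  have hzu : (a ≫ σc.left) ≫ D.obj.hom = b := (Category.assoc _ _ _).trans (congrArg (a ≫ ·) (Over.w σc))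
  let z : W ⟶ V := Over.homMk (a ≫ σc.left)
    ((Category.assoc _ _ _).symm.trans (congrArg (· ≫ p) hzu))
  refine ⟨V, W, ofVal D (tauPt D) (isCompat_tauPt D), y, z, (default : Spec ((pullback T.hom p).residueField x)),
    inferInstanceAs (Etale (D.obj.hom ≫ p)), ?_, ?_⟩
  · exact (Scheme.Hom.comp_apply _ _ _).trans ((congrArg _ (Scheme.fromSpecResidueField_apply _ _)).trans hx)
  · let s : W.left ⟶ pullback W.hom p := pullback.lift (𝟙 _) b (Category.id_comp _)
    refine val_injective D (eq_of_section (isCompat_val D _) (isCompat_val D _) s (pullback.lift_fst _ _ _) ?_)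
    rw [val_comp, val_comp, val_ofVal]
    show s ≫ ((Over.pullback p).map y).left ≫ σc.left = s ≫ ((Over.pullback p).map z).left ≫ (tauPt D).left
    have hy : s ≫ ((Over.pullback p).map y).left = a := by
      apply pullback.hom_ext
      · rw [Category.assoc, show ((Over.pullback p).map y).left ≫ pullback.fst T.hom p = pullback.fst W.hom p ≫ y.left
          from pullback.lift_fst _ _ _, pullback.lift_fst_assoc]
        exact Category.id_comp _
      · rw [Category.assoc, show ((Over.pullback p).map y).left ≫ pullback.snd T.hom p = pullback.snd W.hom p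
          from pullback.lift_snd _ _ _, pullback.lift_snd]
    let m := s ≫ ((Over.pullback p).map z).left
    have hm₁ : m ≫ pullback.fst (D.obj.hom ≫ p) p = a ≫ σc.left := by
      rw [Category.assoc, show ((Over.pullback p).map z).left ≫ pullback.fst (D.obj.hom ≫ p) p = pullback.fst W.hom p ≫ z.left
        from pullback.lift_fst _ _ _, pullback.lift_fst_assoc]
      exact Category.id_comp _
    have hm₂ : m ≫ pullback.snd (D.obj.hom ≫ p) p = b := by
      rw [Category.assoc, show ((Over.pullback p).map z).left ≫ pullback.snd (D.obj.hom ≫ p) p = pullback.snd W.hom p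
        from pullback.lift_snd _ _ _, pullback.lift_snd]
    rw [← Category.assoc, hy, ← Category.assoc]
    refine Eq.trans ?_ (φ_pre m (tauEq D) rfl _ ⟨a ≫ σc.left, hzu⟩ ?_ hm₂ hm₁.symm)
    · exact (congrArg Subtype.val (D.φ_self b ⟨a ≫ σc.left, hzu⟩)).symm
    · rw [← Category.assoc, hm₁, hzu]

end Groth.Agent.EtDescX
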