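import Groth.Agent.PopescuLib.FPColim
import Mathlib.AlgebraicGeometry.AffineScheme
import Mathlib.AlgebraicGeometry.Morphisms.FinitePresentation

/-!
# A morphism of affine schemes is a cofiltered limit of finitely presented ones
-/

universe u

set_option autoImplicit false
set_option backward.isDefEq.respectTransparency false
set_option backward.isDefEq.respectTransparency.types false

open CategoryTheory CategoryTheory.Limits AlgebraicGeometry Opposite Groth.Agent.PopescuLib

namespace Groth.Agent.EtDescX

/-- A morphism of affine schemes is the limit, over the target, of a cofiltered system of finitely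
presented morphisms of affine schemes. -/
theorem exists_fp_limit {X Y : Scheme.{u}} [IsAffine X] [IsAffine Y] (f : X ⟶ Y) :
    ∃ (I : Type u) (_ : SmallCategory I) (_ : IsCofiltered I) (D : I ⥤ Over Y) (c : Cone D)
      (_ : IsLimit ((Over.forget Y).mapCone c)) (_ : c.pt ≅ Over.mk f),
      (∀ i, IsAffine (D.obj i).left) ∧ ∀ i, LocallyOfFinitePresentation (D.obj i).hom := by
  letI := f.appTop.hom.toAlgebra
  let A : Type u := Γ(Y, ⊤)
  let B : Type u := Γ(X, ⊤)
  let D : (FPModel A B)ᵒᵖ ⥤ Over Y :=
    { obj := fun M => Over.mk (Spec.map (CommRingCat.ofHom (algebraMap A M.unop.Alg)) ≫ Y.isoSpec.inv)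
      map := fun {M N} a => Over.homMk (Spec.map (CommRingCat.ofHom a.unop.1.toRingHom)) (by
        show Spec.map (CommRingCat.ofHom a.unop.1.toRingHom) ≫ Spec.map (CommRingCat.ofHom (algebraMap A N.unop.Alg)) ≫
          Y.isoSpec.inv = _
        rw [← Category.assoc, ← Spec.map_comp, ← CommRingCat.ofHom_comp,
          a.unop.1.toRingHom_eq_coe, AlgHom.comp_algebraMap]
        rfl)
      map_id := fun M => by
        apply Over.OverMorphism.ext
        show Spec.map (CommRingCat.ofHom (AlgHom.id A M.unop.Alg).toRingHom) = 𝟙 _
        exact Spec.map_id (CommRingCat.of M.unop.Alg)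
      map_comp := fun {M N P} a b => by
        apply Over.OverMorphism.ext
        show Spec.map (CommRingCat.ofHom (a ≫ b).unop.1.toRingHom) = Spec.map _ ≫ Spec.map _
        rw [← Spec.map_comp]
        rfl }
  let c : Cone D :=
    { pt := Over.mk (Spec.map (CommRingCat.ofHom (algebraMap A B)) ≫ Y.isoSpec.inv)
      π :=
        { app := fun M => Over.homMk (Spec.map (CommRingCat.ofHom M.unop.toB.toRingHom)) (by
            show Spec.map (CommRingCat.ofHom M.unop.toB.toRingHom) ≫
              Spec.map (CommRingCat.ofHom (algebraMap A M.unop.Alg)) ≫ Y.isoSpec.inv = _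
            rw [← Category.assoc, ← Spec.map_comp, ← CommRingCat.ofHom_comp,
              M.unop.toB.toRingHom_eq_coe, AlgHom.comp_algebraMap]
            rfl)
          naturality := fun M N a => by
            apply Over.OverMorphism.ext
            show 𝟙 _ ≫ Spec.map _ = Spec.map _ ≫ Spec.map _
            rw [Category.id_comp, ← Spec.map_comp, ← CommRingCat.ofHom_comp]
            exact congrArg (fun φ : N.unop.Alg →ₐ[A] B => Spec.map (CommRingCat.ofHom φ.toRingHom)) a.unop.2.symm } }
  haveI : IsConnected (FPModel A B) := IsFiltered.isConnected _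
  have h1 : IsColimit ((Under.forget (CommRingCat.of A)).mapCocone (fpCocone A B)) :=
    isColimitOfPreserves _ (fpIsColimit A B)
  have h2 := isLimitOfPreserves Scheme.Spec h1.op
  have h3 : IsLimit ((Over.forget Y).mapCone c) := by
    refine IsLimit.equivOfNatIsoOfIso (NatIso.ofComponents (fun M => Iso.refl _) ?_) _ _ (Cone.ext (Iso.refl _) ?_) h2
    · intro M N a
      exact (Category.comp_id _).trans (Category.id_comp _).symm
    · intro M
      exact (Category.comp_id _).trans (Category.id_comp _).symm
  refine ⟨(FPModel A B)ᵒᵖ, inferInstance, inferInstance, D, c, h3,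
    Over.isoMk X.isoSpec.symm ?_, fun M => inferInstanceAs (IsAffine (Spec _)), fun M => ?_⟩
  · show X.isoSpec.inv ≫ f = Spec.map (CommRingCat.ofHom (algebraMap A B)) ≫ Y.isoSpec.inv
    exact (Scheme.isoSpec_inv_naturality f).symm
  · show LocallyOfFinitePresentation (Spec.map (CommRingCat.ofHom (algebraMap A M.unop.Alg)) ≫ Y.isoSpec.inv)
    rw [MorphismProperty.cancel_right_of_respectsIso @LocallyOfFinitePresentation,
      HasRingHomProperty.Spec_iff (P := @LocallyOfFinitePresentation)]
    exact RingHom.finitePresentation_algebraMap.2 inferInstance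

end Groth.Agent.EtDescX
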