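import Groth.Agent.EtDescX.RefineComp
import Groth.Agent.EtDescX.FpLimit
import Groth.Agent.DescLib.SubtrSubm
import Groth.Agent.SGA1Q.Subm
import Groth.Agent.S1297
import Groth.Agent.S9202
import Groth.Agent.FComplLib.Thicken
import Groth.Agent.H23.RedSub

/-!
# Finite type descends along universally submersive morphisms of noetherian schemes
-/

universe u

set_option autoImplicit false
set_option linter.style.haveILetI false
set_option backward.isDefEq.respectTransparency false
set_option backward.isDefEq.respectTransparency.types false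

open CategoryTheory CategoryTheory.Limits AlgebraicGeometry

namespace Groth.Agent.EtDescX

variable {X' X Y : Scheme.{u}}

/-- Finite type descends along universally submersive morphisms: reduced affine noetherian case. -/
theorem locallyOfFiniteType_affine [IsNoetherian X'] [IsNoetherian X] [IsNoetherian Y] [IsAffine X] [IsAffine Y]
    [IsReduced X] (f : X' ⟶ X) (hf : SGA1.UnivSubmersive f) (g : X ⟶ Y) [LocallyOfFiniteType (f ≫ g)] :
    LocallyOfFiniteType g := by
  haveI : LocallyOfFiniteType f := locallyOfFiniteType_of_comp f g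
  haveI : LocallyOfFinitePresentation f := inferInstance
  haveI : QuasiCompact f := quasiCompact_of_noetherianSpace_source _
  have hs := DescLib.univSSubtrusive_of_univSubmersive f hf
  obtain ⟨Y', q, ι, _, W, h, hq1, hq2, hq3, -, -, hcov, hh⟩ :=
    exists_refine f ⊤ hs (fun _ _ _ _ => trivial) (hasCompactifications_proj f)
  haveI : LocallyOfFiniteType (q ≫ g) :=
    (IsZariskiLocalAtSource.iff_of_iSup_eq_top (P := @LocallyOfFiniteType) W
      (top_unique fun z _ => TopologicalSpace.Opens.mem_iSup.2 (hcov z))).2 fun k => by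
      have hk : LocallyOfFiniteType (h k ≫ f) := by rw [hh k]; infer_instance
      have : LocallyOfFiniteType (h k) := @locallyOfFiniteType_of_comp _ _ _ (h k) f hk
      rw [← Category.assoc, ← hh k, Category.assoc]
      infer_instance
  obtain ⟨I, _, _, Φ', c', hc', e, hI, hfp⟩ := exists_fp_limit g
  haveI : ∀ i, IsAffine (Φ'.obj i).left := hI
  let Φ : I ⥤ Scheme.{u} := Φ' ⋙ Over.forget Y
  haveI : ∀ i, IsAffine (Φ.obj i) := hI
  haveI : ∀ i j (k : i ⟶ j), IsAffineHom (Φ.map k) := fun _ _ _ => isAffineHom_of_isAffine _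
  haveI : ∀ i, CompactSpace (Φ.obj i) := fun _ => inferInstance
  haveI : ∀ i, QuasiSeparatedSpace (Φ.obj i) := fun _ => inferInstance
  let el : c'.pt.left ≅ X := (Over.forget Y).mapIso e
  let c : Cone Φ :=
    { pt := X
      π := { app := fun i => el.inv ≫ (c'.π.app i).left
             naturality := fun i j f => by
               refine (Category.id_comp _).trans ?_
               rw [Category.assoc]
               exact congrArg (el.inv ≫ ·) (((Over.forget Y).mapCone c').w f).symm } }
  have hc : IsLimit c := IsLimit.ofIsoLimit hc' (Cone.ext el fun i => (el.hom_inv_id_assoc _).symm)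
  let t : Φ ⟶ (Functor.const I).obj Y :=
    { app := fun i => (Φ'.obj i).hom
      naturality := fun i j k => (Over.w (Φ'.map k)).trans (Category.comp_id _).symm }
  have hσ : ∀ i, c.π.app i ≫ t.app i = g := fun i => by
    show (el.inv ≫ (c'.π.app i).left) ≫ (Φ'.obj i).hom = g
    have h1 : (c'.π.app i).left ≫ (Φ'.obj i).hom = c'.pt.hom := Over.w (c'.π.app i)
    rw [Category.assoc, h1]
    exact Over.w e.inv
  have i₀ : I := IsCofiltered.nonempty.some
  let qq : Y' ⟶ c.pt := q
  haveI : IsProper qq := hq1
  haveI : LocallyOfFiniteType (qq ≫ c.π.app i₀ ≫ t.app i₀) := by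
    rw [hσ]; show LocallyOfFiniteType (q ≫ g); infer_instance
  obtain ⟨i, hi⟩ := S9202.result Y Φ t c hc i₀ qq
  haveI : IsProper (qq ≫ c.π.app i) := hi i (𝟙 i)
  haveI : LocallyOfFinitePresentation (t.app i) := hfp i
  haveI : LocallyOfFinitePresentation (Φ'.obj i).hom := hfp i
  haveI : IsLocallyNoetherian (Φ.obj i) := LocallyOfFiniteType.isLocallyNoetherian (Φ'.obj i).hom
  haveI : IsNoetherianRing Γ(Φ.obj i, ⊤) := IsLocallyNoetherian.component_noetherian ⟨⊤, isAffineOpen_top _⟩
  let π : X ⟶ Φ.obj i := c.π.app i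
  let T : Y' ⟶ Spec (CommRingCat.of Γ(Φ.obj i, ⊤)) := (qq ≫ c.π.app i) ≫ (Φ.obj i).isoSpec.hom
  have hT : T.appTop.hom.Finite := S1297.finite_appTop T
  have hq' : Function.Injective q.appTop := by
    haveI : IsSchemeTheoreticallyDominant q := .of_isDominant q
    exact q.app_injective ⊤
  have hfin : π.appTop.hom.Finite := by
    have he : ((Φ.obj i).isoSpec.hom.appTop ≫ π.appTop ≫ q.appTop) = T.appTop := by
      rw [← Scheme.Hom.comp_appTop, ← Scheme.Hom.comp_appTop]
    have h1 : (π.appTop ≫ q.appTop).hom.Finite := by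
      have : π.appTop ≫ q.appTop = inv (Φ.obj i).isoSpec.hom.appTop ≫ T.appTop := by rw [← he]; simp
      rw [this, CommRingCat.hom_comp]
      exact hT.comp (RingHom.Finite.of_surjective _
        (ConcreteCategory.bijective_of_isIso (inv (Φ.obj i).isoSpec.hom.appTop)).2)
    let a := π.appTop.hom
    let b := q.appTop.hom
    letI := a.toAlgebra
    letI := (b.comp a).toAlgebra
    letI := b.toAlgebra
    haveI : IsScalarTower Γ(Φ.obj i, ⊤) Γ(X, ⊤) Γ(Y', ⊤) := .of_algebraMap_eq fun _ => rfl
    haveI : Module.Finite Γ(Φ.obj i, ⊤) Γ(Y', ⊤) := h1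
    exact Module.Finite.of_injective (IsScalarTower.toAlgHom Γ(Φ.obj i, ⊤) Γ(X, ⊤) Γ(Y', ⊤)).toLinearMap hq'
  haveI : IsFinite π := (HasAffineProperty.iff_of_isAffine (P := @IsFinite)).2 ⟨inferInstance, hfin⟩
  rw [← hσ i]
  infer_instance

/-- Finite type descends along universally submersive morphisms of noetherian schemes. -/
theorem locallyOfFiniteType_of_univSubmersive [IsNoetherian X'] [IsNoetherian X] [IsNoetherian Y] (f : X' ⟶ X)
    (hf : SGA1.UnivSubmersive f) (g : X ⟶ Y) [LocallyOfFiniteType (f ≫ g)] : LocallyOfFiniteType g := by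
  wlog hr : IsReduced X generalizing X X' with H
  · let iX := X.nilradical.subschemeι
    haveI : IsReduced X.nilradical.subscheme := H23.RedSub.isReduced_nilradical X
    haveI : IsLocallyNoetherian X.nilradical.subscheme := LocallyOfFiniteType.isLocallyNoetherian iX
    haveI : CompactSpace X.nilradical.subscheme := QuasiCompact.compactSpace_of_compactSpace iX
    haveI : IsNoetherian X.nilradical.subscheme := ⟨⟩
    let f' := pullback.snd f iX
    have hf' : SGA1.UnivSubmersive f' := SGA1Q.univSubmersive_of_isPullback hf (IsPullback.of_hasPullback f iX).flip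
    haveI : IsLocallyNoetherian (pullback f iX) := LocallyOfFiniteType.isLocallyNoetherian (pullback.fst f iX)
    haveI : CompactSpace ↥(pullback f iX) := QuasiCompact.compactSpace_of_compactSpace (pullback.fst f iX)
    haveI : IsNoetherian (pullback f iX) := ⟨⟩
    haveI hlf : LocallyOfFiniteType (f' ≫ iX ≫ g) := by
      rw [← Category.assoc, ← pullback.condition, Category.assoc]
      exact MorphismProperty.comp_mem @LocallyOfFiniteType (pullback.fst f iX) (f ≫ g) inferInstance ‹_›
    haveI : LocallyOfFiniteType (iX ≫ g) := H f' hf' (iX ≫ g) inferInstance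
    refine FComplLib.locallyOfFiniteType_of_nilpotent (f := g) (iX := iX) fun U V hle => ?_
    haveI : IsNoetherianRing Γ(X, V.1) := IsLocallyNoetherian.component_noetherian V
    rw [Scheme.IdealSheafData.ker_subschemeι]
    have he : X.nilradical.ideal V = _root_.nilradical Γ(X, V.1) := rfl
    rw [he]
    exact ⟨IsNoetherian.noetherian _, IsNoetherianRing.isNilpotent_nilradical _⟩
  rw [IsZariskiLocalAtSource.iff_of_iSup_eq_top (P := @LocallyOfFiniteType)
    (ι := {V : X.affineOpens // ∃ U : Y.affineOpens, V.1 ≤ g ⁻¹ᵁ U.1}) (fun V => V.1.1) (top_unique fun x _ => ?_)]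
  · rintro ⟨⟨V, hV⟩, ⟨U, hU⟩, hle⟩
    haveI : IsAffine V.toScheme := hV
    haveI : IsAffine U.toScheme := hU
    haveI : CompactSpace V.toScheme := isCompact_iff_compactSpace.1 hV.isCompact
    haveI : CompactSpace U.toScheme := isCompact_iff_compactSpace.1 hU.isCompact
    haveI : IsLocallyNoetherian V.toScheme := LocallyOfFiniteType.isLocallyNoetherian V.ι
    haveI : IsLocallyNoetherian U.toScheme := LocallyOfFiniteType.isLocallyNoetherian U.ι
    haveI : IsNoetherian V.toScheme := ⟨⟩
    haveI : IsNoetherian U.toScheme := ⟨⟩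
    haveI : IsLocallyNoetherian (pullback f V.ι) := LocallyOfFiniteType.isLocallyNoetherian (pullback.fst f V.ι)
    haveI : QuasiCompact f := quasiCompact_of_noetherianSpace_source _
    haveI : CompactSpace ↥(pullback f V.ι) := QuasiCompact.compactSpace_of_compactSpace (pullback.snd f V.ι)
    haveI : IsNoetherian (pullback f V.ι) := ⟨⟩
    let gV : V.toScheme ⟶ U.toScheme := IsOpenImmersion.lift U.ι (V.ι ≫ g) (by
      rw [Scheme.Opens.range_ι]
      rintro _ ⟨v, rfl⟩
      exact hle v.2)
    have hgV : gV ≫ U.ι = V.ι ≫ g := IsOpenImmersion.lift_fac _ _ _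
    have h2 : LocallyOfFiniteType ((pullback.snd f V.ι ≫ gV) ≫ U.ι) := by
      rw [Category.assoc, hgV, ← Category.assoc, ← pullback.condition, Category.assoc]
      exact MorphismProperty.comp_mem @LocallyOfFiniteType (pullback.fst f V.ι) (f ≫ g) inferInstance ‹_›
    haveI : LocallyOfFiniteType (pullback.snd f V.ι ≫ gV) := @locallyOfFiniteType_of_comp _ _ _ _ _ h2
    haveI : LocallyOfFiniteType gV := locallyOfFiniteType_affine _
      (SGA1Q.univSubmersive_of_isPullback hf (IsPullback.of_hasPullback f V.ι).flip) gV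
    show LocallyOfFiniteType (V.ι ≫ g)
    rw [← hgV]
    infer_instance
  · obtain ⟨U, hU, hxU, -⟩ := exists_isAffineOpen_mem_and_subset (x := g x) (U := ⊤) trivial
    obtain ⟨V, hV, hxV, hVU⟩ := exists_isAffineOpen_mem_and_subset (x := x) (U := g ⁻¹ᵁ U) hxU
    exact TopologicalSpace.Opens.mem_iSup.2 ⟨⟨⟨V, hV⟩, ⟨U, hU⟩, hVU⟩, hxV⟩

end Groth.Agent.EtDescX
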