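import Groth.Agent.EtDescX.RefineComp
import Groth.Agent.EtDescX.CompProper
import Groth.Agent.EtDescX.Local
import Groth.Agent.DescLib.SubtrSubm
import Groth.Agent.DescLib.SepSurj

/-!
# Effective descent of etale schemes along subtrusive morphisms of finite presentation
-/

universe u

set_option autoImplicit false
set_option backward.isDefEq.respectTransparency false
set_option backward.isDefEq.respectTransparency.types false

open CategoryTheory CategoryTheory.Limits AlgebraicGeometry

namespace Groth.Agent.EtDescX

variable {X S : Scheme.{u}}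

/-- Universally submersive morphisms compose. -/
theorem univSubmersive_comp {A B C : Scheme.{u}} {a : A ⟶ B} {b : B ⟶ C} (ha : SGA1.UnivSubmersive a)
    (hb : SGA1.UnivSubmersive b) : SGA1.UnivSubmersive (a ≫ b) := by
  have : MorphismProperty.IsStableUnderComposition (topologically fun f => Topology.IsQuotientMap f) :=
    topologically_isStableUnderComposition _ fun _ _ hf hg => hg.comp hf
  exact (MorphismProperty.universally (topologically fun f => Topology.IsQuotientMap f)).comp_mem a b ha hb

/-- Etale descent data along subtrusive morphisms of finite presentation have etale charts. -/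
theorem hasCharts_of_univSSubtrusive_fp (g : X ⟶ S) [LocallyOfFinitePresentation g] [QuasiCompact g]
    (hg : Subtr.UnivSSubtrusive g) (D : Desc.SchDD g) [IsSeparated D.obj.hom] [Etale D.obj.hom] : HasCharts D := by
  refine hasCharts_of_local D fun s => ?_
  obtain ⟨V, hV, hsV, -⟩ := exists_isAffineOpen_mem_and_subset (x := s) (U := ⊤) trivial
  have : IsAffine V.toScheme := hV
  refine ⟨V, V.ι, inferInstance, ⟨⟨s, hsV⟩, rfl⟩, ?_⟩
  let gV := pullback.snd g V.ι
  have hgV : Subtr.UnivSSubtrusive gV := fun _ _ a b f' sq =>
    hg _ _ _ (sq.paste_vert (IsPullback.of_hasPullback g V.ι).flip)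
  obtain ⟨X', Y', h, p, q, hc, hp1, hp2, -, hp4, -, hq1, hq2, -⟩ := exists_refine_proper gV hgV
  refine hasCharts_of_refine h hc _ ?_ ?_
  · exact univSubmersive_comp (DescLib.univSubmersive_of_flat p) (univSubmersive_of_universallyClosed q)
  · exact hasCharts_of_etale_proper p q rfl _

/-- Separated etale descent data along subtrusive morphisms of finite presentation are effective. -/
theorem exists_effective_of_univSSubtrusive_fp (g : X ⟶ S) [LocallyOfFinitePresentation g] [QuasiCompact g]
    (hg : Subtr.UnivSSubtrusive g) (D : Desc.SchDD g) [IsSeparated D.obj.hom] [Etale D.obj.hom] :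
    ∃ U : Over S, IsSeparated U.hom ∧ Etale U.hom ∧ (QuasiCompact D.obj.hom → QuasiCompact U.hom) ∧
      Nonempty ((Desc.toDD g).obj U ≅ D) := by
  obtain ⟨U, h1, h2, h3, h4⟩ := exists_effective_of_hasCharts D (DescLib.univSubmersive_of_univSSubtrusive g hg)
    (hasCharts_of_univSSubtrusive_fp g hg D)
  exact ⟨U, h1, h2, h3 inferInstance, h4⟩

/-- Universally closed surjections lift pairs of points. -/
theorem univSSubtrusive_of_universallyClosed (g : X ⟶ S) [UniversallyClosed g] [Surjective g] :
    Subtr.UnivSSubtrusive g := by
  intro X' S' a b g' sq y y' hy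
  have : UniversallyClosed g' := MorphismProperty.of_isPullback sq.flip ‹_›
  have : Surjective g' := MorphismProperty.of_isPullback sq.flip ‹_›
  obtain ⟨x', rfl⟩ := g'.surjective y'
  obtain ⟨x, hx, rfl⟩ : y ∈ g' '' closure {x'} :=
    hy.mem_closed (g'.isClosedMap _ isClosed_closure) ⟨x', subset_closure rfl, rfl⟩
  exact ⟨x, x', specializes_iff_mem_closure.2 hx, rfl, rfl⟩

end Groth.Agent.EtDescX
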