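import Groth.Agent.EtDescX.RefineComp
import Groth.Agent.EtDescX.SubtrDesc
import Groth.Agent.MorLib.ProperFT
import Groth.Agent.ConsPropLib.Cores
import Groth.Agent.LimSm.Descend
import Groth.Agent.S9218

/-!
# Universal lifting of pairs of points descends along limits
-/

universe u

set_option autoImplicit false
set_option linter.style.haveILetI false
set_option backward.isDefEq.respectTransparency false
set_option backward.isDefEq.respectTransparency.types false

open CategoryTheory CategoryTheory.Limits AlgebraicGeometry Topology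
open Groth.Agent.MorLib Groth.Agent.ConsPropLib

namespace Groth.Agent.EtDescX

variable {X Y Z : Scheme.{u}}

instance univSSubtrusive_isStableUnderBaseChange :
    (Subtr.UnivSSubtrusive : MorphismProperty Scheme.{u}).IsStableUnderBaseChange :=
  MorphismProperty.universally_isStableUnderBaseChange _

instance univSSubtrusive_respectsIso : (Subtr.UnivSSubtrusive : MorphismProperty Scheme.{u}).RespectsIso :=
  MorphismProperty.universally_respectsIso _

instance univSSubtrusive_isStableUnderComposition :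
    (Subtr.UnivSSubtrusive : MorphismProperty Scheme.{u}).IsStableUnderComposition :=
  haveI : MorphismProperty.IsStableUnderComposition
      (fun X Y f => Subtr.IsSSubtrusive f : MorphismProperty Scheme.{u}) :=
    ⟨fun f g hf hg z z' hz => by
      obtain ⟨y, y', hy, e, e'⟩ := hg hz
      obtain ⟨x, x', hx, k, k'⟩ := hf hy
      exact ⟨x, x', hx, by rw [Scheme.Hom.comp_apply, k, e], by rw [Scheme.Hom.comp_apply, k', e']⟩⟩
  MorphismProperty.IsStableUnderComposition.universally _

instance univSSubtrusive_isZariskiLocalAtTarget :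
    IsZariskiLocalAtTarget (Subtr.UnivSSubtrusive : MorphismProperty Scheme.{u}) :=
  universally_isZariskiLocalAtTarget _ fun {X Y} f ι U hU h y y' hy => by
    obtain ⟨i, hi⟩ := hU.exists_mem y
    have hi' : y' ∈ U i := hy.mem_open (U i).2 hi
    obtain ⟨x, x', hx, e, e'⟩ := h i (y := ⟨y, hi⟩) (y' := ⟨y', hi'⟩) ((U i).ι.isOpenEmbedding.isInducing.specializes_iff.1 hy)
    refine ⟨(f ⁻¹ᵁ U i).ι x, (f ⁻¹ᵁ U i).ι x', hx.map (f ⁻¹ᵁ U i).ι.continuous, ?_, ?_⟩
    · rw [← Scheme.Hom.comp_apply, ← morphismRestrict_ι, Scheme.Hom.comp_apply, e]; rfl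
    · rw [← Scheme.Hom.comp_apply, ← morphismRestrict_ι, Scheme.Hom.comp_apply, e']; rfl

/-- If a composite universally lifts pairs of points, so does the second morphism. -/
theorem univSSubtrusive_of_comp (a : Z ⟶ X) (f : X ⟶ Y) (h : Subtr.UnivSSubtrusive (a ≫ f)) :
    Subtr.UnivSSubtrusive f := fun X' Y' i₁ i₂ f' sq y y' hy => by
  obtain ⟨z, z', hz, e, e'⟩ := h _ _ _ ((IsPullback.of_hasPullback a i₁).paste_vert sq.flip).flip hy
  exact ⟨pullback.snd a i₁ z, pullback.snd a i₁ z', hz.map (pullback.snd a i₁).continuous,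
    by rwa [Scheme.Hom.comp_apply] at e, by rwa [Scheme.Hom.comp_apply] at e'⟩

/-- Flat surjections universally lift pairs of points. -/
theorem univSSubtrusive_of_flat (f : X ⟶ Y) [Flat f] [Surjective f] : Subtr.UnivSSubtrusive f :=
  haveI : Flat (𝟙 X ≫ f) := (Category.id_comp f).symm ▸ ‹_›
  haveI : Surjective (𝟙 X ≫ f) := (Category.id_comp f).symm ▸ ‹_›
  DescLib.univSSubtrusive_of_closed_flat f (𝟙 X)

/-- Descent of universal lifting of pairs of points when all stages are affine. -/
theorem exists_univSSubtrusive_stage {I : Type u} [SmallCategory I] [IsCofiltered I] (D : I ⥤ Scheme.{u})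
    (c : Cone D) (hc : IsLimit c) [∀ {i j : I} (f : i ⟶ j), IsAffineHom (D.map f)] [∀ i, IsAffine (D.obj i)]
    (i : I) {X₀ : Scheme.{u}} (f₀ : X₀ ⟶ D.obj i) [CompactSpace X₀] [QuasiSeparatedSpace X₀]
    [LocallyOfFinitePresentation f₀] (h : Subtr.UnivSSubtrusive (pullback.snd f₀ (c.π.app i))) :
    ∃ (j : I) (φ : j ⟶ i), Subtr.UnivSSubtrusive (pullback.snd f₀ (D.map φ)) := by
  haveI : ∀ i, CompactSpace (D.obj i) := fun _ => inferInstance
  haveI : ∀ i, QuasiSeparatedSpace (D.obj i) := fun _ => inferInstance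
  haveI : QuasiCompact f₀ := quasiCompact_of_compactSpace f₀
  haveI : QuasiSeparated f₀ := inferInstance
  haveI := isAffineHom_π_app _ _ hc i
  haveI : IsAffine c.pt := isAffine_of_isAffineHom (c.π.app i)
  let fc : pullback f₀ (c.π.app i) ⟶ c.pt := pullback.snd f₀ (c.π.app i)
  haveI : LocallyOfFinitePresentation fc := MorphismProperty.pullback_snd _ _ ‹_›
  obtain ⟨X', Y', h', p, q, he, hp1, hp2, hp3, hp4, -, hq1, hq2, hq3⟩ :=
    exists_refine_proper fc h
  haveI : CompactSpace Y' := QuasiCompact.compactSpace_of_compactSpace q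
  haveI : QuasiSeparatedSpace Y' := quasiSeparatedSpace_of_quasiSeparated q
  -- the proper surjection at a stage below `i`
  obtain ⟨j₁, Y₁, q₁, gY₁, hm₁⟩ := hasModel hc q
  obtain ⟨j₂, a, b, -⟩ := IsCofilteredOrEmpty.cone_objs i j₁
  have hm₂ := hm₁.pushed b
  haveI : IsAffine (D.obj j₂) := isAffine_of_isAffineHom (D.map a)
  haveI := hm₂.lfp; haveI := hm₂.qc; haveI := hm₂.qs
  let q₂ := pullback.snd q₁ (D.map b)
  obtain ⟨j₃, ψ₁, hprop⟩ := Desc.descend D c hc j₂ Ultra.core_isProper q₂
    (show LocallyOfFiniteType q₂ from inferInstance) (Desc.of_two @IsProper hm₂.sq (IsPullback.of_hasPullback _ _) hq1)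
  obtain ⟨j₄, ψ₂, hsurj⟩ := Desc.descend D c hc j₂ core_surjective q₂
    (show LocallyOfFinitePresentation q₂ from inferInstance)
    (Desc.of_two @Surjective hm₂.sq (IsPullback.of_hasPullback _ _) hq2)
  obtain ⟨j₅, u, v, huv⟩ := IsCofiltered.cospan ψ₁ ψ₂
  let q₅ := pullback.snd q₂ (D.map (u ≫ ψ₁))
  haveI : IsProper q₅ := Desc.of_factor @IsProper hprop (a := D.map u) (by rw [← D.map_comp])
    (IsPullback.of_hasPullback _ _)
  haveI : Surjective q₅ := Desc.of_factor @Surjective hsurj (a := D.map v) (by rw [← D.map_comp, huv])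
    (IsPullback.of_hasPullback _ _)
  have hm₅ := hm₂.pushed (u ≫ ψ₁)
  haveI : IsAffine (D.obj j₅) := isAffine_of_isAffineHom (D.map (u ≫ ψ₁))
  haveI := hm₅.compactSpace; haveI := hm₅.quasiSeparatedSpace
  -- the etale surjection at a later stage
  let D' := BC.diag D q₅
  let c' := BC.cone D q₅ hm₅.sq
  have hc' : IsLimit c' := BC.isLimitCone D q₅ hm₅.sq hc
  haveI : ∀ {k l : Over j₅} (f : k ⟶ l), IsAffineHom (D'.map f) := fun f => BC.isAffineHom_map D q₅ f
  haveI : ∀ k : Over j₅, CompactSpace (D'.obj k) := fun k => BC.compactSpace_obj D q₅ k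
  haveI : ∀ k : Over j₅, QuasiSeparatedSpace (D'.obj k) := fun k => BC.quasiSeparatedSpace_obj D q₅ k
  obtain ⟨k, Xk, pk, gk, hmk⟩ := hasModel (D := D') (c := c') hc' p
  haveI := hmk.lfp; haveI := hmk.qc; haveI := hmk.qs
  obtain ⟨l₁, χ₁, het⟩ := Desc.descend D' c' hc' k LimSm.core_etale pk hmk.lfp
    (Desc.of_two @Etale hmk.sq (IsPullback.of_hasPullback _ _) hp4)
  obtain ⟨l₂, χ₂, hsp⟩ := Desc.descend D' c' hc' k core_surjective pk hmk.lfp
    (Desc.of_two @Surjective hmk.sq (IsPullback.of_hasPullback _ _) hp1)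
  obtain ⟨l, w₁, w₂, hw⟩ := IsCofiltered.cospan χ₁ χ₂
  let pl := pullback.snd pk (D'.map (w₁ ≫ χ₁))
  haveI : Etale pl := Desc.of_factor @Etale het (a := D'.map w₁) (by rw [← D'.map_comp])
    (IsPullback.of_hasPullback _ _)
  haveI : Surjective pl := Desc.of_factor @Surjective hsp (a := D'.map w₂) (by rw [← D'.map_comp, hw])
    (IsPullback.of_hasPullback _ _)
  have hml := hmk.pushed (w₁ ≫ χ₁)
  -- the refinement at that stage and the morphism to the model
  let j := l.left
  let φ : j ⟶ i := l.hom ≫ (u ≫ ψ₁) ≫ a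
  let ql := pullback.snd q₅ (D.map l.hom)
  let xl : pullback pk (D'.map (w₁ ≫ χ₁)) ⟶ D.obj j := pl ≫ ql
  have hx : IsPullback (hmk.push (w₁ ≫ χ₁)) (p ≫ q) xl (c.π.app j) :=
    hml.sq.paste_vert (BC.isPullback_proj D q₅ hm₅.sq l)
  have hsub : Subtr.UnivSSubtrusive xl := by
    haveI : IsProper ql := MorphismProperty.pullback_snd _ _ ‹_›
    haveI : Surjective ql := MorphismProperty.pullback_snd _ _ ‹_›
    exact MorphismProperty.comp_mem _ _ _ (univSSubtrusive_of_flat pl) (univSSubtrusive_of_universallyClosed ql)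
  haveI : IsAffine (D.obj j) := isAffine_of_isAffineHom (D.map φ)
  haveI : LocallyOfFinitePresentation xl := inferInstanceAs (LocallyOfFinitePresentation (pl ≫ ql))
  haveI : CompactSpace ↥(pullback pk (D'.map (w₁ ≫ χ₁))) := hml.compactSpace
  haveI : QuasiSeparatedSpace ↥(pullback pk (D'.map (w₁ ≫ χ₁))) := hml.quasiSeparatedSpace
  let fj := pullback.snd f₀ (D.map φ)
  haveI : CompactSpace ↥(pullback f₀ (D.map φ)) := QuasiCompact.compactSpace_of_compactSpace fj
  haveI : QuasiSeparatedSpace ↥(pullback f₀ (D.map φ)) := quasiSeparatedSpace_of_quasiSeparated fj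
  let s := pullback.lift (pullback.fst f₀ (c.π.app i)) (pullback.snd f₀ (c.π.app i) ≫ c.π.app j)
    (by rw [Category.assoc, c.w, pullback.condition] : pullback.fst f₀ (c.π.app i) ≫ f₀ = _ ≫ D.map φ)
  have hs : IsPullback s (pullback.snd f₀ (c.π.app i)) fj (c.π.app j) := by
    refine IsPullback.of_right ?_ (pullback.lift_snd _ _ _) (IsPullback.of_hasPullback f₀ (D.map φ))
    rw [pullback.lift_fst, c.w]
    exact IsPullback.of_hasPullback _ _
  obtain ⟨j', θ, g, -, -, hg, -⟩ := S9218.result D c hc j xl fj _ _ hx s _ hs h' he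
  refine ⟨j', θ ≫ φ, ?_⟩
  have h1 : Subtr.UnivSSubtrusive (g ≫ pullback.snd fj (D.map θ)) := by
    rw [hg]; exact MorphismProperty.pullback_snd _ _ hsub
  have sq : IsPullback (pullback.fst fj (D.map θ) ≫ pullback.fst f₀ (D.map φ)) (pullback.snd fj (D.map θ)) f₀
      (D.map (θ ≫ φ)) := by
    rw [show D.map (θ ≫ φ) = D.map θ ≫ D.map φ from D.map_comp θ φ]
    exact (IsPullback.of_hasPullback fj (D.map θ)).paste_horiz (IsPullback.of_hasPullback f₀ (D.map φ))
  exact Desc.of_two _ sq (IsPullback.of_hasPullback _ _) (univSSubtrusive_of_comp g _ h1)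

/-- Universal lifting of pairs of points descends for morphisms of finite presentation. -/
theorem core_univSSubtrusive :
    Desc.Core (Subtr.UnivSSubtrusive : MorphismProperty Scheme.{u}) @LocallyOfFinitePresentation := by
  intro I _ _ D c hc hD i hi X₀ f₀ hcs hqs hQ h
  haveI : ∀ {i j : I} (f : i ⟶ j), IsAffineHom (D.map f) := fun {i j} f => hD i j f
  haveI := hcs; haveI := hqs; haveI := hi
  let E := Over.forget i ⋙ D
  haveI : ∀ {k l : Over i} (f : k ⟶ l), IsAffineHom (E.map f) := fun f => hD _ _ f.left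
  haveI : ∀ k : Over i, IsAffine (E.obj k) := fun k => isAffine_of_isAffineHom (D.map k.hom)
  let T : Over i := Over.mk (𝟙 i)
  let f' : X₀ ⟶ E.obj T := f₀
  haveI : LocallyOfFinitePresentation f' := hQ
  obtain ⟨k, φ, hk⟩ := exists_univSSubtrusive_stage E (c.whisker (Over.forget i))
    ((Functor.Initial.isLimitWhiskerEquiv (Over.forget i) c).symm hc) T f' h
  exact ⟨k.left, φ.left, hk⟩

end Groth.Agent.EtDescX
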