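import Groth.Agent.EtDescX.RefineComp
import Groth.Agent.EtDescX.SubtrLimit
import Groth.Agent.S2735

/-!
# fppf covers are dominated by finite surjective morphisms, Zariski locally
-/

universe u

set_option autoImplicit false
set_option linter.style.haveILetI false
set_option backward.isDefEq.respectTransparency false
set_option backward.isDefEq.respectTransparency.types false

open CategoryTheory CategoryTheory.Limits AlgebraicGeometry

namespace Groth.Agent.EtDescX

/-- An fppf cover of a qcqs scheme is dominated Zariski locally by a finite surjection of finite presentation. -/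
theorem exists_finite_cover_fppf {U S : Scheme.{u}} (g : U ⟶ S) [Flat g] [LocallyOfFinitePresentation g]
    [Surjective g] [CompactSpace S] [QuasiSeparatedSpace S] :
    ∃ (S' : Scheme.{u}) (π : S' ⟶ S), Surjective π ∧ IsFinite π ∧ LocallyOfFinitePresentation π ∧
      ∀ y : S', ∃ (V : S'.Opens) (h : V.toScheme ⟶ U), y ∈ V ∧ h ≫ g = V.ι ≫ π := by
  obtain ⟨T, t, k, hk, ht1, ht2, ht3, ht4, hT⟩ := S2735.result g
  haveI : IsAffine T := hT inferInstance
  haveI := ht1; haveI := ht2; haveI := ht3; haveI := ht4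
  obtain ⟨X', Y', a, p, q, ha, hp, -, -, hloc, hq1, hq2, hq3⟩ :=
    exists_refine_finite t (univSSubtrusive_of_flat t)
  refine ⟨Y', q, hq2, hq1, hq3, fun y => ?_⟩
  obtain ⟨x, rfl⟩ := p.surjective y
  obtain ⟨W, hxW, hW⟩ := hloc x
  haveI := hW
  let j := W.ι ≫ p
  let e : W.toScheme ≅ j.opensRange.toScheme := IsOpenImmersion.isoOfRangeEq j j.opensRange.ι (by simp)
  refine ⟨j.opensRange, e.inv ≫ W.ι ≫ a ≫ k, ⟨⟨x, hxW⟩, rfl⟩, ?_⟩
  rw [Category.assoc, Category.assoc, Category.assoc, hk, ha, ← Category.assoc W.ι, ← Category.assoc e.inv,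
    show e.inv ≫ j = j.opensRange.ι from IsOpenImmersion.isoOfRangeEq_inv_fac _ _ _]

end Groth.Agent.EtDescX
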