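import Groth.Agent.DescLib.SubtrSubm
import Groth.Agent.DescLib.SubtrVal
import Groth.Agent.S19876

/-!
# Flatness descends along universally submersive morphisms over reduced noetherian bases
-/

universe u

set_option autoImplicit false
set_option linter.style.haveILetI false
set_option backward.isDefEq.respectTransparency false
set_option backward.isDefEq.respectTransparency.types false

open CategoryTheory CategoryTheory.Limits AlgebraicGeometry TensorProduct

namespace Groth.Agent.EtDescX

/-- Lifting a discrete valuation ring along a finite type submersion up to a faithfully flat extension. -/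
theorem exists_faithfullyFlat_lift {S' S : Scheme.{u}} (g : S' ⟶ S) [LocallyOfFiniteType g] [QuasiCompact g]
    (hg : SGA1.UnivSubmersive g) (R : Type u) [CommRing R] [IsDomain R] [IsDiscreteValuationRing R]
    (t : Spec (CommRingCat.of R) ⟶ S) :
    ∃ (D : Type u) (_ : CommRing D) (_ : Algebra R D) (_ : Module.FaithfullyFlat R D)
      (a : Spec (CommRingCat.of D) ⟶ S'), a ≫ g = Spec.map (CommRingCat.ofHom (algebraMap R D)) ≫ t := by
  let gR := pullback.snd g t
  have hgR : SGA1.UnivSubmersive gR := fun _ _ i j f' sq =>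
    hg _ _ _ (sq.paste_vert (IsPullback.of_hasPullback g t).flip)
  obtain ⟨x, x', hx, e, e'⟩ := DescLib.isSSubtrusive_of_univ (DescLib.univSSubtrusive_of_univSubmersive gR hgR)
    (DescLib.eta_specializes (IsLocalRing.closedPoint R))
  obtain ⟨P₀, hP₀, hxP, -⟩ := exists_isAffineOpen_mem_and_subset (x := x) (U := ⊤) trivial
  have hx'P : x' ∈ P₀ := hx.mem_open P₀.2 hxP
  obtain ⟨q, hq⟩ : ∃ q, hP₀.fromSpec q = x := ⟨hP₀.primeIdealOf ⟨x, hxP⟩, hP₀.fromSpec_primeIdealOf _⟩
  obtain ⟨p, hp⟩ : ∃ p, hP₀.fromSpec p = x' := ⟨hP₀.primeIdealOf ⟨x', hx'P⟩, hP₀.fromSpec_primeIdealOf _⟩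
  have hpq : p.asIdeal ≤ q.asIdeal := by
    have : p ⤳ q := hP₀.fromSpec.isOpenEmbedding.isInducing.specializes_iff.1 (by rw [hq, hp]; exact hx)
    exact (PrimeSpectrum.le_iff_specializes p q).2 this
  let ψ : CommRingCat.of R ⟶ Γ(pullback g t, P₀) := Spec.preimage (hP₀.fromSpec ≫ gR)
  have hψ : Spec.map ψ = hP₀.fromSpec ≫ gR := Spec.map_preimage _
  let χ : R →+* Γ(pullback g t, P₀) ⧸ p.asIdeal := (Ideal.Quotient.mk p.asIdeal).comp ψ.hom
  have hψp : PrimeSpectrum.comap ψ.hom p = DescLib.etaPt R := by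
    show (Spec.map ψ) p = _
    rw [hψ, Scheme.Hom.comp_apply, hp, e']
  have hψq : PrimeSpectrum.comap ψ.hom q = IsLocalRing.closedPoint R := by
    show (Spec.map ψ) q = _
    rw [hψ, Scheme.Hom.comp_apply, hq, e]
  have hinj : Function.Injective χ := by
    rw [injective_iff_map_eq_zero]
    intro r hr
    have : r ∈ (PrimeSpectrum.comap ψ.hom p).asIdeal := (Ideal.Quotient.eq_zero_iff_mem (I := p.asIdeal) (a := ψ.hom r)).1 hr
    rw [hψp] at this
    exact this
  letI := χ.toAlgebra
  haveI : Module.Flat R (Γ(pullback g t, P₀) ⧸ p.asIdeal) := by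
    refine Module.Flat.flat_iff_torsion_eq_bot_of_isBezout.2 ?_
    rw [eq_bot_iff]
    rintro a ⟨⟨v, hv⟩, hva⟩
    have hva' : χ v * a = 0 := hva
    exact (mul_eq_zero.1 hva').resolve_left fun h0 => nonZeroDivisors.ne_zero hv (hinj (h0.trans (map_zero χ).symm))
  haveI : Module.FaithfullyFlat R (Γ(pullback g t, P₀) ⧸ p.asIdeal) := by
    refine Module.FaithfullyFlat.of_comap_surjective fun P => ?_
    by_cases hP : P.asIdeal = ⊥
    · refine ⟨⟨⊥, Ideal.isPrime_bot⟩, PrimeSpectrum.ext ?_⟩
      rw [PrimeSpectrum.comap_asIdeal, hP]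
      exact (RingHom.injective_iff_ker_eq_bot χ).1 hinj
    · refine ⟨⟨q.asIdeal.map (Ideal.Quotient.mk p.asIdeal), Ideal.map_isPrime_of_surjective Ideal.Quotient.mk_surjective
        (by rw [Ideal.mk_ker]; exact hpq)⟩, ?_⟩
      have hPm : P = IsLocalRing.closedPoint R := PrimeSpectrum.ext (IsLocalRing.eq_maximalIdeal (P.2.isMaximal hP))
      rw [hPm, ← hψq]
      refine PrimeSpectrum.ext ?_
      show Ideal.comap χ (q.asIdeal.map (Ideal.Quotient.mk p.asIdeal)) = _
      rw [← Ideal.comap_comap, Ideal.comap_map_of_surjective _ Ideal.Quotient.mk_surjective, ← RingHom.ker_eq_comap_bot,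
        Ideal.mk_ker, sup_eq_left.2 hpq]
      rfl
  refine ⟨_, inferInstance, inferInstance, inferInstance,
    Spec.map (CommRingCat.ofHom (Ideal.Quotient.mk p.asIdeal)) ≫ hP₀.fromSpec ≫ pullback.fst g t, ?_⟩
  have : CommRingCat.ofHom (algebraMap R (Γ(pullback g t, P₀) ⧸ p.asIdeal)) =
      ψ ≫ CommRingCat.ofHom (Ideal.Quotient.mk p.asIdeal) := rfl
  rw [this, Spec.map_comp, hψ]
  simp only [Category.assoc, pullback.condition, gR]

/-- Flatness descends along universally submersive morphisms of finite type over reduced noetherian schemes. -/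
theorem flat_of_univSubmersive {X S S' : Scheme.{u}} [IsLocallyNoetherian S] [IsReduced S] (f : X ⟶ S)
    [LocallyOfFiniteType f] (g : S' ⟶ S) [LocallyOfFiniteType g] [QuasiCompact g] (hg : SGA1.UnivSubmersive g)
    (hflat : Flat (pullback.snd f g)) : Flat f := by
  rw [HasRingHomProperty.iff_appLE (P := @Flat)]
  intro ⟨U, hU⟩ ⟨V, hV⟩ hle
  letI := (f.appLE U V hle).hom.toAlgebra
  haveI : Algebra.FiniteType Γ(S, U) Γ(X, V) := f.finiteType_appLE hU hV hle
  haveI : IsNoetherianRing Γ(S, U) := IsLocallyNoetherian.component_noetherian ⟨U, hU⟩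
  show Module.Flat Γ(S, U) Γ(X, V)
  refine (S19876.result Γ(S, U) Γ(X, V) Γ(X, V)).2 fun R _ _ _ _ => ?_
  obtain ⟨D, _, _, _, a, ha⟩ := exists_faithfullyFlat_lift g hg R
    (Spec.map (CommRingCat.ofHom (algebraMap Γ(S, U) R)) ≫ hU.fromSpec)
  letI : Algebra Γ(S, U) D := ((algebraMap R D).comp (algebraMap Γ(S, U) R)).toAlgebra
  haveI : IsScalarTower Γ(S, U) R D := .of_algebraMap_eq fun _ => rfl
  let αD := Spec.map (CommRingCat.ofHom (algebraMap Γ(S, U) D))
  let φ := Spec.map (CommRingCat.ofHom (algebraMap Γ(S, U) Γ(X, V)))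
  let tD := αD ≫ hU.fromSpec
  have htD : a ≫ g = tD := by
    rw [ha, ← Category.assoc, ← Spec.map_comp]
    rfl
  have hφ : φ ≫ hU.fromSpec = hV.fromSpec ≫ f := IsAffineOpen.SpecMap_appLE_fromSpec f hU hV hle
  haveI h1 : Flat (pullback.snd f tD) := by
    rw [← htD]
    have sq : IsPullback (pullback.lift (pullback.fst f (a ≫ g)) (pullback.snd f (a ≫ g) ≫ a)
        (by rw [pullback.condition, Category.assoc])) (pullback.snd f (a ≫ g)) (pullback.snd f g) a := by
      refine IsPullback.of_right ?_ (pullback.lift_snd _ _ _) (IsPullback.of_hasPullback f g)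
      rw [pullback.lift_fst]
      exact IsPullback.of_hasPullback f (a ≫ g)
    exact MorphismProperty.of_isPullback sq hflat
  haveI h2 : Flat (pullback.snd φ αD) := by
    have hcond : (pullback.fst φ αD ≫ hV.fromSpec) ≫ f = pullback.snd φ αD ≫ tD := by
      rw [Category.assoc, ← hφ, ← Category.assoc, pullback.condition, Category.assoc]
    let m : pullback φ αD ⟶ pullback f tD := pullback.lift _ _ hcond
    have sq : IsPullback (pullback.fst φ αD) m hV.fromSpec (pullback.fst f tD) := by
      refine IsPullback.of_iso_pullback ⟨(pullback.lift_fst _ _ _).symm⟩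
        ⟨pullback.lift (pullback.fst φ αD) m (pullback.lift_fst _ _ _).symm,
          pullback.lift (pullback.fst _ _) (pullback.snd _ _ ≫ pullback.snd f tD) (by
            rw [← cancel_mono hU.fromSpec, Category.assoc, hφ, Category.assoc, Category.assoc, ← Category.assoc,
              pullback.condition, Category.assoc, pullback.condition]), ?_, ?_⟩ (pullback.lift_fst _ _ _) (pullback.lift_snd _ _ _)
      · apply pullback.hom_ext <;> simp [m]
      · apply pullback.hom_ext
        · simp
        · apply pullback.hom_ext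
          · simp [m, pullback.condition]
          · simp [m]
    haveI : Flat m := MorphismProperty.of_isPullback sq (inferInstanceAs (Flat hV.fromSpec))
    have : pullback.snd φ αD = m ≫ pullback.snd f tD := (pullback.lift_snd _ _ _).symm
    rw [this]
    infer_instance
  haveI : Flat (pullback.fst αD φ) := by
    rw [← pullbackSymmetry_hom_comp_snd]
    infer_instance
  have h3 : Flat (Spec.map (CommRingCat.ofHom (algebraMap D (D ⊗[Γ(S, U)] Γ(X, V))))) := by
    rw [← pullbackSpecIso_inv_fst']
    infer_instance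
  rw [HasRingHomProperty.Spec_iff (P := @Flat)] at h3
  haveI : Module.Flat D (D ⊗[Γ(S, U)] Γ(X, V)) := RingHom.flat_algebraMap_iff.1 h3
  haveI : Module.Flat D (D ⊗[R] (R ⊗[Γ(S, U)] Γ(X, V))) :=
    Module.Flat.of_linearEquiv (TensorProduct.AlgebraTensorModule.cancelBaseChange Γ(S, U) R D D Γ(X, V))
  exact Module.Flat.of_flat_tensorProduct R _ D

end Groth.Agent.EtDescX
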