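import Groth.Agent.EtDescX.Zariski
import Groth.Agent.EtDescX.Spread
import Groth.Agent.DescLib.IndQAEff
import Groth.Agent.DescLib.SepSurj
import Mathlib.AlgebraicGeometry.Morphisms.LocalFlatDescent

/-!
# Effectivity of descent for separated etale schemes is fpqc local on the base
-/

universe u

open CategoryTheory CategoryTheory.Limits AlgebraicGeometry

namespace Groth.Agent.EtDescX

set_option autoImplicit false
set_option backward.isDefEq.respectTransparency false
set_option backward.isDefEq.respectTransparency.types false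

variable {X S V : Scheme.{u}} {g : X ⟶ S} (ν : V ⟶ S) (E : Over V) {D : Desc.SchDD g}
  (i : (Desc.toDD (pullback.snd g ν)).obj E ≅ baseDD ν D)

theorem mT_comp {T T' : Over S} (k : T' ⟶ T) (v : T.left ⟶ E.left) (hv : v ≫ E.hom ≫ ν = T.hom)
    (v' : T'.left ⟶ E.left) (hv' : v' ≫ E.hom ≫ ν = T'.hom) (e : v' = k.left ≫ v) :
    mT (g := g) ν E v' hv' = ((Over.pullback g).map k).left ≫ mT ν E v hv := by
  subst e
  have a₁ : ((Over.pullback g).map k).left ≫ pullback.fst T.hom g = pullback.fst T'.hom g ≫ k.left := pullback.lift_fst _ _ _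
  have a₂ : ((Over.pullback g).map k).left ≫ pullback.snd T.hom g = pullback.snd T'.hom g := pullback.lift_snd _ _ _
  refine pullback.hom_ext (pullback.hom_ext ?_ ?_) ?_
  · simp only [mT, Category.assoc, pullback.lift_fst]
    exact a₂.symm
  · simp only [mT, Category.assoc, pullback.lift_snd, pullback.lift_fst_assoc]
    exact ((reassoc_of% a₁) _).symm
  · simp only [mT, Category.assoc, pullback.lift_snd]
    exact ((reassoc_of% a₁) _).symm

theorem localSect_comp {T T' : Over S} (k : T' ⟶ T) (v : T.left ⟶ E.left) (hv : v ≫ E.hom ≫ ν = T.hom)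
    (v' : T'.left ⟶ E.left) (hv' : v' ≫ E.hom ≫ ν = T'.hom) (e : v' = k.left ≫ v) :
    localSect ν E i v' hv' = (Over.pullback g).map k ≫ localSect ν E i v hv := by
  refine Over.OverMorphism.ext ?_
  show mT ν E v' hv' ≫ _ = ((Over.pullback g).map k).left ≫ mT ν E v hv ≫ _
  rw [mT_comp ν E k v hv v' hv' e, Category.assoc]

/-- Two points of the object over the cover lie over one point of the base and give the same section. -/
def SameSect {T : Scheme.{u}} (v w : T ⟶ E.left) : Prop :=
  v ≫ E.hom ≫ ν = w ≫ E.hom ≫ ν ∧ ∀ (t : T ⟶ S) (hv : v ≫ E.hom ≫ ν = t) (hw : w ≫ E.hom ≫ ν = t),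
    localSect ν E i (T := Over.mk t) v hv = localSect ν E i (T := Over.mk t) w hw

variable {ν E i}

theorem SameSect.refl {T : Scheme.{u}} (v : T ⟶ E.left) : SameSect ν E i v v := ⟨rfl, fun _ _ _ => rfl⟩

theorem SameSect.symm {T : Scheme.{u}} {v w : T ⟶ E.left} (h : SameSect ν E i v w) : SameSect ν E i w v :=
  ⟨h.1.symm, fun t hw hv => (h.2 t hv hw).symm⟩

theorem SameSect.trans {T : Scheme.{u}} {a b c : T ⟶ E.left} (h : SameSect ν E i a b) (h' : SameSect ν E i b c) :
    SameSect ν E i a c :=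
  ⟨h.1.trans h'.1, fun t ha hc => (h.2 t ha (h.1.symm.trans ha)).trans (h'.2 t _ hc)⟩

theorem SameSect.comp {T T' : Scheme.{u}} {v w : T ⟶ E.left} (h : SameSect ν E i v w) (k : T' ⟶ T) :
    SameSect ν E i (k ≫ v) (k ≫ w) := by
  refine ⟨by rw [Category.assoc, Category.assoc, h.1], fun t hv hw => ?_⟩
  let kO : Over.mk t ⟶ Over.mk (v ≫ E.hom ≫ ν) := Over.homMk k ((Category.assoc _ _ _).symm.trans hv)
  rw [localSect_comp ν E i kO v rfl (k ≫ v) hv rfl, localSect_comp ν E i kO w h.1.symm (k ≫ w) hw rfl,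
    h.2 _ rfl h.1.symm]

variable [Etale E.hom]

theorem SameSect.eq (hg : SGA1.UnivSubmersive g) {T : Scheme.{u}} {a b : T ⟶ E.left} (h : SameSect ν E i a b)
    (e : a ≫ E.hom = b ≫ E.hom) : a = b :=
  localSect_injective_of_eq (T := Over.mk (a ≫ E.hom ≫ ν)) ν E i hg a b rfl h.1.symm e (h.2 _ rfl h.1.symm)

theorem exists_sameSect (hg : SGA1.UnivSubmersive g) {T : Scheme.{u}} {y₀ y₁ : T ⟶ V} (h : y₀ ≫ ν = y₁ ≫ ν)
    (v : Desc.Lifts E y₀) : ∃ w : Desc.Lifts E y₁, SameSect ν E i v.1 w.1 := by
  have hv : v.1 ≫ E.hom ≫ ν = y₀ ≫ ν := by rw [← Category.assoc, v.2]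
  obtain ⟨k, hkt, hk⟩ := exists_localSect_eq' (T := Over.mk (y₀ ≫ ν)) ν E i hg y₁ h.symm
    (localSect ν E i (T := Over.mk (y₀ ≫ ν)) v.1 hv) (isCompat_localSect ν E i _ _)
  refine ⟨⟨k.left, hkt⟩, hv.trans (Over.w k).symm, fun t hv' hw => ?_⟩
  obtain rfl : t = y₀ ≫ ν := hv'.symm.trans hv
  exact hk.symm

variable (i) in
/-- The descent datum on an object inducing the base changed datum. -/
noncomputable def coverDD (hg : SGA1.UnivSubmersive g) : Desc.SchDD ν where
  obj := E
  φ T y₀ y₁ h :=
    { toFun := fun v => (exists_sameSect (i := i) hg h v).choose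
      invFun := fun w => (exists_sameSect (i := i) hg h.symm w).choose
      left_inv := fun v => Subtype.ext <| SameSect.eq (i := i) hg
        (((exists_sameSect (i := i) hg h v).choose_spec.trans
          (exists_sameSect (i := i) hg h.symm _).choose_spec).symm)
        ((exists_sameSect (i := i) hg h.symm _).choose.2.trans v.2.symm)
      right_inv := fun w => Subtype.ext <| SameSect.eq (i := i) hg
        (((exists_sameSect (i := i) hg h.symm w).choose_spec.trans
          (exists_sameSect (i := i) hg h _).choose_spec).symm)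
        ((exists_sameSect (i := i) hg h _).choose.2.trans w.2.symm) }
  φ_natural T T' k y₀ y₁ h h' v v' hv := by
    have h₁ := (exists_sameSect (i := i) hg h v).choose_spec.comp k
    have h₂ := (exists_sameSect (i := i) hg h' v').choose_spec
    have h₂' : SameSect ν E i (k ≫ v.1) (exists_sameSect (i := i) hg h' v').choose.1 :=
      Eq.mp (congrArg (fun a => SameSect ν E i a (exists_sameSect (i := i) hg h' v').choose.1) hv) h₂
    refine SameSect.eq (i := i) hg (h₂'.symm.trans h₁)
      ((exists_sameSect (i := i) hg h' v').choose.2.trans ?_)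
    exact ((Category.assoc _ _ _).trans (congrArg (k ≫ ·) (exists_sameSect (i := i) hg h v).choose.2)).symm
  φ_self T y v := Subtype.ext <| SameSect.eq (i := i) hg (exists_sameSect (i := i) hg rfl v).choose_spec.symm
    ((exists_sameSect (i := i) hg rfl v).choose.2.trans v.2.symm)
  φ_comp T y₀ y₁ y₂ h₀₁ h₁₂ v := Subtype.ext <| SameSect.eq (i := i) hg
    (((exists_sameSect (i := i) hg h₀₁ v).choose_spec.trans (exists_sameSect (i := i) hg h₁₂ _).choose_spec).symm.trans
      (exists_sameSect (i := i) hg (h₀₁.trans h₁₂) v).choose_spec)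
    ((exists_sameSect (i := i) hg h₁₂ _).choose.2.trans (exists_sameSect (i := i) hg (h₀₁.trans h₁₂) v).choose.2.symm)

omit [Etale E.hom]

variable (i) in
/-- The morphism from the total space of the datum. -/
noncomputable def toPiece : pullback (D.obj.hom ≫ g) ν ⟶ E.left :=
  (baseTot ν D).inv ≫ i.inv.hom.left ≫ pullback.snd (pullback.snd g ν) E.hom

theorem toPiece_hom : toPiece i ≫ E.hom = pullback.snd _ _ := by
  have hiv : i.inv.hom.left ≫ pullback.fst _ _ = pullback.snd D.obj.hom (pullback.fst g ν) := Over.w i.inv.hom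
  have hb : (baseTot ν D).inv ≫ pullback.snd D.obj.hom (pullback.fst g ν) = totX ν D := pullback.lift_snd _ _ _
  simp only [toPiece, Category.assoc, ← pullback.condition]
  exact (congrArg ((baseTot ν D).inv ≫ ·) ((reassoc_of% hiv) _)).trans
    (((reassoc_of% hb) _).trans (totX_snd ν D))

theorem isSplit_toPiece : IsSplit ν D E (toPiece i) := isSplit_ofIso i

/-- Points of the total space over one point of the datum give the same section. -/
theorem sameSect_toPiece {T : Scheme.{u}} (z₀ z₁ : T ⟶ pullback (D.obj.hom ≫ g) ν)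
    (h : z₀ ≫ pullback.fst _ _ = z₁ ≫ pullback.fst _ _) : SameSect ν E i (z₀ ≫ toPiece i) (z₁ ≫ toPiece i) := by
  have hh : ∀ z : T ⟶ pullback (D.obj.hom ≫ g) ν, (z ≫ toPiece i) ≫ E.hom ≫ ν = z ≫ pullback.fst _ _ ≫ D.obj.hom ≫ g := by
    intro z
    rw [Category.assoc, reassoc_of% (toPiece_hom (i := i)), pullback.condition]
  have key : ∀ (z : T ⟶ pullback (D.obj.hom ≫ g) ν) (t : T ⟶ S) (hz : (z ≫ toPiece i) ≫ E.hom ≫ ν = t)
      (d : Over.mk t ⟶ Over.mk (D.obj.hom ≫ g)), d.left = z ≫ pullback.fst _ _ →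
      localSect ν E i (T := Over.mk t) (z ≫ toPiece i) hz = (Over.pullback g).map d ≫ tauPt D := by
    intro z t hz d hd
    have ht : (d.left ≫ D.obj.hom) ≫ g = 𝟙 T ≫ t := by rw [Category.id_comp, Category.assoc]; exact Over.w d
    let s : T ⟶ pullback (Over.mk t).hom g := pullback.lift (𝟙 T) (d.left ≫ D.obj.hom) ht.symm
    refine eq_of_section (isCompat_localSect ν E i _ _) ((isCompat_tauPt D).map d) s (pullback.lift_fst _ _ _) ?_
    have hm : s ≫ mT ν E (T := Over.mk t) (z ≫ toPiece i) hz = (z ≫ (baseTot ν D).inv) ≫ i.inv.hom.left := by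
      have hiv : i.inv.hom.left ≫ pullback.fst _ _ = pullback.snd D.obj.hom (pullback.fst g ν) := Over.w i.inv.hom
      have hb : (baseTot ν D).inv ≫ pullback.snd D.obj.hom (pullback.fst g ν) = totX ν D := pullback.lift_snd _ _ _
      refine pullback.hom_ext ?_ ?_
      · refine (Category.assoc _ _ _).trans (Eq.trans ?_ ((Category.assoc _ _ _).trans ((congrArg ((z ≫ _) ≫ ·) hiv).trans
          ((Category.assoc _ _ _).trans (congrArg (z ≫ ·) hb)))).symm)
        apply pullback.hom_ext
        · simp only [mT, s, pullback.lift_fst, pullback.lift_snd, Category.assoc, totX_fst, hd]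
        · simp only [mT, s, pullback.lift_fst, pullback.lift_snd, pullback.lift_fst_assoc, Category.assoc, totX_snd,
            toPiece_hom, Category.id_comp]
      · simp only [mT, s, toPiece, pullback.lift_snd, pullback.lift_fst_assoc, Category.assoc, Category.id_comp]
    show s ≫ mT ν E (T := Over.mk t) (z ≫ toPiece i) hz ≫ i.hom.hom.left ≫ pullback.fst _ _ =
      s ≫ ((Over.pullback g).map d).left ≫ (tauPt D).left
    rw [← Category.assoc, hm]
    have hwi : i.inv.hom.left ≫ i.hom.hom.left = 𝟙 _ := congrArg (fun k : baseDD ν D ⟶ baseDD ν D => k.hom.left) i.inv_hom_id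
    have hl : ((z ≫ (baseTot ν D).inv) ≫ i.inv.hom.left) ≫ i.hom.hom.left ≫ pullback.fst _ _ = d.left := by
      refine (Category.assoc _ _ _).trans ((congrArg ((z ≫ (baseTot ν D).inv) ≫ ·) ((Category.assoc _ _ _).symm.trans
        ((congrArg (· ≫ pullback.fst _ _) hwi).trans (Category.id_comp _)))).trans ?_)
      rw [hd, Category.assoc]
      exact congrArg (z ≫ ·) (pullback.lift_fst _ _ _)
    refine hl.trans ?_
    let m : pullback (Over.mk t).hom g ⟶ pullback (D.obj.hom ≫ g) g := ((Over.pullback g).map d).left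
    have hm₁ : m ≫ pullback.fst _ _ = pullback.fst (Over.mk t).hom g ≫ d.left := pullback.lift_fst _ _ _
    have hm₂ : m ≫ pullback.snd _ _ = pullback.snd (Over.mk t).hom g := pullback.lift_snd _ _ _
    refine Eq.trans ?_ ((φ_pre (s ≫ m) (tauEq D) (y₀ := d.left ≫ D.obj.hom) (y₁ := d.left ≫ D.obj.hom) rfl
      ⟨pullback.fst (D.obj.hom ≫ g) g, rfl⟩ ⟨d.left, rfl⟩ ?_ ?_ ?_).trans (Category.assoc _ _ _))
    · exact (congrArg Subtype.val (D.φ_self (d.left ≫ D.obj.hom) ⟨d.left, rfl⟩)).symm
    · simp only [Category.assoc, reassoc_of% hm₁, s, pullback.lift_fst_assoc, Category.id_comp]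
    · simp only [Category.assoc, hm₂, s, pullback.lift_snd]
    · simp only [Category.assoc, hm₁, s, pullback.lift_fst_assoc, Category.id_comp]
  refine ⟨by rw [hh, hh, reassoc_of% h], fun t hz₀ hz₁ => ?_⟩
  let d : Over.mk t ⟶ Over.mk (D.obj.hom ≫ g) := Over.homMk (z₀ ≫ pullback.fst _ _) (by
    show (z₀ ≫ pullback.fst _ _) ≫ D.obj.hom ≫ g = t
    rw [Category.assoc, ← hh, hz₀])
  rw [key z₀ t hz₀ d rfl, key z₁ t hz₁ d h]

omit E i in
set_option maxHeartbeats 800000 in
/-- A split over the base itself gives effectivity. -/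
theorem nonempty_iso_of_isSplit_id {U : Over S} {w : pullback (D.obj.hom ≫ g) (𝟙 S) ⟶ U.left}
    (h : IsSplit (𝟙 S) D U w) : Nonempty ((Desc.toDD g).obj U ≅ D) := by
  let c : D.obj.left ⟶ pullback (D.obj.hom ≫ g) (𝟙 S) :=
    pullback.lift (𝟙 _) (D.obj.hom ≫ g) (by rw [Category.id_comp, Category.comp_id])
  have hc₁ : c ≫ pullback.fst _ _ = 𝟙 _ := pullback.lift_fst _ _ _
  have hc₂ : c ≫ pullback.snd _ _ = D.obj.hom ≫ g := pullback.lift_snd _ _ _
  have hcw : (c ≫ w) ≫ U.hom = D.obj.hom ≫ g := by rw [Category.assoc, h.w_hom, hc₂]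
  let H : D.obj.left ⟶ pullback g U.hom := pullback.lift D.obj.hom (c ≫ w) hcw.symm
  have hH₁ : H ≫ pullback.fst g U.hom = D.obj.hom := pullback.lift_fst _ _ _
  let m : pullback (pullback.snd g (𝟙 S)) U.hom ⟶ pullback g U.hom :=
    pullback.lift (pullback.fst _ _ ≫ pullback.fst g (𝟙 S)) (pullback.snd _ _)
      (by rw [Category.assoc, pullback.condition, Category.comp_id, pullback.condition])
  have : IsIso m := by
    refine ⟨pullback.lift (pullback.lift (pullback.fst g U.hom) (pullback.fst g U.hom ≫ g) (by rw [Category.comp_id]))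
      (pullback.snd g U.hom) (by rw [pullback.lift_snd, pullback.condition]), ?_, ?_⟩
    · apply pullback.hom_ext
      · apply pullback.hom_ext
        · simp only [m, Category.assoc, pullback.lift_fst, Category.id_comp]
        · simp only [m, Category.assoc, pullback.lift_fst, pullback.lift_snd, Category.id_comp]
          rw [pullback.lift_fst_assoc, Category.assoc, pullback.condition, Category.comp_id]
      · simp only [m, Category.assoc, pullback.lift_snd, Category.id_comp]
    · apply pullback.hom_ext <;> simp only [m, Category.assoc, pullback.lift_fst, pullback.lift_snd,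
        pullback.lift_fst_assoc, Category.id_comp]
  have := h.iso
  have : IsIso H := by
    have hc : IsIso c := ⟨pullback.fst _ _, hc₁, pullback.hom_ext (by rw [Category.assoc, hc₁, Category.comp_id, Category.id_comp])
      (by rw [Category.assoc, hc₂, Category.id_comp, pullback.condition, Category.comp_id])⟩
    have e : H = c ≫ pullback.lift (totX (𝟙 S) D) w (by rw [totX_snd, h.w_hom]) ≫ m := by
      apply pullback.hom_ext
      · simp only [H, m, Category.assoc, pullback.lift_fst, pullback.lift_fst_assoc, totX_fst]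
        rw [reassoc_of% hc₁]
      · simp only [H, m, Category.assoc, pullback.lift_snd]
    rw [e]
    infer_instance
  let hom₀ : D.obj ⟶ ((Desc.toDD g).obj U).obj := Over.homMk H hH₁
  have hcomm : ∀ ⦃T : Scheme.{u}⦄ (x₀ x₁ : T ⟶ X) (hx : x₀ ≫ g = x₁ ≫ g) (v : Desc.Lifts D.obj x₀)
      (v' : Desc.Lifts ((Desc.toDD g).obj U).obj x₀), v'.1 = v.1 ≫ H →
      (((Desc.toDD g).obj U).φ x₀ x₁ hx v').1 = (D.φ x₀ x₁ hx v).1 ≫ H := by
    intro T x₀ x₁ hx v v' hv
    apply pullback.hom_ext
    · refine (pullback.lift_fst _ _ _).trans ?_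
      rw [Category.assoc, hH₁]
      exact (D.φ x₀ x₁ hx v).2.symm
    · refine (pullback.lift_snd _ _ _).trans ?_
      rw [hv, Category.assoc, pullback.lift_snd, Category.assoc, pullback.lift_snd]
      let r₀ : T ⟶ pullback (D.obj.hom ≫ g) g :=
        pullback.lift v.1 x₁ (by rw [← Category.assoc, v.2, hx])
      let r : T ⟶ pullback (pairHom D) (𝟙 S) := pullback.lift r₀ (x₀ ≫ g) (by
        simp only [r₀, pairHom, pullback.lift_fst_assoc, Category.comp_id]
        rw [← Category.assoc, v.2])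
      have hτ : r₀ ≫ (tauPt D).left = (D.φ x₀ x₁ hx v).1 := by
        refine (φ_pre r₀ (tauEq D) hx _ v ?_ ?_ ?_).symm
        · simp only [r₀, pullback.lift_fst_assoc]
          exact v.2
        · exact pullback.lift_snd _ _ _
        · exact (pullback.lift_fst _ _ _).symm
      have e₀ : r ≫ pairFst (𝟙 S) D = v.1 ≫ c := by
        apply pullback.hom_ext
        · simp only [r, r₀, pairFst, Category.assoc, pullback.lift_fst, pullback.lift_fst_assoc, hc₁, Category.comp_id]
        · simp only [r, pairFst, Category.assoc, pullback.lift_snd, hc₂]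
          rw [← Category.assoc, v.2]
      have e₁ : r ≫ pairSnd (𝟙 S) D = (D.φ x₀ x₁ hx v).1 ≫ c := by
        apply pullback.hom_ext
        · simp only [r, pairSnd, Category.assoc, pullback.lift_fst, pullback.lift_fst_assoc, hτ, hc₁, Category.comp_id]
        · simp only [r, pairSnd, Category.assoc, pullback.lift_snd, hc₂]
          rw [← Category.assoc, (D.φ x₀ x₁ hx v).2, hx]
      rw [← Category.assoc, ← e₀, Category.assoc, h.invariant, ← Category.assoc, e₁, Category.assoc]
  let hi : ((Desc.toDD g).obj U).obj ⟶ D.obj := Over.homMk (CategoryTheory.inv H) ((IsIso.inv_comp_eq H).2 hH₁.symm)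
  refine ⟨⟨⟨hi, fun T x₀ x₁ hx v v' hv => ?_⟩, ⟨hom₀, hcomm⟩, Desc.SchDD.hom_ext ?_, Desc.SchDD.hom_ext ?_⟩⟩
  · have := hcomm x₀ x₁ hx v' v (by
      rw [hv]
      show v.1 = (v.1 ≫ CategoryTheory.inv H) ≫ H
      rw [Category.assoc, IsIso.inv_hom_id]
      exact (Category.comp_id _).symm)
    rw [this]
    show _ = ((D.φ x₀ x₁ hx v').1 ≫ H) ≫ CategoryTheory.inv H
    rw [Category.assoc, IsIso.hom_inv_id]
    exact (Category.comp_id _).symm
  · exact Over.OverMorphism.ext (IsIso.inv_hom_id H)
  · exact Over.OverMorphism.ext (IsIso.hom_inv_id H)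

variable (ν) [Flat ν] [Surjective ν] [QuasiCompact ν]

set_option maxHeartbeats 1600000 in
/-- Effectivity of descent for separated etale quasi-compact schemes descends along fpqc morphisms. -/
theorem exists_effective_of_fpqc [IsSeparated D.obj.hom] (hg : SGA1.UnivSubmersive g) {E : Over V} (hE : Etale E.hom)
    [QuasiCompact E.hom] (i : (Desc.toDD (pullback.snd g ν)).obj E ≅ baseDD ν D) :
    ∃ U : Over S, Etale U.hom ∧ IsSeparated U.hom ∧ QuasiCompact U.hom ∧ Nonempty ((Desc.toDD g).obj U ≅ D) := by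
  have := surjective_of_univSubmersive hg
  have hsE : IsSeparated E.hom := by
    have hgV : SGA1.UnivSubmersive (pullback.snd g ν) :=
      SGA1Q.univSubmersive_of_isPullback hg (IsPullback.of_hasPullback g ν).flip
    refine SGA1Q.isSeparated_of_isPullback (IsPullback.of_hasPullback (pullback.snd g ν) E.hom) hgV ?_
    rw [show pullback.fst (pullback.snd g ν) E.hom = i.hom.hom.left ≫ pullback.snd D.obj.hom (pullback.fst g ν) from
      (Over.w i.hom.hom).symm]
    have : IsIso i.hom.hom.left := ⟨i.inv.hom.left,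
      congrArg (fun k : (Desc.toDD (pullback.snd g ν)).obj E ⟶ (Desc.toDD (pullback.snd g ν)).obj E => k.hom.left) i.hom_inv_id,
      congrArg (fun k : baseDD ν D ⟶ baseDD ν D => k.hom.left) i.inv_hom_id⟩
    infer_instance
  let C := coverDD i hg
  have : IsSeparated C.obj.hom := hsE
  have : Etale C.obj.hom := hE
  obtain ⟨U, ⟨e⟩⟩ := DescLib.effective_single DescLib.IndQA.indQA
    (fun _ _ p _ _ _ _ D h => DescLib.IndQA.effective_indQA_hom p D h) ν C
    (MorLib.IQA.indQA_of_locallyQuasiFinite C.obj.hom)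
  let q : E.left ⟶ U.left := e.inv.hom.left ≫ pullback.snd ν U.hom
  have hei : e.inv.hom.left ≫ pullback.fst ν U.hom = E.hom := Over.w e.inv.hom
  have hIso : IsIso e.inv.hom.left := ⟨e.hom.hom.left,
    congrArg (fun k : C ⟶ C => k.hom.left) e.inv_hom_id,
    congrArg (fun k : (Desc.toDD ν).obj U ⟶ (Desc.toDD ν).obj U => k.hom.left) e.hom_inv_id⟩
  have sq : IsPullback q E.hom U.hom ν := by
    refine (IsPullback.of_hasPullback ν U.hom).flip.of_iso (asIso e.inv.hom.left).symm (Iso.refl _) (Iso.refl _) (Iso.refl _)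
      ?_ ?_ ?_ ?_
    · simp only [Iso.refl_hom, Category.comp_id, q, Iso.symm_hom, asIso_inv, IsIso.inv_hom_id_assoc]
    · rw [Iso.refl_hom, Category.comp_id, Iso.symm_hom, asIso_inv]
      exact (IsIso.eq_inv_comp _).2 hei
    · simp
    · simp
  have hU : Etale U.hom := MorphismProperty.of_isPullback_of_descendsAlong (P := @Etale)
    (Q := @Surjective ⊓ @Flat ⊓ @QuasiCompact) sq.flip ⟨⟨‹_›, ‹_›⟩, ‹_›⟩ hE
  let b := pullback.fst (D.obj.hom ≫ g) ν
  have : QuasiCompact b := inferInstanceAs (QuasiCompact (pullback.fst (D.obj.hom ≫ g) ν))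
  have : Flat b := inferInstanceAs (Flat (pullback.fst (D.obj.hom ≫ g) ν))
  have : Surjective b := MorphismProperty.pullback_fst (P := @Surjective) _ _ ‹Surjective ν›
  obtain ⟨w, hw⟩ : ∃ w : D.obj.left ⟶ U.left, b ≫ w = toPiece i ≫ q := by
    suffices h : ∀ {Z : Scheme.{u}} (z₀ z₁ : Z ⟶ pullback (D.obj.hom ≫ g) ν), z₀ ≫ b = z₁ ≫ b →
        z₀ ≫ toPiece i ≫ q = z₁ ≫ toPiece i ≫ q from ⟨EffectiveEpi.desc b _ h, EffectiveEpi.fac b _ h⟩
    intro Z z₀ z₁ hz
    have hs := sameSect_toPiece (i := i) z₀ z₁ hz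
    let y₀ := (z₀ ≫ toPiece i) ≫ E.hom
    let y₁ := (z₁ ≫ toPiece i) ≫ E.hom
    have hy : y₀ ≫ ν = y₁ ≫ ν := by
      simpa only [y₀, y₁, Category.assoc] using hs.1
    let v : Desc.Lifts C.obj y₀ := ⟨z₀ ≫ toPiece i, rfl⟩
    have hφ : (C.φ y₀ y₁ hy v).1 = z₁ ≫ toPiece i :=
      SameSect.eq (i := i) hg ((exists_sameSect (i := i) hg hy v).choose_spec.symm.trans hs)
        (exists_sameSect (i := i) hg hy v).choose.2
    have hc := congrArg (· ≫ pullback.snd ν U.hom) (e.inv.comm y₀ y₁ hy v (Desc.SchDD.Hom.push e.inv v) rfl)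
    change pullback.lift _ _ _ ≫ pullback.snd _ _ = _ at hc
    rw [pullback.lift_snd, hφ] at hc
    change ((z₀ ≫ toPiece i) ≫ e.inv.hom.left) ≫ _ = ((z₁ ≫ toPiece i) ≫ e.inv.hom.left) ≫ _ at hc
    simpa only [q, Category.assoc] using hc
  let w' : pullback (D.obj.hom ≫ g) (𝟙 S) ⟶ U.left := pullback.fst _ _ ≫ w
  have hb : Epi b := inferInstance
  have hw' : w' ≫ U.hom = pullback.snd _ _ := by
    have h₁ : w ≫ U.hom = D.obj.hom ≫ g := by
      rw [← cancel_epi b, reassoc_of% hw, sq.w, reassoc_of% (toPiece_hom (i := i))]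
      exact pullback.condition.symm
    simp only [w', Category.assoc, h₁, pullback.condition, Category.comp_id]
  have hres : resMap (D.obj.hom ≫ g) ν (Category.comp_id ν) ≫ w' = toPiece i ≫ q := by
    rw [← Category.assoc, resMap_fst]
    exact hw
  have hsp := isSplit_toPiece (i := i)
  have hsU : IsSeparated U.hom := SGA1Q.isSeparated_of_isPullback sq.flip (DescLib.univSubmersive_of_flat ν) hsE
  have hqU : QuasiCompact U.hom := by
    have : Surjective q := MorphismProperty.of_isPullback sq.flip ‹Surjective ν›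
    have : QuasiCompact (q ≫ U.hom) := by rw [sq.w]; infer_instance
    exact AlgSpLib.quasiCompact_of_comp_surjective q U.hom
  refine ⟨U, hU, hsU, hqU, nonempty_iso_of_isSplit_id ⟨hw', ?_, ?_⟩⟩
  · have sR := (isPullback_resMap (pairHom D) ν (Category.comp_id ν)).flip
    have : Flat (resMap (pairHom D) ν (Category.comp_id ν)) := MorphismProperty.of_isPullback sR ‹Flat ν›
    have : Surjective (resMap (pairHom D) ν (Category.comp_id ν)) := MorphismProperty.of_isPullback sR ‹Surjective ν›
    have := Flat.epi_of_flat_of_surjective (resMap (pairHom D) ν (Category.comp_id ν))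
    rw [← cancel_epi (resMap (pairHom D) ν (Category.comp_id ν)), reassoc_of% resMap_pairFst,
      reassoc_of% resMap_pairSnd, hres, reassoc_of% hsp.invariant]
  · exact MorphismProperty.of_isPullback_of_descendsAlong (P := MorphismProperty.isomorphisms Scheme.{u})
      (Q := @Surjective ⊓ @Flat ⊓ @QuasiCompact) (isPullback_lift ν (Category.comp_id ν) sq hw' hsp.w_hom hres).flip
      ⟨⟨MorphismProperty.of_isPullback (isPullback_canRes_base ν (Category.comp_id ν) sq).flip ‹Surjective ν›,
        MorphismProperty.of_isPullback (isPullback_canRes_base ν (Category.comp_id ν) sq).flip ‹Flat ν›⟩,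
        MorphismProperty.of_isPullback (isPullback_canRes_base ν (Category.comp_id ν) sq).flip ‹QuasiCompact ν›⟩
      hsp.iso

end Groth.Agent.EtDescX
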