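import Groth.Agent.S2363
import Groth.Agent.LC.CanonComplete
import Mathlib.FieldTheory.IsAlgClosed.AlgebraicClosure

/-!
# Faithfully flat complete local algebras with algebraically closed residue field
-/

universe u

open IsLocalRing

namespace Groth.Agent.EtDescX

set_option autoImplicit false

/-- A noetherian local ring has a faithfully flat complete noetherian local algebra with algebraically
closed residue field. -/
theorem exists_complete_algClosed (A : Type u) [CommRing A] [IsNoetherianRing A] [IsLocalRing A] :
    ∃ (C : Type u) (_ : CommRing C) (_ : Algebra A C), Module.FaithfullyFlat A C ∧ ∃ (_ : IsNoetherianRing C)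
      (_ : IsLocalRing C) (_ : IsAdicComplete (maximalIdeal C) C), IsAlgClosed (ResidueField C) := by
  obtain ⟨B, _, _, hBn, hBl, hloc, hflat, e, -⟩ := S2363.result (A := A) (AlgebraicClosure (ResidueField A))
  have := hBn; have := hBl; have := hloc; have := hflat
  have : Module.FaithfullyFlat A B := Module.FaithfullyFlat.of_flat_of_isLocalHom
  have hmax : (maximalIdeal A).map (algebraMap A B) = maximalIdeal B :=
    eq_maximalIdeal (Ideal.Quotient.maximal_of_isField _ (e.toMulEquiv.isField (Field.toIsField _)))
  let C := AdicCompletion (maximalIdeal B) B
  have : IsNoetherianRing C := LC.Canon.isNoetherianRing_completion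
  have : Module.FaithfullyFlat B C := LC.Canon.faithfullyFlat_completion
  refine ⟨C, inferInstance, inferInstance, Module.FaithfullyFlat.trans A B C, inferInstance, inferInstance,
    inferInstance, ?_⟩
  exact IsAlgClosed.of_ringEquiv _ _ ((e.symm.trans (Ideal.quotEquivOfEq hmax)).trans
    (RingEquiv.ofBijective _ (AdicCompletion.residueField_map_bijective B)))

end Groth.Agent.EtDescX
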