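import Groth.Agent.EtDescX.HRefine
import Groth.Agent.HTopCov.V

/-!
# V coverings by finitely presented morphisms are ph coverings
-/

universe w u

set_option autoImplicit false
set_option backward.isDefEq.respectTransparency false
set_option backward.isDefEq.respectTransparency.types false

open CategoryTheory CategoryTheory.Limits AlgebraicGeometry

namespace Groth.Agent.EtDescX

variable {X : Scheme.{u}}

/-- Over an affine open, an h covering is refined by a standard ph covering with a finitely presented
proper surjection. -/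
theorem exists_standardPh_refine (E : PreZeroHypercover.{w} X) (hE : ∀ i, LocallyOfFinitePresentation (E.f i))
    (hV : HTop.IsVCover E) (U : X.affineOpens) :
    ∃ F : PreZeroHypercover.{0} ((U : X.Opens) : Scheme.{u}), HTop.IsStandardPh F ∧ HTop.RefinesOver (U : X.Opens).ι F E := by
  obtain ⟨F, hF, hr⟩ := hV U
  haveI := hF.isAffine
  obtain ⟨Y, q, n, V, hq1, hq2, -, hV1, hV2, hV3⟩ := exists_proper_affine_refine (U : X.Opens).ι E hE F hF hr
  refine ⟨⟨Fin n, fun j => (V j).toScheme, fun j => (V j).ι ≫ q⟩,
    ⟨inferInstance, inferInstanceAs (Finite (Fin n)), fun j => hV1 j,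
      Y, q, fun j => (V j).ι, hq1, hq2, fun j => inferInstanceAs (IsOpenImmersion (V j).ι), fun j => rfl,
      fun y => ?_⟩, fun j => ?_⟩
  · obtain ⟨j, hj⟩ := TopologicalSpace.Opens.mem_iSup.1 (hV2.ge (Set.mem_univ y))
    exact ⟨j, ⟨y, hj⟩, rfl⟩
  · obtain ⟨i, h, e⟩ := hV3 j
    exact ⟨i, h, e.trans (Category.assoc _ _ _).symm⟩

theorem isPhCover_iff_isVCover (E : PreZeroHypercover.{w} X) (hE : ∀ i, LocallyOfFinitePresentation (E.f i)) :
    HTop.IsPhCover E ↔ HTop.IsVCover E := by
  refine ⟨fun h U => ?_, fun h => ⟨fun i => haveI := hE i; inferInstance, exists_standardPh_refine E hE h⟩⟩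
  obtain ⟨F, hF, hr⟩ := h.2 U
  exact ⟨F, HTopCov.standardV_of_standardPh F hF, hr⟩

end Groth.Agent.EtDescX
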