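import Groth.Agent.EtDescX.RefineComp
import Groth.Agent.HTopCov.Points
import Groth.Agent.S14769
import Groth.Agent.HTopCov.V

/-!
# h coverings of affine schemes are refined by affine coverings of proper surjections
-/

universe w u

set_option autoImplicit false
set_option backward.isDefEq.respectTransparency false
set_option backward.isDefEq.respectTransparency.types false

open CategoryTheory CategoryTheory.Limits AlgebraicGeometry IsLocalRing

namespace Groth.Agent.EtDescX

variable {X S : Scheme.{u}}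

theorem surjective_of_isExtVal {V W : CommRingCat.{u}} [IsDomain V] [ValuationRing V] [IsDomain W] [ValuationRing W]
    {φ : V ⟶ W} (h : HTop.IsExtVal V W φ) : Surjective (Spec.map φ) := by
  have hgen : (Spec.map φ) (genericPoint (Spec W)) = DescLib.etaPt V := by
    rw [genericPoint_eq_bot_of_affine]
    exact PrimeSpectrum.ext ((RingHom.injective_iff_ker_eq_bot φ.hom).1 h.1)
  have : Flat (Spec.map φ) := DescLib.flat_of_dominant_integral (Spec.map φ) hgen
  haveI := h.2
  exact DescLib.surjective_of_flat (Spec.map φ) (closedPoint W) (IsLocalRing.comap_closedPoint φ.hom)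

/-- The valuative lifting property gives universal lifting of pairs of points. -/
theorem univSSubtrusive_of_valLift (f : X ⟶ S)
    (h : ∀ (V : CommRingCat.{u}) [IsDomain V] [ValuationRing V] (g : Spec V ⟶ S),
      ∃ (W : CommRingCat.{u}) (_ : IsDomain W) (_ : ValuationRing W) (φ : V ⟶ W) (l : Spec W ⟶ X),
        HTop.IsExtVal V W φ ∧ l ≫ f = Spec.map φ ≫ g) : Subtr.UnivSSubtrusive f :=
  (S14769.result f).2 fun V _ _ _ g => by
    obtain ⟨W, hW, hW', φ, l, hφ, hl⟩ := h (CommRingCat.of V) g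
    exact ⟨W, inferInstance, hW, hW', l, Spec.map φ, surjective_of_isExtVal hφ, hl⟩

/-- Universal lifting of pairs of points gives the valuative lifting property. -/
theorem valLift_of_univSSubtrusive (f : X ⟶ S) (hf : Subtr.UnivSSubtrusive f)
    (V : CommRingCat.{u}) [IsDomain V] [ValuationRing V] (g : Spec V ⟶ S) :
    ∃ (W : CommRingCat.{u}) (_ : IsDomain W) (_ : ValuationRing W) (φ : V ⟶ W) (l : Spec W ⟶ X),
      HTop.IsExtVal V W φ ∧ l ≫ f = Spec.map φ ≫ g := by
  obtain ⟨p, p', hp, e, e'⟩ := hf _ _ _ (IsPullback.of_hasPullback f g).flip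
    (IsLocalRing.specializes_closedPoint (⊥ : PrimeSpectrum V))
  obtain ⟨W, hW, hW', φ, l, hφ, hl, -⟩ := HTopCov.exists_ext_of_points (pullback.snd f g) hp e' e
  exact ⟨W, hW, hW', φ, l ≫ pullback.fst f g, hφ, by rw [Category.assoc, pullback.condition, ← Category.assoc, hl]⟩

/-- Finitely many affine opens of a scheme covering it, each inside some member of a given open covering. -/
theorem exists_affine_subcover {Y : Scheme.{u}} [CompactSpace Y] {κ : Type*} (W : κ → Y.Opens)
    (h : ∀ z, ∃ k, z ∈ W k) :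
    ∃ (n : ℕ) (V : Fin n → Y.Opens), (∀ j, IsAffineOpen (V j)) ∧ ⨆ j, V j = ⊤ ∧ ∀ j, ∃ k, V j ≤ W k := by
  choose k hk using h
  choose V hV hzV hle using fun z : Y => exists_isAffineOpen_mem_and_subset (x := z) (U := W (k z)) (hk z)
  obtain ⟨t, ht⟩ := isCompact_univ.elim_finite_subcover (fun z => (V z : Set Y)) (fun z => (V z).2)
    fun z _ => Set.mem_iUnion.2 ⟨z, hzV z⟩
  refine ⟨t.card, fun j => V (t.equivFin.symm j).1, fun j => hV _, top_unique fun z _ => ?_,
    fun j => ⟨_, fun w hw => hle _ hw⟩⟩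
  obtain ⟨x, hxt, hzx⟩ := Set.mem_iUnion₂.1 (ht (Set.mem_univ z))
  exact TopologicalSpace.Opens.mem_iSup.2 ⟨t.equivFin ⟨x, hxt⟩, by dsimp only; rw [Equiv.symm_apply_apply]; exact hzx⟩

/-- An h covering over an affine scheme is refined by finitely many affine opens of a proper surjection
of finite presentation. -/
theorem exists_proper_affine_refine [IsAffine S] (g : S ⟶ X) (E : PreZeroHypercover.{w} X)
    (hE : ∀ i, LocallyOfFinitePresentation (E.f i)) (F : PreZeroHypercover.{0} S) (hF : HTop.IsStandardV F)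
    (hr : HTop.RefinesOver g F E) :
    ∃ (Y : Scheme.{u}) (q : Y ⟶ S) (n : ℕ) (V : Fin n → Y.Opens),
      IsProper q ∧ Surjective q ∧ LocallyOfFinitePresentation q ∧ (∀ j, IsAffineOpen (V j)) ∧ ⨆ j, V j = ⊤ ∧
        ∀ j, ∃ (i : E.I₀) (h : (V j).toScheme ⟶ E.X i), h ≫ E.f i = (V j).ι ≫ q ≫ g := by
  classical
  choose i h hh using hr
  have := hF.finite_index
  have := hF.isAffine_obj
  let k : ∀ j, F.X j ⟶ pullback (E.f (i j)) g := fun j => pullback.lift (h j) (F.f j) (hh j)
  choose O hO hzO _hle using fun (j : F.I₀) (z : F.X j) =>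
    exists_isAffineOpen_mem_and_subset (x := k j z) (U := ⊤) trivial
  choose t ht using fun j : F.I₀ => (isCompact_univ (X := F.X j)).elim_finite_subcover
    (fun z => k j ⁻¹' (O j z : Set ↥(pullback (E.f (i j)) g))) (fun z => (O j z).2.preimage (k j).continuous)
    fun z _ => Set.mem_iUnion.2 ⟨z, hzO j z⟩
  let K : Type u := ULift.{u} (Σ j : F.I₀, Fin (t j).card)
  let pt : ∀ c : K, F.X c.down.1 := fun c => ((t c.down.1).equivFin.symm c.down.2).1
  let Wc : K → Scheme.{u} := fun c => (O c.down.1 (pt c)).toScheme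
  let f : (∐ Wc) ⟶ S := Sigma.desc fun c => (O c.down.1 (pt c)).ι ≫ pullback.snd _ _
  haveI : ∀ c : K, IsAffine (Wc c) := fun c => hO _ _
  have hlfp : LocallyOfFinitePresentation f := IsZariskiLocalAtSource.sigmaDesc fun c => by
    have := hE (i c.down.1)
    infer_instance
  have hsub : Subtr.UnivSSubtrusive f := univSSubtrusive_of_valLift f fun V _ _ g₀ => by
    obtain ⟨W, hW, hW', φ, hφ, j, l, hl⟩ := hF.lift V g₀
    obtain ⟨z, hz, hzl⟩ := Set.mem_iUnion₂.1 (ht j (Set.mem_univ (l (closedPoint W))))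
    obtain ⟨l', hl'⟩ := HTopCov.exists_lift_of_closedPoint (O j z).ι (l ≫ k j) (by
      rw [Scheme.Opens.range_ι, Scheme.Hom.comp_apply]
      exact hzl)
    obtain ⟨a, rfl⟩ : ∃ a, ((t j).equivFin.symm a).1 = z := ⟨(t j).equivFin ⟨z, hz⟩, by rw [Equiv.symm_apply_apply]⟩
    refine ⟨W, hW, hW', φ, l' ≫ Sigma.ι Wc ⟨⟨j, a⟩⟩, hφ, ?_⟩
    simp only [f, Category.assoc, Sigma.ι_desc]
    rw [reassoc_of% hl', pullback.lift_snd, hl]
  obtain ⟨Y, q, ι, _, W, m, hq1, hq2, hq3, -, hWc, hWcov, hm⟩ :=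
    exists_refine f ⊤ hsub (fun _ _ _ _ => trivial) (hasCompactifications_proj f)
  haveI : CompactSpace Y := QuasiCompact.compactSpace_of_compactSpace q
  obtain ⟨n, V, hV1, hV2, hV3⟩ := exists_affine_subcover
    (fun a : ι × K => (W a.1).ι ''ᵁ (m a.1 ⁻¹ᵁ (Sigma.ι Wc a.2).opensRange)) fun z => by
    obtain ⟨a, ha⟩ := hWcov z
    obtain ⟨⟨c, w⟩, hw⟩ := (sigmaMk Wc).surjective (m a ⟨z, ha⟩)
    exact ⟨(a, c), ⟨z, ha⟩, ⟨w, ((sigmaMk_mk _ _ _).symm.trans hw)⟩, rfl⟩
  refine ⟨Y, q, n, V, hq1, hq3, hq2, hV1, hV2, fun j => ?_⟩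
  obtain ⟨⟨a, c⟩, hle⟩ := hV3 j
  have hWa : V j ≤ W a := hle.trans (((W a).ι.image_le_opensRange _).trans (Scheme.Opens.opensRange_ι _).le)
  let e := Y.homOfLE hWa
  have he : e ≫ (W a).ι = (V j).ι := Y.homOfLE_ι hWa
  have hr' : Set.range (e ≫ m a) ⊆ Set.range (Sigma.ι Wc c) := by
    rintro _ ⟨z, rfl⟩
    obtain ⟨y, hy, hyz⟩ := hle z.2
    have : e z = y := (W a).ι.isOpenEmbedding.injective (by rw [← Scheme.Hom.comp_apply, he]; exact hyz.symm)
    rw [Scheme.Hom.comp_apply, this]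
    exact hy
  let l := IsOpenImmersion.lift (Sigma.ι Wc c) (e ≫ m a) hr'
  refine ⟨i c.down.1, l ≫ (O c.down.1 (pt c)).ι ≫ pullback.fst _ _, ?_⟩
  have hc : (O c.down.1 (pt c)).ι ≫ pullback.snd _ g = Sigma.ι Wc c ≫ f :=
    (Sigma.ι_desc (fun c : K => (O c.down.1 (pt c)).ι ≫ pullback.snd (E.f (i c.down.1)) g) c).symm
  rw [Category.assoc, Category.assoc, pullback.condition, reassoc_of% hc,
    IsOpenImmersion.lift_fac_assoc, Category.assoc, reassoc_of% (hm a), reassoc_of% he]

end Groth.Agent.EtDescX
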