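import Groth.Agent.EtDescX.SubtrDescQC
import Groth.Agent.MorLib.OpenGeneralizing
import Groth.Agent.DescLib.DescFinite

/-!
# Effective descent of etale schemes along universally open surjections
-/

universe u

set_option autoImplicit false
set_option linter.style.haveILetI false
set_option backward.isDefEq.respectTransparency false
set_option backward.isDefEq.respectTransparency.types false

open CategoryTheory CategoryTheory.Limits AlgebraicGeometry Opposite AlgSp Groth.Agent.AlgSpLib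

namespace Groth.Agent.EtDescX

variable {X S : Scheme.{u}}

/-- The glueing bijections in terms of transport of points. -/
theorem φ_eq_tr {g : X ⟶ S} (D : Desc.SchDD g) {P : Scheme.{u}} {x₀ x₁ : P ⟶ X} (h : x₀ ≫ g = x₁ ≫ g)
    (a : Desc.Lifts D.obj x₀) (e : a.1 ≫ DescLib.IndQA.sv g D = x₁ ≫ g) :
    (D.φ x₀ x₁ h a).1 = DescLib.IndQA.tr g D a.1 x₁ e :=
  DescLib.GlueFam.φ_val ((Desc.SchDDFam.ofSchDD.{u} g).obj D) (i := PUnit.unit) (k := PUnit.unit) h a e

/-- Universally open surjections lift pairs of points. -/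
theorem univSSubtrusive_of_universallyOpen (g : X ⟶ S) [UniversallyOpen g] [Surjective g] :
    Subtr.UnivSSubtrusive g := by
  intro X' S' a b g' sq y y' hy
  have : UniversallyOpen g' := MorphismProperty.of_isPullback sq.flip ‹_›
  have : Surjective g' := MorphismProperty.of_isPullback sq.flip ‹_›
  obtain ⟨x, rfl⟩ := g'.surjective y
  obtain ⟨x', hx', e⟩ := MorLib.generalizingMap_of_isOpenMap g' g'.isOpenMap hy
  exact ⟨x, x', hx', rfl, e⟩

/-- The saturation of a compact open is a stable compact open. -/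
theorem exists_stable_open (g : X ⟶ S) [UniversallyOpen g] [QuasiCompact g] (D : Desc.SchDD g)
    (O : D.obj.left.Opens) (hO : IsCompact (O : Set D.obj.left)) :
    ∃ O' : D.obj.left.Opens, IsCompact (O' : Set D.obj.left) ∧ O ≤ O' ∧
      pullback.fst (DescLib.IndQA.sv g D) g ⁻¹ᵁ O' = DescLib.IndQA.d₁ g D ⁻¹ᵁ O' := by
  let G := DescLib.IndQA.groupoid g D
  have h1 : UniversallyOpen G.s := MorphismProperty.pullback_fst _ _ ‹_›
  have h2 : QuasiCompact G.s := MorphismProperty.pullback_fst _ _ ‹_›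
  have hi₁ : ∀ r, G.s (G.i r) = G.t r := fun r => by rw [← Scheme.Hom.comp_apply, G.i_s]
  have hi₂ : ∀ r, G.t (G.i r) = G.s r := fun r => by rw [← Scheme.Hom.comp_apply, G.i_t]
  have e : G.t '' (G.s ⁻¹' (O : Set D.obj.left)) = G.s '' (G.t ⁻¹' (O : Set D.obj.left)) := by
    ext w
    constructor <;> rintro ⟨r, hr, rfl⟩
    · exact ⟨G.i r, show G.t (G.i r) ∈ O by rw [hi₂]; exact hr, hi₁ r⟩
    · exact ⟨G.i r, show G.s (G.i r) ∈ O by rw [hi₁]; exact hr, hi₂ r⟩
  have ho : IsOpen (G.t '' (G.s ⁻¹' (O : Set D.obj.left))) := by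
    rw [e]
    exact G.s.isOpenMap _ (O.isOpen.preimage G.t.continuous)
  refine ⟨⟨_, ho⟩, (QuasiCompact.isCompact_preimage _ O.isOpen hO).image G.t.continuous,
    fun w hw => ⟨G.e w, show G.s (G.e w) ∈ O by rw [← Scheme.Hom.comp_apply, G.e_s]; exact hw,
      by rw [← Scheme.Hom.comp_apply, G.e_t]; rfl⟩, ?_⟩
  refine GrpdLib.isInv_of_mem (G := G) (W := ⟨_, ho⟩) ?_
  rintro r ⟨r', hr', hrr'⟩
  obtain ⟨r'', h₁, h₂⟩ := GrpdLib.exists_comp G r r' hrr'.symm
  exact ⟨r'', show G.s r'' ∈ O by rw [h₂]; exact hr', h₁⟩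

/-- Compatible sections push forward along morphisms of descent data. -/
theorem isCompat_comp_hom {g : X ⟶ S} {D D' : Desc.SchDD g} (j : D' ⟶ D) {T : Scheme.{u}} {t : T ⟶ S}
    {σ : Over.mk (pullback.snd t g) ⟶ D'.obj} (h : IsCompat D' t σ) : IsCompat D t (σ ≫ j.hom) := by
  intro Z z₀ z₁ e
  refine (j.comm _ _ (snd_comp_eq z₀ z₁ e) ⟨z₀ ≫ σ.left, (Category.assoc _ _ _).trans (congrArg (z₀ ≫ ·) (Over.w σ))⟩
    ⟨z₀ ≫ (σ ≫ j.hom).left, (Category.assoc _ _ _).trans (congrArg (z₀ ≫ ·) (Over.w (σ ≫ j.hom)))⟩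
    (Category.assoc _ _ _).symm).trans ?_
  rw [h z₀ z₁ e]
  exact Category.assoc _ _ _

/-- Compatibility is reflected by monomorphisms of descent data. -/
theorem isCompat_of_comp_hom {g : X ⟶ S} {D D' : Desc.SchDD g} (j : D' ⟶ D) [Mono j.hom.left] {T : Scheme.{u}}
    {t : T ⟶ S} {σ : Over.mk (pullback.snd t g) ⟶ D'.obj} (h : IsCompat D t (σ ≫ j.hom)) : IsCompat D' t σ := by
  intro Z z₀ z₁ e
  rw [← cancel_mono j.hom.left]
  refine (j.comm _ _ (snd_comp_eq z₀ z₁ e) ⟨z₀ ≫ σ.left, (Category.assoc _ _ _).trans (congrArg (z₀ ≫ ·) (Over.w σ))⟩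
    ⟨z₀ ≫ (σ ≫ j.hom).left, (Category.assoc _ _ _).trans (congrArg (z₀ ≫ ·) (Over.w (σ ≫ j.hom)))⟩
    (Category.assoc _ _ _).symm).symm.trans ?_
  exact (h z₀ z₁ e).trans (Category.assoc _ _ _).symm

set_option maxHeartbeats 1600000 in
/-- Separated etale descent data along quasi-compact universally open surjections have etale charts. -/
theorem hasCharts_of_universallyOpen_qc (g : X ⟶ S) [UniversallyOpen g] [Surjective g] [QuasiCompact g]
    [QuasiSeparatedSpace X] (D : Desc.SchDD g) [IsSeparated D.obj.hom] [Etale D.obj.hom] : HasCharts D := by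
  intro T c t
  let σ := val D c
  have hσ := isCompat_val D c
  have : UniversallyOpen (pullback.fst T.hom g) := MorphismProperty.pullback_fst _ _ ‹_›
  have : Surjective (pullback.fst T.hom g) := MorphismProperty.pullback_fst _ _ ‹_›
  obtain ⟨z₀, rfl⟩ := (pullback.fst T.hom g).surjective t
  obtain ⟨O, hO, hzO, -⟩ := exists_isAffineOpen_mem_and_subset (x := σ.left z₀) (U := ⊤) trivial
  obtain ⟨O', hO'c, hOO', hinv⟩ := exists_stable_open g D O hO.isCompact
  obtain ⟨D', j, hj, hjr⟩ := DescLib.exists_subDatum g D O' hinv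
  haveI : IsSeparated D'.obj.hom := by rw [← Over.w j.hom]; infer_instance
  haveI : Etale D'.obj.hom := by rw [← Over.w j.hom]; infer_instance
  haveI : CompactSpace D'.obj.left :=
    j.hom.left.isOpenEmbedding.toIsEmbedding.isInducing.isCompact_iff.2
      (by rw [Set.image_univ, hjr]; exact hO'c) |> isCompact_univ_iff.1
  haveI : QuasiCompact D'.obj.hom := quasiCompact_of_compactSpace _
  -- the preimage of the stable open is saturated
  have hsat : ∀ a b, pullback.fst T.hom g a = pullback.fst T.hom g b → σ.left a ∈ O' → σ.left b ∈ O' := by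
    intro a b hab ha
    obtain ⟨r, hra, hrb⟩ := Scheme.Pullback.exists_preimage_pullback a b hab
    let α := pullback.fst (pullback.fst T.hom g) (pullback.fst T.hom g)
    let β := pullback.snd (pullback.fst T.hom g) (pullback.fst T.hom g)
    have hαβ : α ≫ pullback.fst T.hom g = β ≫ pullback.fst T.hom g := pullback.condition
    have e : (α ≫ σ.left) ≫ DescLib.IndQA.sv g D = (β ≫ pullback.snd T.hom g) ≫ g := by
      refine Eq.trans ?_ (snd_comp_eq α β hαβ)
      simp only [Category.assoc, DescLib.IndQA.sv]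
      exact congrArg (α ≫ ·) (Over.w_assoc σ g)
    have hβ : DescLib.IndQA.tr g D (α ≫ σ.left) (β ≫ pullback.snd T.hom g) e = β ≫ σ.left := by
      exact (φ_eq_tr D (snd_comp_eq α β hαβ) ⟨α ≫ σ.left, _⟩ e).symm.trans (hσ α β hαβ)
    let ρ := pullback.lift (α ≫ σ.left) (β ≫ pullback.snd T.hom g) e
    have h1 : pullback.fst (DescLib.IndQA.sv g D) g (ρ r) = σ.left a := by
      rw [← Scheme.Hom.comp_apply, pullback.lift_fst, Scheme.Hom.comp_apply]
      exact congrArg σ.left hra
    have h2 : DescLib.IndQA.d₁ g D (ρ r) = σ.left b := by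
      rw [← Scheme.Hom.comp_apply, DescLib.IndQA.lift_d₁, hβ, Scheme.Hom.comp_apply]
      exact congrArg σ.left hrb
    have : ρ r ∈ pullback.fst (DescLib.IndQA.sv g D) g ⁻¹ᵁ O' := by
      show pullback.fst (DescLib.IndQA.sv g D) g (ρ r) ∈ O'
      rw [h1]; exact ha
    rw [hinv] at this
    rw [← h2]; exact this
  let A : (pullback T.hom g).Opens := σ.left ⁻¹ᵁ O'
  let T₀ : T.left.Opens := ⟨pullback.fst T.hom g '' (A : Set ↑(pullback T.hom g)),
    (pullback.fst T.hom g).isOpenMap _ A.isOpen⟩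
  have ht₀ : pullback.fst T.hom g z₀ ∈ T₀ := ⟨z₀, hOO' hzO, rfl⟩
  let T₁ : Over S := Over.mk (T₀.ι ≫ T.hom)
  let inc : T₁ ⟶ T := Over.homMk T₀.ι rfl
  let σ₁ := (Over.pullback g).map inc ≫ σ
  have hr₁ : Set.range σ₁.left ⊆ Set.range j.hom.left := by
    rw [hjr]
    rintro _ ⟨w, rfl⟩
    let m : pullback T₁.hom g ⟶ pullback T.hom g := ((Over.pullback g).map inc).left
    have hm : pullback.fst T.hom g (m w) ∈ T₀ := by
      rw [← Scheme.Hom.comp_apply, show m ≫ pullback.fst T.hom g = pullback.fst T₁.hom g ≫ T₀.ι from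
        pullback.lift_fst _ _ _, Scheme.Hom.comp_apply]
      exact (pullback.fst T₁.hom g w).2
    obtain ⟨a, ha, hab⟩ := hm
    show σ.left (m w) ∈ O'
    exact hsat a _ hab ha
  let l : Over.mk (pullback.snd T₁.hom g) ⟶ D'.obj :=
    Over.homMk (IsOpenImmersion.lift j.hom.left σ₁.left hr₁) (by
      rw [← Over.w j.hom, IsOpenImmersion.lift_fac_assoc]
      exact Over.w σ₁)
  have hl : l ≫ j.hom = σ₁ := Over.OverMorphism.ext (IsOpenImmersion.lift_fac _ _ _)
  have hl' : IsCompat D' T₁.hom l := isCompat_of_comp_hom j (by rw [hl]; exact hσ.map inc)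
  obtain ⟨V, W, σ', y, z, w, hV, hyw, hyz⟩ :=
    hasCharts_of_univSSubtrusive_qc g (univSSubtrusive_of_universallyOpen g) D' (ofVal D' l hl')
      (⟨_, ht₀⟩ : T₀.toScheme)
  refine ⟨V, W, ofVal D (val D' σ' ≫ j.hom) (isCompat_comp_hom j (isCompat_val D' σ')), y ≫ inc, z, w, hV, ?_,
    val_injective D ?_⟩
  · show T₀.ι (y.left w) = _
    rw [hyw]; rfl
  · have := congrArg (fun k => val D' k ≫ j.hom) hyz
    simp only [val_comp, val_ofVal, Category.assoc, hl] at this
    rw [val_comp, val_comp, val_ofVal, Functor.map_comp, Category.assoc]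
    exact this

set_option maxHeartbeats 800000 in
/-- Separated etale descent data along universally open surjections have etale charts. -/
theorem hasCharts_of_universallyOpen (g : X ⟶ S) [UniversallyOpen g] [Surjective g] [QuasiSeparatedSpace X]
    (D : Desc.SchDD g) [IsSeparated D.obj.hom] [Etale D.obj.hom] : HasCharts D := by
  classical
  refine hasCharts_of_local D fun s => ?_
  obtain ⟨V, hV, hsV, -⟩ := exists_isAffineOpen_mem_and_subset (x := s) (U := ⊤) trivial
  have : IsAffine V.toScheme := hV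
  refine ⟨V, V.ι, inferInstance, ⟨⟨s, hsV⟩, rfl⟩, ?_⟩
  let gV := pullback.snd g V.ι
  haveI : UniversallyOpen gV := MorphismProperty.pullback_snd _ _ ‹_›
  haveI : Surjective gV := MorphismProperty.pullback_snd _ _ ‹_›
  haveI : QuasiSeparatedSpace ↥(pullback g V.ι) := quasiSeparatedSpace_of_quasiSeparated (pullback.fst g V.ι)
  choose x hx using gV.surjective
  choose W hW hxW _ using fun v : V.toScheme => exists_isAffineOpen_mem_and_subset (x := x v) (U := ⊤) trivial
  obtain ⟨F, hF⟩ := isCompact_univ.elim_finite_subcover (fun v => gV '' (W v : Set ↑(pullback g V.ι)))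
    (fun v => gV.isOpenMap _ (W v).isOpen) (fun v _ => Set.mem_iUnion.2 ⟨v, x v, hxW v, hx v⟩)
  let U : (pullback g V.ι).Opens := ⟨⋃ v ∈ F, (W v : Set ↑(pullback g V.ι)),
    isOpen_biUnion fun v _ => (W v).isOpen⟩
  haveI : CompactSpace U.toScheme :=
    isCompact_iff_compactSpace.1 (F.isCompact_biUnion fun v _ => (hW v).isCompact)
  haveI : QuasiSeparatedSpace U.toScheme := quasiSeparatedSpace_of_quasiSeparated U.ι
  haveI : QuasiCompact (U.ι ≫ gV) := quasiCompact_of_compactSpace _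
  haveI : Surjective (U.ι ≫ gV) := ⟨fun v => by
    obtain ⟨k, hk, y, hy, e⟩ := Set.mem_iUnion₂.1 (hF (Set.mem_univ v))
    exact ⟨⟨y, Set.mem_biUnion hk hy⟩, e⟩⟩
  haveI : IsSeparated (pullDD U.ι rfl (baseDD V.ι D)).obj.hom :=
    inferInstanceAs (IsSeparated (pullback.snd (baseDD V.ι D).obj.hom U.ι))
  haveI : Etale (pullDD U.ι rfl (baseDD V.ι D)).obj.hom :=
    inferInstanceAs (Etale (pullback.snd (baseDD V.ι D).obj.hom U.ι))
  exact hasCharts_of_refine U.ι rfl _ (univSubmersive_of_universallyOpen (U.ι ≫ gV))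
    (hasCharts_of_universallyOpen_qc (U.ι ≫ gV) _)

end Groth.Agent.EtDescX
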