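import Groth.Agent.HTopCov.Sheaf

/-!
# Sieves of schemes that are universally sheaf sieves for a presheaf on schemes over a base
-/

universe w w' u

set_option autoImplicit false
set_option backward.isDefEq.respectTransparency false
set_option backward.isDefEq.respectTransparency.types false

open CategoryTheory CategoryTheory.Limits AlgebraicGeometry Opposite
open Groth.Agent.HTopCov

namespace Groth.Agent.EtDescX

variable {S : Scheme.{u}} (F : (Over S)ᵒᵖ ⥤ Type w)

/-- The topology on schemes of those sieves whose pullbacks to schemes over `S` are sheaf sieves for `F`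
in a universal way. -/
noncomputable def finOver : GrothendieckTopology Scheme.{u} where
  sieves X := {R | ∀ ⦃W : Scheme.{u}⦄ (g : W ⟶ X) (t : W ⟶ S),
    (Sieve.overEquiv (Over.mk t)).symm (R.pullback g) ∈ Sheaf.finestTopologySingle F (Over.mk t)}
  top_mem' X W g t := by
    rw [Sieve.pullback_top, OrderIso.map_top]
    exact GrothendieckTopology.top_mem _ _
  pullback_stable' X Y R f hR W g t := by
    rw [← Sieve.pullback_comp]
    exact hR _ t
  transitive' X R hR R' hR' W g t := by
    refine GrothendieckTopology.transitive _ (hR g t) _ fun Z k hk => ?_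
    rw [← Sieve.overEquiv_symm_pullback, ← Sieve.pullback_comp]
    rw [Sieve.overEquiv_symm_iff] at hk
    have := hR' hk (𝟙 _) Z.hom
    rwa [Sieve.pullback_id] at this

variable {F}

theorem isSheafFor_of_mem_finOver {X : Over S} (R : Presieve X)
    (h : Sieve.generate (R.map (Over.forget S)) ∈ finOver F X.left) : Presieve.IsSheafFor F R := by
  rw [Presieve.isSheafFor_iff_generate]
  have := h (𝟙 _) X.hom
  rw [Sieve.pullback_id] at this
  have e : (Sieve.overEquiv X).symm (Sieve.generate (R.map (Over.forget S))) = Sieve.generate R := by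
    rw [OrderIso.symm_apply_eq, Sieve.overEquiv_generate,
      ← Sieve.arrows_generate_map_eq_functorPushforward, Sieve.generate_sieve]
  have this' : (Sieve.overEquiv X).symm (Sieve.generate (R.map (Over.forget S))) ∈ Sheaf.finestTopologySingle F X :=
    this
  have h' := this' X (𝟙 X)
  rw [Sieve.pullback_id] at h'
  exact (congrArg (fun s : Sieve X => Presieve.IsSheafFor F s.arrows) e).mp h'

theorem isSheaf_over_of_le {J : GrothendieckTopology Scheme.{u}} (h : J ≤ finOver F) :
    Presieve.IsSheaf (J.over S) F := by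
  intro X R hR
  rw [GrothendieckTopology.mem_over_iff] at hR
  have := h _ hR (𝟙 _) X.hom
  rw [Sieve.pullback_id] at this
  have this' : (Sieve.overEquiv X).symm (Sieve.overEquiv X R) ∈ Sheaf.finestTopologySingle F X := this
  rw [OrderIso.symm_apply_apply] at this'
  have h' := this' X (𝟙 X)
  rwa [Sieve.pullback_id] at h'

theorem le_finOver_of_isSheaf {J : GrothendieckTopology Scheme.{u}} (h : Presieve.IsSheaf (J.over S) F) :
    J ≤ finOver F := by
  intro X R hR W g t Y k
  exact h _ ((J.over S).pullback_stable k (J.overEquiv_symm_mem_over _ _ (J.pullback_stable g hR)))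

/-- The lift of a pre-one-hypercover to schemes over the base. -/
noncomputable def liftHyper {W : Scheme.{u}} (t : W ⟶ S) (E : PreOneHypercover.{u} W) :
    PreOneHypercover.{u} (Over.mk t) where
  I₀ := E.I₀
  X i := Over.mk (E.f i ≫ t)
  f i := Over.homMk (E.f i)
  I₁ := E.I₁
  Y i j k := Over.mk (E.p₁ k ≫ E.f i ≫ t)
  p₁ i j k := Over.homMk (E.p₁ k)
  p₂ i j k := Over.homMk (E.p₂ k) (by
    show E.p₂ k ≫ E.f j ≫ t = E.p₁ k ≫ E.f i ≫ t
    rw [← Category.assoc, ← E.w k, Category.assoc])
  w i j k := Over.OverMorphism.ext (E.w k)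

theorem isSheafFor_pullback_of_affine (hF : Presieve.IsSheaf (Scheme.zariskiTopology.over S) F) {X : Scheme.{u}}
    (R : Sieve X)
    (h : ∀ (Y : Scheme.{u}) [IsAffine Y] (g : Y ⟶ X) (t : Y ⟶ S),
      Presieve.IsSheafFor F ((Sieve.overEquiv (Over.mk t)).symm (R.pullback g)).arrows)
    {Y : Scheme.{u}} (g : Y ⟶ X) (t : Y ⟶ S) :
    Presieve.IsSheafFor F ((Sieve.overEquiv (Over.mk t)).symm (R.pullback g)).arrows := by
  let E := Y.affineOneHypercover
  let P := liftHyper t E.toPreOneHypercover
  let H : (Scheme.zariskiTopology.over S).OneHypercover (Over.mk t) :=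
    { toPreOneHypercover := P
      mem₀ := by
        have e : Sieve.overEquiv _ P.sieve₀ = E.sieve₀ := Sieve.overEquiv_ofArrows _ _
        rw [GrothendieckTopology.mem_over_iff, e]
        exact E.mem₀
      mem₁ := fun i₁ i₂ W p₁ p₂ hw => by
        rw [GrothendieckTopology.mem_over_iff, Sieve.overEquiv_preOneHypercover_sieve₁]
        exact E.mem₁ i₁ i₂ p₁.left p₂.left (congrArg CommaMorphism.left hw) }
  refine H.isSheafFor_of_pullback hF (fun i => ?_) (fun i j k => ?_)
  · rw [Sieve.generate_sieve, ← Sieve.overEquiv_symm_pullback, ← Sieve.pullback_comp]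
    haveI : IsAffine (Y.affineOneHypercover.X i) := inferInstanceAs (IsAffine (Y.affineCover.X i))
    exact h _ (E.f i ≫ g) _
  · rw [Sieve.generate_sieve, ← Sieve.overEquiv_symm_pullback, ← Sieve.pullback_comp]
    haveI : IsAffine (Y.affineOneHypercover.Y k) :=
      inferInstanceAs (IsAffine ((pullback (Y.affineCover.f i) (Y.affineCover.f j)).affineCover.X k))
    exact (h _ ((E.p₁ k ≫ E.f i) ≫ g) _).isSeparatedFor

theorem mem_finOver_of_affine (hF : Presieve.IsSheaf (Scheme.zariskiTopology.over S) F) {X : Scheme.{u}}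
    (R : Sieve X)
    (h : ∀ (Y : Scheme.{u}) [IsAffine Y] (g : Y ⟶ X) (t : Y ⟶ S),
      Presieve.IsSheafFor F ((Sieve.overEquiv (Over.mk t)).symm (R.pullback g)).arrows) :
    R ∈ finOver F X := fun W g t Z k => by
  rw [← Sieve.overEquiv_symm_pullback, ← Sieve.pullback_comp]
  exact isSheafFor_pullback_of_affine hF R h _ Z.hom

/-- The sieve of a single morphism over the base. -/
theorem overEquiv_symm_singleton {X Y : Over S} (f : Y ⟶ X) :
    (Sieve.overEquiv X).symm (Sieve.generate (Presieve.singleton f.left)) = Sieve.generate (Presieve.singleton f) := by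
  rw [OrderIso.symm_apply_eq, Sieve.overEquiv_generate]
  rw [← Sieve.arrows_generate_map_eq_functorPushforward, Sieve.generate_sieve, Presieve.map_singleton]
  rfl

/-- A single morphism is a sheaf sieve if all its base changes to affine schemes are. -/
theorem singleton_mem_finOver (hF : Presieve.IsSheaf (Scheme.zariskiTopology.over S) F) {X Y : Scheme.{u}}
    (f : Y ⟶ X)
    (h : ∀ (U V : Over S) (g : U.left ⟶ X) (q : V ⟶ U) (q' : V.left ⟶ Y), IsAffine U.left →
      IsPullback q.left q' g f → Presieve.IsSheafFor F (Presieve.singleton q)) :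
    (PreZeroHypercover.singleton.{0} f).sieve₀ ∈ finOver F X := by
  refine mem_finOver_of_affine hF _ fun W _ g t => ?_
  rw [← sieve₀_pullback₁]
  let q : Over.mk (pullback.fst g f ≫ t) ⟶ Over.mk t := Over.homMk (pullback.fst g f)
  have := h (Over.mk t) _ g q (pullback.snd g f) (inferInstanceAs (IsAffine W)) (IsPullback.of_hasPullback g f)
  rw [Presieve.isSheafFor_iff_generate, ← overEquiv_symm_singleton] at this
  have e : ((PreZeroHypercover.singleton.{0} f).pullback₁ g).sieve₀ = Sieve.generate (Presieve.singleton q.left) := by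
    show Sieve.generate _ = _
    congr 1
    exact Presieve.ofArrows_pUnit.{0} (f := pullback.fst g f)
  rw [e]
  exact this

/-- An h sheaf over a base makes h coverings sheaf sieves. -/
theorem hCover_mem_finOver (hh : HTop.IsHSheafOver S F) {X : Scheme.{u}} (E : PreZeroHypercover.{w'} X)
    (hE : HTop.IsHCover E) : E.sieve₀ ∈ finOver F X := fun W g t Z k => by
  rw [← Sieve.overEquiv_symm_pullback, ← Sieve.pullback_comp, ← sieve₀_pullback₁]
  let G := E.pullback₁ (k.left ≫ g)
  have hG : HTop.IsHCover G :=
    ⟨fun i => haveI := hE.1 i; inferInstanceAs (LocallyOfFinitePresentation (pullback.fst _ (E.f i))),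
      isVCover_pullback₁ _ E hE.2⟩
  let R : Presieve Z := Presieve.ofArrows (fun i => Over.mk (G.f i ≫ Z.hom)) fun i => Over.homMk (G.f i)
  have hR : R.map (Over.forget S) = G.presieve₀ := Presieve.map_ofArrows _
  have h1 := hh R (by rw [hR]; exact (HTop.presieve₀_mem_hPrecoverage_iff G).mpr hG)
  rw [Presieve.isSheafFor_iff_generate] at h1
  have e : (Sieve.overEquiv Z).symm G.sieve₀ = Sieve.generate R := by
    rw [OrderIso.symm_apply_eq]
    exact (Sieve.overEquiv_ofArrows (fun i => Over.mk (G.f i ≫ Z.hom)) fun i => Over.homMk (G.f i)).symm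
  rw [e]
  exact h1

/-- h sheaves over a base are Zariski sheaves. -/
theorem zariski_le_finOver (hh : HTop.IsHSheafOver S F) : Scheme.zariskiTopology ≤ finOver F := by
  intro X R hR
  obtain ⟨E, hle⟩ := Scheme.mem_grothendieckTopology_iff.1 hR
  haveI : ∀ i, IsOpenImmersion (E.f i) := Scheme.Cover.map_prop E
  haveI : QuasiCompactCover E.toPreZeroHypercover :=
    QuasiCompactCover.of_isOpenMap fun i => (E.f i).isOpenEmbedding.isOpenMap
  exact (finOver F).superset_covering ((Sieve.generate_le_iff _ _).mpr hle) (hCover_mem_finOver hh E.toPreZeroHypercover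
    ⟨fun i => inferInstance, isVCover_of_qc _ fun i => inferInstance⟩)

theorem isSheaf_zariski_over (hh : HTop.IsHSheafOver S F) : Presieve.IsSheaf (Scheme.zariskiTopology.over S) F :=
  isSheaf_over_of_le (zariski_le_finOver hh)

/-- The sieve of a finite family is a sheaf sieve if that of its disjoint union is. -/
theorem family_mem_finOver {T : Scheme.{u}} (hz : Scheme.zariskiTopology ≤ finOver F) (E : PreZeroHypercover.{u} T)
    (h : (PreZeroHypercover.singleton.{0} (Sigma.desc E.f)).sieve₀ ∈ finOver F T) : E.sieve₀ ∈ finOver F T := by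
  refine (finOver F).transitive h _ ?_
  rintro Z _ ⟨_, a, _, ⟨⟨⟩⟩, rfl⟩
  rw [Sieve.pullback_comp]
  refine (finOver F).pullback_stable a ?_
  let C : (∐ E.X).OpenCover := sigmaOpenCover E.X
  refine (finOver F).superset_covering ((Sieve.generate_le_iff _ _).mpr <| Presieve.ofArrows_le_iff.mpr fun j => ?_)
    (hz _ C.mem_grothendieckTopology)
  exact ⟨E.X j, 𝟙 _, E.f j, ⟨j⟩, (Category.id_comp _).trans (Sigma.ι_desc _ _).symm⟩

end Groth.Agent.EtDescX
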