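import Groth.Agent.EtDescX.SubLift
import Mathlib.Order.Filter.Ultrafilter.Basic
import Mathlib.Order.Filter.AtTopBot.Finset

/-!
# Finitely many local lifts serve all valuation rings of a field
-/

universe u

set_option autoImplicit false

open CategoryTheory CategoryTheory.Limits AlgebraicGeometry IsLocalRing Filter

namespace Groth.Agent.EtDescX

/-- Compactness of the space of valuation rings of a field containing a given subset. -/
theorem exists_finset_valuationSubring {K : Type u} [Field K] (R : Set K) {ι : Type*} (G : ι → Finset K)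
    (h : ∀ V : ValuationSubring K, R ⊆ V → ∃ i, (G i : Set K) ⊆ V) :
    ∃ F : Finset ι, ∀ V : ValuationSubring K, R ⊆ V → ∃ i ∈ F, (G i : Set K) ⊆ V := by
  by_contra! hcon
  choose W hR hW using hcon
  obtain ⟨𝒰, h𝒰⟩ := Ultrafilter.exists_le (atTop : Filter (Finset ι))
  have hall : ∀ {p : Finset ι → Prop}, (∀ F, p F) → ∀ᶠ F in (𝒰 : Filter (Finset ι)), p F :=
    fun h => Filter.Eventually.of_forall h
  let V : ValuationSubring K :=
    { carrier := {x | ∀ᶠ F in (𝒰 : Filter (Finset ι)), x ∈ W F}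
      zero_mem' := hall fun F => (W F).zero_mem
      one_mem' := hall fun F => (W F).one_mem
      add_mem' := fun ha hb => (ha.and hb).mono fun F h => (W F).add_mem _ _ h.1 h.2
      mul_mem' := fun ha hb => (ha.and hb).mono fun F h => (W F).mul_mem _ _ h.1 h.2
      neg_mem' := fun ha => ha.mono fun F h => (W F).neg_mem _ h
      mem_or_inv_mem' := fun x => Ultrafilter.eventually_or.1 (hall fun F => (W F).mem_or_inv_mem x) }
  obtain ⟨i, hi⟩ := h V fun x hx => (hall fun F => hR F hx : ∀ᶠ F in (𝒰 : Filter (Finset ι)), x ∈ W F)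
  have h1 : ∀ᶠ F in (𝒰 : Filter (Finset ι)), ∀ x ∈ G i, x ∈ W F :=
    (G i).eventually_all.2 fun x hx => hi hx
  have h2 : ∀ᶠ F in (𝒰 : Filter (Finset ι)), i ∈ F :=
    h𝒰 ((eventually_ge_atTop {i}).mono fun F hF => hF (Finset.mem_singleton_self i))
  obtain ⟨F, h1, h2⟩ := (h1.and h2).exists
  exact hW F i h2 h1

variable {X Y : Scheme.{u}} (f : X ⟶ Y)

/-- An affine open piece of the source with a lift of a field valued point of the target. -/
structure PieceLift {K : Type u} [Field K] (η : Spec (CommRingCat.of K) ⟶ Y) where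
  /-- the ring of the piece -/
  B : CommRingCat.{u}
  /-- the open immersion of the piece -/
  u : Spec B ⟶ X
  [isOpenImmersion : IsOpenImmersion u]
  /-- the field valued point -/
  ψ : B ⟶ CommRingCat.of K
  fac : Spec.map ψ ≫ u ≫ f = η

attribute [instance] PieceLift.isOpenImmersion

/-- The generic point of a valuation ring. -/
noncomputable abbrev genMap {K : Type u} [Field K] (V : ValuationSubring K) :
    Spec (CommRingCat.of K) ⟶ Spec (CommRingCat.of V) :=
  Spec.map (CommRingCat.ofHom V.subtype)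

theorem exists_factor_of_closedPoint {T : Scheme.{u}} {R : CommRingCat.{u}} [IsLocalRing R] (g : Spec R ⟶ T)
    {Z : Scheme.{u}} (j : Z ⟶ T) [IsOpenImmersion j] (h : g (closedPoint R) ∈ Set.range j) :
    ∃ g' : Spec R ⟶ Z, g' ≫ j = g := by
  have hr : Set.range g ⊆ Set.range j := by
    rintro _ ⟨z, rfl⟩
    exact ((specializes_closedPoint z).map g.continuous).mem_open j.isOpenEmbedding.isOpen_range h
  exact ⟨IsOpenImmersion.lift j g hr, IsOpenImmersion.lift_fac _ _ _⟩

theorem exists_affine_range_subset (W : Set Y) (hW : IsOpen W) {y : Y} (hy : y ∈ W) :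
    ∃ (A : CommRingCat.{u}) (v : Spec A ⟶ Y) (_ : IsOpenImmersion v),
      y ∈ Set.range v ∧ Set.range v ⊆ W := by
  obtain ⟨U, hU, hyU, hUW⟩ := exists_isAffineOpen_mem_and_subset (x := y) (U := ⟨W, hW⟩) hy
  exact ⟨_, hU.fromSpec, inferInstance, hU.range_fromSpec.symm ▸ hyU, hU.range_fromSpec.symm ▸ hUW⟩

theorem exists_finite_pieceLift [CompactSpace Y] [LocallyOfFiniteType f] (hf : Subtr.UnivSSubtrusive f)
    {K : Type u} [Field K] [IsAlgClosed K] (η : Spec (CommRingCat.of K) ⟶ Y) :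
    ∃ (n : ℕ) (d : Fin n → PieceLift f η),
      ∀ (V : ValuationSubring K) (g : Spec (CommRingCat.of V) ⟶ Y), genMap V ≫ g = η →
        ∃ (i : Fin n) (a : Spec (CommRingCat.of V) ⟶ Spec (d i).B),
          a ≫ (d i).u ≫ f = g ∧ genMap V ≫ a = Spec.map (d i).ψ := by
  -- a finite affine cover of the base
  choose A v hv hyv _hsub using fun y : Y => exists_affine_range_subset (Y := Y) Set.univ isOpen_univ (Set.mem_univ y)
  obtain ⟨t, ht⟩ := isCompact_univ.elim_finite_subcover (fun y : Y => Set.range (v y))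
    (fun y => (v y).isOpenEmbedding.isOpen_range) fun y _ => Set.mem_iUnion.2 ⟨y, hyv y⟩
  -- the pieces over one member of the cover
  let J := {c : (y : Y) × (d : PieceLift f η) ×' (∃ χ : A y ⟶ d.B, Spec.map χ ≫ v y = d.u ≫ f) // c.1 ∈ t}
  have hfin : ∀ y ∈ t, ∃ F : Finset J, ∀ (V : ValuationSubring K) (g : Spec (CommRingCat.of V) ⟶ Y),
      genMap V ≫ g = η → g (closedPoint V) ∈ Set.range (v y) →
      ∃ c ∈ F, ∃ a : Spec (CommRingCat.of V) ⟶ Spec c.1.2.1.B,
        a ≫ c.1.2.1.u ≫ f = g ∧ genMap V ≫ a = Spec.map c.1.2.1.ψ := by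
    intro y hyt
    by_cases hη : ∃ φ : A y ⟶ CommRingCat.of K, Spec.map φ ≫ v y = η
    swap
    · refine ⟨∅, fun V g hg hcl => ?_⟩
      obtain ⟨g', hg'⟩ := exists_factor_of_closedPoint g (v y) hcl
      obtain ⟨θ, hθ⟩ := Spec.map_surjective g'
      exact (hη ⟨θ ≫ CommRingCat.ofHom V.subtype, by rw [Spec.map_comp, Category.assoc, hθ, hg', hg]⟩).elim
    obtain ⟨φ, hφ⟩ := hη
    let I := {c : J // c.1.1 = y}
    have hgen : ∀ c : I, ∃ (s : Finset K), (s : Set K) ⊆ Set.range c.1.1.2.1.ψ.hom ∧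
        ∀ V : ValuationSubring K, Set.range φ.hom ⊆ V → (s : Set K) ⊆ V →
          Set.range c.1.1.2.1.ψ.hom ⊆ V := by
      rintro ⟨⟨⟨y', d, χ, hχ⟩, hy't⟩, rfl : y' = y⟩
      have hft : χ.hom.FiniteType := by
        rw [← HasRingHomProperty.Spec_iff (P := @LocallyOfFiniteType)]
        have : LocallyOfFiniteType (Spec.map χ ≫ v y') := by rw [hχ]; infer_instance
        exact locallyOfFiniteType_of_comp _ (v y')
      let := χ.hom.toAlgebra
      obtain ⟨s, hs⟩ := (hft : Algebra.FiniteType (A y') d.B).out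
      classical
      refine ⟨s.image d.ψ.hom, by rw [Finset.coe_image]; exact Set.image_subset_range _ _, fun V hR hs' => ?_⟩
      have hφψ : χ ≫ d.ψ = φ := by
        refine Spec.map_injective ?_
        rw [← cancel_mono (v y'), Spec.map_comp, Category.assoc, hχ, d.fac, hφ]
      rintro _ ⟨b, rfl⟩
      have hb : b ∈ Algebra.adjoin (A y') (s : Set d.B) := by rw [hs]; exact Algebra.mem_top
      induction hb using Algebra.adjoin_induction with
      | mem x hx => exact hs' (Finset.mem_coe.2 (Finset.mem_image_of_mem _ hx))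
      | algebraMap r =>
        refine hR ⟨r, ?_⟩
        rw [← hφψ]; rfl
      | add x z _ _ hx hz => rw [map_add]; exact V.add_mem _ _ hx hz
      | mul x z _ _ hx hz => rw [map_mul]; exact V.mul_mem _ _ hx hz
    choose G hG₁ hG₂ using hgen
    obtain ⟨F, hF⟩ := exists_finset_valuationSubring (Set.range φ.hom) G fun V hR => by
      let θ : A y ⟶ CommRingCat.of V := CommRingCat.ofHom (φ.hom.codRestrict V.toSubring fun r => hR ⟨r, rfl⟩)
      have hθ : θ ≫ CommRingCat.ofHom V.subtype = φ := rfl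
      obtain ⟨a, ha⟩ := exists_lift_valuationSubring f hf V (Spec.map θ ≫ v y)
      obtain ⟨B, u, hu, hau, hsub⟩ := exists_affine_range_subset (Y := X) (f ⁻¹' Set.range (v y))
        ((v y).isOpenEmbedding.isOpen_range.preimage f.continuous) (y := a (closedPoint V)) (by
          rw [Set.mem_preimage, ← Scheme.Hom.comp_apply, ha, Scheme.Hom.comp_apply]
          exact ⟨_, rfl⟩)
      obtain ⟨a', ha'⟩ := exists_factor_of_closedPoint a u hau
      obtain ⟨ρ, hρ⟩ := Spec.map_surjective a'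
      obtain ⟨χ, hχ⟩ : ∃ χ : A y ⟶ B, Spec.map χ ≫ v y = u ≫ f := by
        have hr : Set.range (u ≫ f) ⊆ Set.range (v y) := by
          rintro _ ⟨z, rfl⟩
          rw [Scheme.Hom.comp_apply]
          exact hsub ⟨z, rfl⟩
        obtain ⟨χ, hχ⟩ := Spec.map_surjective (IsOpenImmersion.lift (v y) (u ≫ f) hr)
        exact ⟨χ, by rw [hχ, IsOpenImmersion.lift_fac]⟩
      let d : PieceLift f η :=
        { B := B, u := u, ψ := ρ ≫ CommRingCat.ofHom V.subtype
          fac := by
            rw [Spec.map_comp, Category.assoc, hρ, reassoc_of% ha', ha, ← hφ, ← hθ, Spec.map_comp, Category.assoc] }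
      refine ⟨⟨⟨⟨y, d, χ, hχ⟩, hyt⟩, rfl⟩, fun x hx => ?_⟩
      obtain ⟨b, rfl⟩ := hG₁ ⟨⟨⟨y, d, χ, hχ⟩, hyt⟩, rfl⟩ hx
      exact (ρ.hom b).2
    refine ⟨F.map ⟨Subtype.val, Subtype.val_injective⟩, fun V g hg hcl => ?_⟩
    obtain ⟨g', hg'⟩ := exists_factor_of_closedPoint g (v y) hcl
    obtain ⟨θ, hθ⟩ := Spec.map_surjective g'
    have hθφ : θ ≫ CommRingCat.ofHom V.subtype = φ := by
      refine Spec.map_injective ?_
      rw [← cancel_mono (v y), Spec.map_comp, Category.assoc, hθ, hg', hg, hφ]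
    have hR : Set.range φ.hom ⊆ (V : Set K) := by
      rintro _ ⟨r, rfl⟩
      rw [← hθφ]
      exact (θ.hom r).2
    obtain ⟨c, hc, hcV⟩ := hF V hR
    refine ⟨c.1, Finset.mem_map_of_mem _ hc, ?_⟩
    have hψV := hG₂ c V hR hcV
    obtain ⟨⟨⟨y', d, χ, hχ⟩, hy't⟩, rfl : y' = y⟩ := c
    let ψV : d.B ⟶ CommRingCat.of V := CommRingCat.ofHom (d.ψ.hom.codRestrict V.toSubring fun r => hψV ⟨r, rfl⟩)
    have hψV' : ψV ≫ CommRingCat.ofHom V.subtype = d.ψ := rfl
    refine ⟨Spec.map ψV, ?_, by rw [← Spec.map_comp, hψV']⟩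
    have hmono : Mono (CommRingCat.ofHom V.subtype) :=
      ConcreteCategory.mono_of_injective _ Subtype.val_injective
    have : χ ≫ ψV = θ := by
      rw [← cancel_mono (CommRingCat.ofHom V.subtype), Category.assoc, hψV', hθφ]
      refine Spec.map_injective ?_
      rw [← cancel_mono (v y'), Spec.map_comp, Category.assoc, hχ, d.fac, hφ]
    show Spec.map ψV ≫ d.u ≫ f = g
    rw [← hχ, ← Category.assoc, ← Spec.map_comp, this, hθ, hg']
  choose F hF using fun y : t => hfin y.1 y.2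
  obtain ⟨n, ⟨e⟩⟩ := Finite.exists_equiv_fin ((y : t) × {c : J // c ∈ F y})
  refine ⟨n, fun i => (e.symm i).2.1.1.2.1, fun V g hg => ?_⟩
  obtain ⟨y, hy, hcl⟩ := Set.mem_iUnion₂.1 (ht (Set.mem_univ (g (closedPoint V))))
  obtain ⟨c, hc, a, ha⟩ := hF ⟨y, hy⟩ V g hg hcl
  refine ⟨e ⟨⟨y, hy⟩, c, hc⟩, ?_⟩
  show ∃ a, _
  dsimp only
  rw [Equiv.symm_apply_apply]
  exact ⟨a, ha⟩

end Groth.Agent.EtDescX
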