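import Groth.Agent.EtDescX.RefineLib
import Groth.Agent.EtDescX.SubFinite
import Groth.Agent.HTopPh.Square
import Groth.Agent.AlgSpPts.Sep
import Mathlib.AlgebraicGeometry.Morphisms.Proper
import Mathlib.AlgebraicGeometry.Morphisms.FinitePresentation
import Mathlib.FieldTheory.IsAlgClosed.AlgebraicClosure

/-!
# Subtrusive morphisms of finite presentation are refined by open coverings of proper surjections
-/

universe u

set_option autoImplicit false

open CategoryTheory CategoryTheory.Limits AlgebraicGeometry IsLocalRing TopologicalSpace Topology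
open Groth.Agent.MorLib.IdealFG

namespace Groth.Agent.EtDescX

variable {X Y : Scheme.{u}} (f : X ⟶ Y) (Pr : MorphismProperty Scheme.{u})

/-- A compactification datum: every affine piece of the source is immersed over the target in a proper
scheme of finite presentation with the property `Pr`. -/
def HasCompactifications : Prop :=
  ∀ (B : CommRingCat.{u}) (u : Spec B ⟶ X) [IsOpenImmersion u],
    ∃ (T : Scheme.{u}) (π : T ⟶ Y) (i : Spec B ⟶ T),
      IsImmersion i ∧ i ≫ π = u ≫ f ∧ IsProper π ∧ LocallyOfFinitePresentation π ∧ Pr π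

/-- A fibre product of finitely many compactifications through given field valued points. -/
theorem exists_prod [Pr.IsStableUnderBaseChange] [Pr.IsStableUnderComposition] (hcl : @IsClosedImmersion ≤ Pr)
    {S : Scheme.{u}} (η : S ⟶ Y) : ∀ (n : ℕ) (T : Fin n → Scheme.{u}) (π : ∀ k, T k ⟶ Y),
    (∀ k, IsProper (π k)) → (∀ k, LocallyOfFinitePresentation (π k)) → (∀ k, Pr (π k)) →
    ∀ (s : ∀ k, S ⟶ T k), (∀ k, s k ≫ π k = η) →
      ∃ (P : Scheme.{u}) (ρ : P ⟶ Y) (pr : ∀ k, P ⟶ T k) (σ : S ⟶ P),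
        IsProper ρ ∧ LocallyOfFinitePresentation ρ ∧ Pr ρ ∧ σ ≫ ρ = η ∧
          ∀ k, pr k ≫ π k = ρ ∧ σ ≫ pr k = s k
  | 0 => fun T π _ _ _ s _ => ⟨Y, 𝟙 Y, fun k => k.elim0, η, inferInstance, inferInstance,
      hcl _ _ _ (inferInstance : IsClosedImmersion (𝟙 Y)), Category.comp_id η, fun k => k.elim0⟩
  | n + 1 => fun T π h1 h2 h3 s hs => by
    obtain ⟨P, ρ, pr, σ, hρ1, hρ2, hρ3, hσ, hk⟩ := exists_prod hcl η n (fun k => T k.succ) (fun k => π k.succ)
      (fun k => h1 _) (fun k => h2 _) (fun k => h3 _) (fun k => s k.succ) fun k => hs _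
    have := h1 0
    have := h2 0
    refine ⟨pullback ρ (π 0), pullback.fst ρ (π 0) ≫ ρ,
      Fin.cases (pullback.snd ρ (π 0)) (fun k => pullback.fst ρ (π 0) ≫ pr k),
      pullback.lift σ (s 0) (hσ.trans (hs 0).symm), inferInstance, inferInstance,
      Pr.comp_mem _ _ (Pr.pullback_fst _ _ (h3 0)) hρ3, by rw [pullback.lift_fst_assoc, hσ], fun k => ?_⟩
    induction k using Fin.cases with
    | zero => exact ⟨pullback.condition.symm, pullback.lift_snd _ _ _⟩
    | succ k =>
      exact ⟨by simp only [Fin.cases_succ, Category.assoc, (hk k).1],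
        by simp only [Fin.cases_succ, pullback.lift_fst_assoc, (hk k).2]⟩

instance isDominant_genMap {K : Type u} [Field K] (V : ValuationSubring K) : IsDominant (genMap V) := by
  refine ⟨?_⟩
  refine (PrimeSpectrum.denseRange_comap_iff_ker_le_nilRadical V.subtype).2 ?_
  rw [show RingHom.ker V.subtype = ⊥ from (RingHom.injective_iff_ker_eq_bot _).1 Subtype.val_injective]
  exact bot_le

/-- Around one point of the target: a proper scheme of finite presentation whose image contains the
point, covered by quasi-compact opens that lift. -/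
theorem exists_refine_point [CompactSpace Y] [QuasiSeparatedSpace Y] [LocallyOfFinitePresentation f]
    (hf : Subtr.UnivSSubtrusive f)
    [Pr.IsStableUnderBaseChange] [Pr.IsStableUnderComposition] (hcl : @IsClosedImmersion ≤ Pr)
    (hcomp : HasCompactifications f Pr) (p : Y) :
    ∃ (Y' : Scheme.{u}) (q : Y' ⟶ Y) (n : ℕ) (W : Fin n → Y'.Opens) (h : ∀ k, (W k).toScheme ⟶ X),
      IsProper q ∧ LocallyOfFinitePresentation q ∧ Pr q ∧ p ∈ Set.range q ∧
        (∀ k, IsCompact (W k : Set Y')) ∧ (∀ z, ∃ k, z ∈ W k) ∧ ∀ k, h k ≫ f = (W k).ι ≫ q := by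
  let K := AlgebraicClosure (Y.residueField p)
  let η : Spec (CommRingCat.of K) ⟶ Y :=
    Spec.map (CommRingCat.ofHom (algebraMap (Y.residueField p) K)) ≫ Y.fromSpecResidueField p
  obtain ⟨n, d, hd⟩ := exists_finite_pieceLift f hf η
  choose T π i hi hiπ hπ1 hπ2 hπ3 using fun k => hcomp (d k).B (d k).u
  obtain ⟨P, ρ, pr, σ, hρ1, hρ2, hρ3, hσ, hk⟩ := exists_prod Pr hcl η n T π hπ1 hπ2 hπ3
    (fun k => Spec.map (d k).ψ ≫ i k) fun k => by rw [Category.assoc, hiπ, (d k).fac]
  have : CompactSpace P := QuasiCompact.compactSpace_of_compactSpace ρ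
  have : QuasiSeparatedSpace P := quasiSeparatedSpace_of_quasiSeparated ρ
  have hprqc : ∀ k, QuasiCompact (pr k) := fun k => by
    have := hπ1 k
    have : QuasiCompact (pr k ≫ π k) := by rw [(hk k).1]; infer_instance
    exact QuasiCompact.of_comp (pr k) (π k)
  have := hi
  choose O j hO hj hjO using fun k => exists_compact_open_closedImmersion (i k)
  let z₀ : P := σ (closedPoint K)
  let Z : Closeds P := ⟨closure {z₀}, isClosed_closure⟩
  let I := Scheme.IdealSheafData.vanishingIdeal Z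
  have hsupp : (I.support : Set P) = closure {z₀} := by
    rw [← Scheme.IdealSheafData.range_subschemeι]
    exact Groth.Agent.H23.RedSub.range_vanishingIdeal Z
  let O' : Fin n → P.Opens := fun k => pr k ⁻¹ᵁ O k
  have hO' : ∀ k, IsCompact (O' k : Set P) := fun k => (pr k).isCompact_preimage (hO k)
  have hz₀ : ∀ k, pr k z₀ = i k ((Spec.map (d k).ψ) (closedPoint K)) := fun k => by
    simp only [z₀, ← Scheme.Hom.comp_apply, (hk k).2]
  have hcov : ∀ z ∈ closure {z₀}, ∃ k, z ∈ O' k := fun z hz => by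
    obtain ⟨V, g, hg, hgz⟩ := exists_valuationSubring_centre σ (specializes_iff_mem_closure.2 hz)
    obtain ⟨k, a, ha, ha'⟩ := hd V (g ≫ ρ) (by rw [← Category.assoc]; exact (congrArg (· ≫ ρ) hg).trans hσ)
    have := hπ1 k
    have e : a ≫ i k = g ≫ pr k := by
      refine ext_of_isDominant_of_isSeparated (π k) ?_ (genMap V) ?_
      · rw [Category.assoc, Category.assoc, hiπ, (hk k).1, ha]
      · rw [← Category.assoc, ha', ← Category.assoc, show genMap V ≫ g = σ from hg, (hk k).2]
    refine ⟨k, ?_⟩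
    show pr k z ∈ O k
    rw [← hgz, ← Scheme.Hom.comp_apply, ← e, Scheme.Hom.comp_apply, ← hjO k, Scheme.Hom.comp_apply]
    exact (j k (a (closedPoint V))).2
  let L : ∀ k, (O' k).toScheme.IdealSheafData := fun k => (j k).ker.comap (pr k ∣_ O k)
  have hjlfp : ∀ k, LocallyOfFinitePresentation (j k) := fun k => by
    have := hπ2 k
    have : LocallyOfFinitePresentation ((j k) ≫ (O k).ι ≫ π k) := by
      rw [← Category.assoc, hjO, hiπ]; infer_instance
    exact Groth.Agent.AlgSpPts.locallyOfFinitePresentation_of_comp (j k) ((O k).ι ≫ π k)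
  have hL : ∀ k, IsFG (L k) := fun k => by
    have := hj k
    have := hjlfp k
    exact isFG_comap (isFG_ker (j k)) _
  have hLI : ∀ k, L k ≤ I.comap (O' k).ι := fun k => by
    have := hj k
    refine le_comap_vanishingIdeal Z _ _ fun w hw => ?_
    rw [SetLike.mem_coe, Scheme.IdealSheafData.support_comap]
    show (pr k ∣_ O k) w ∈ ((j k).ker.support : Set (O k).toScheme)
    rw [Scheme.Hom.support_ker, (j k).isClosedEmbedding.isClosed_range.closure_eq]
    have hsp : z₀ ⤳ (O' k).ι w := specializes_iff_mem_closure.2 hw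
    have hz₀O : z₀ ∈ O' k := hsp.mem_open (O' k).2 w.2
    obtain ⟨w₀, hw₀⟩ : z₀ ∈ Set.range (O' k).ι := by rw [Scheme.Opens.range_ι]; exact hz₀O
    have hww : w₀ ⤳ w := (O' k).ι.isOpenEmbedding.isInducing.specializes_iff.1 (hw₀ ▸ hsp)
    refine (hww.map (pr k ∣_ O k).continuous).mem_closed (j k).isClosedEmbedding.isClosed_range
      ⟨(Spec.map (d k).ψ) (closedPoint K), (O k).ι.isOpenEmbedding.injective ?_⟩
    rw [← Scheme.Hom.comp_apply (pr k ∣_ O k), morphismRestrict_ι, Scheme.Hom.comp_apply, hw₀, hz₀,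
      ← Scheme.Hom.comp_apply (j k), hjO]
  choose Kk hKk using fun k => exists_fg_sub_ge I (O' k) (hO' k) (L k) (hL k) (hLI k)
  obtain ⟨K₀, hK₀⟩ := exists_fg_sub_support_subset I (⋃ k, (O' k : Set P))
    (isOpen_iUnion fun k => (O' k).2) (hsupp ▸ fun z hz => Set.mem_iUnion.2 (hcov z hz))
  classical
  let J : Sub I := ⟨K₀.1 ⊔ Finset.univ.sup (fun k => (Kk k).1), sup_le K₀.2.1 (Finset.sup_le fun k _ => (Kk k).2.1),
    isFG_sup K₀.2.2 (Finset.sup_induction isFG_bot (fun _ ha _ hb => isFG_sup ha hb) fun k _ => (Kk k).2.2)⟩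
  let ι' := J.1.subschemeι
  have : LocallyOfFinitePresentation ι' := lfp_subschemeι J.2.2
  let W : Fin n → J.1.subscheme.Opens := fun k => ι' ⁻¹ᵁ O' k
  have hker : ∀ k, (j k).ker ≤ ((ι' ∣_ O' k) ≫ (pr k ∣_ O k)).ker := fun k => by
    rw [← Scheme.IdealSheafData.map_ker, Scheme.IdealSheafData.le_map_iff_comap_le]
    have e : (ι' ∣_ O' k).ker = J.1.comap (O' k).ι := by
      rw [← (isPullback_morphismRestrict ι' (O' k)).isoPullback_hom_fst, Scheme.Hom.ker_comp_of_isIso,
        Scheme.IdealSheafData.ker_fst_of_isClosedImmersion, Scheme.IdealSheafData.ker_subschemeι]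
    rw [e]
    exact (hKk k).trans (Scheme.IdealSheafData.comap_mono _
      ((Finset.le_sup (f := fun k => (Kk k).1) (Finset.mem_univ k)).trans le_sup_right))
  refine ⟨J.1.subscheme, ι' ≫ ρ, n, W,
    fun k => haveI := hj k; IsClosedImmersion.lift (j k) ((ι' ∣_ O' k) ≫ (pr k ∣_ O k)) (hker k) ≫ (d k).u,
    inferInstance, inferInstance, Pr.comp_mem _ _ (hcl _ _ _ inferInstance) hρ3, ?_,
    fun k => ι'.isCompact_preimage (hO' k), fun z => ?_, fun k => ?_⟩
  · have : z₀ ∈ Set.range ι' := by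
      rw [Scheme.IdealSheafData.range_subschemeι]
      exact Scheme.IdealSheafData.support_antitone J.2.1 (hsupp.ge (subset_closure rfl))
    obtain ⟨z, hz⟩ := this
    refine ⟨z, ?_⟩
    rw [Scheme.Hom.comp_apply, hz, ← Scheme.Hom.comp_apply, hσ, Scheme.Hom.comp_apply,
      Scheme.fromSpecResidueField_apply]
  · have : ι' z ∈ (K₀.1.support : Set P) :=
      Scheme.IdealSheafData.support_antitone le_sup_left (J.1.range_subschemeι.subset ⟨z, rfl⟩)
    obtain ⟨k, hk⟩ := Set.mem_iUnion.1 (hK₀ this)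
    exact ⟨k, hk⟩
  · have := hj k
    have hjπ : j k ≫ (O k).ι ≫ π k = (d k).u ≫ f := by rw [← Category.assoc, hjO, hiπ]
    rw [Category.assoc, ← hjπ, IsClosedImmersion.lift_fac_assoc, Category.assoc,
      morphismRestrict_ι_assoc, (hk k).1, morphismRestrict_ι_assoc]

/-- Universally S-subtrusive morphisms of finite presentation to qcqs schemes are refined by open
coverings of proper surjections of finite presentation. -/
theorem exists_refine [CompactSpace Y] [QuasiSeparatedSpace Y] [LocallyOfFinitePresentation f]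
    (hf : Subtr.UnivSSubtrusive f)
    [Pr.IsStableUnderBaseChange] [Pr.IsStableUnderComposition] [IsZariskiLocalAtSource Pr]
    (hcl : @IsClosedImmersion ≤ Pr) (hcomp : HasCompactifications f Pr) :
    ∃ (Y' : Scheme.{u}) (q : Y' ⟶ Y) (ι : Type u) (_ : Finite ι) (W : ι → Y'.Opens)
      (h : ∀ k, (W k).toScheme ⟶ X),
      IsProper q ∧ LocallyOfFinitePresentation q ∧ Surjective q ∧ Pr q ∧
        (∀ k, IsCompact (W k : Set Y')) ∧ (∀ z, ∃ k, z ∈ W k) ∧ ∀ k, h k ≫ f = (W k).ι ≫ q := by
  classical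
  choose Y' q n W h hq1 hq2 hq3 hp hWc hWcov hh using exists_refine_point f Pr hf hcl hcomp
  let C : Y → Set Y := fun p => Set.range (q p)
  have hC : ∀ p, IsOpen[constructibleTopology Y] (C p) := fun p => by
    have := hq1 p; have := hq2 p
    have := (q p).isConstructible_image (IsConstructible.univ (X := Y' p))
    rw [Set.image_univ] at this
    exact (isOpen_constructibleTopology_of_isConstructible this).1
  have hcpt : CompactSpace (WithConstructibleTopology Y) := inferInstance
  obtain ⟨t, ht⟩ := isCompact_univ.elim_finite_subcover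
    (fun p : Y => (WithTopology.ofTopology ⁻¹' C p : Set (WithConstructibleTopology Y)))
    (fun p => WithConstructibleTopology.isOpen_iff.2 (hC p))
    fun y _ => Set.mem_iUnion.2 ⟨WithTopology.ofTopology y, hp _⟩
  let Q : Scheme.{u} := ∐ fun p : t => Y' p.1
  let qq : Q ⟶ Y := Sigma.desc fun p : t => q p.1
  have : IsProper qq := Groth.Agent.HTopPh.isProper_sigmaDesc _ fun p => hq1 p.1
  let sι : ∀ p : t, Y' p.1 ⟶ Q := fun p => Sigma.ι (fun p : t => Y' p.1) p
  have hsq : ∀ p, sι p ≫ qq = q p.1 := fun p => Sigma.ι_desc _ _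
  let W' : (Σ p : t, ULift.{u} (Fin (n p.1))) → Q.Opens := fun a => sι a.1 ''ᵁ W a.1.1 a.2.down
  refine ⟨Q, qq, _, inferInstance, W',
    fun a => ((sι a.1).isoImage (W a.1.1 a.2.down)).inv ≫ h a.1.1 a.2.down, this,
    IsZariskiLocalAtSource.sigmaDesc fun p => hq2 p.1, ⟨fun y => ?_⟩,
    IsZariskiLocalAtSource.sigmaDesc fun p => hq3 p.1, fun a => ?_, fun z => ?_, fun a => ?_⟩
  · obtain ⟨p, hpt, z, hz⟩ := Set.mem_iUnion₂.1 (ht (Set.mem_univ (WithTopology.toTopology _ y)))
    exact ⟨sι ⟨p, hpt⟩ z, by rw [← Scheme.Hom.comp_apply, hsq]; exact hz⟩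
  · exact (hWc _ _).image (sι a.1).continuous
  · obtain ⟨⟨p, z⟩, rfl⟩ := (sigmaMk (fun p : t => Y' p.1)).surjective z
    obtain ⟨k, hk⟩ := hWcov p.1 z
    exact ⟨⟨p, ⟨k⟩⟩, z, hk, (sigmaMk_mk _ _ _).symm⟩
  · rw [Category.assoc, hh, Iso.inv_comp_eq, ← Category.assoc, Scheme.Hom.isoImage_hom_ι, Category.assoc,
      hsq]

end Groth.Agent.EtDescX
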