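import Groth.Agent.EtDescX.Refine
import Groth.Agent.ChowX.AffImm
import Groth.Agent.PnCoh.Chow.Proper
import Groth.Agent.AlgStLib.Noetherian
import Groth.Agent.S1477
import Mathlib.AlgebraicGeometry.ZariskisMainTheorem

/-!
# Compactifications of affine pieces, and refinements in the standard forms
-/

universe u

set_option autoImplicit false

open CategoryTheory CategoryTheory.Limits AlgebraicGeometry

namespace Groth.Agent.EtDescX

variable {X Y : Scheme.{u}} (f : X ⟶ Y)

/-- Affine pieces are immersed in projective spaces over the target. -/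
theorem hasCompactifications_proj [LocallyOfFiniteType f] : HasCompactifications f ⊤ := fun B u _ => by
  obtain ⟨n, i, hi, hiπ⟩ := ChowX.exists_immersion_affine (u ≫ f)
  haveI : IsProper (CohB1.ProjSpace.toSpec n (ULift.{u} ℤ)) := PnCoh.Chow.isProper_toSpec n _
  haveI : IsNoetherianRing (ULift.{u} ℤ) := isNoetherianRing_of_ringEquiv ℤ ULift.ringEquiv.symm
  haveI : IsLocallyNoetherian (Spec (CommRingCat.of (ULift.{u} ℤ))) := inferInstance
  haveI : LocallyOfFinitePresentation (CohB1.ProjSpace.toSpec n (ULift.{u} ℤ)) :=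
    Groth.Agent.AlgStLib.locallyOfFinitePresentation_of_isLocallyNoetherian _ inferInstance
  exact ⟨_, CohB1.ProjSpaceOver.toBase n Y, i, hi, hiπ, MorphismProperty.pullback_snd _ _ inferInstance,
    MorphismProperty.pullback_snd _ _ inferInstance, trivial⟩

/-- Affine pieces of a quasi-finite morphism are open in finite schemes over the target. -/
theorem hasCompactifications_finite [LocallyOfFinitePresentation f] [LocallyQuasiFinite f] [CompactSpace Y]
    [QuasiSeparatedSpace Y] : HasCompactifications f @LocallyQuasiFinite := fun B u _ => by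
  haveI : QuasiCompact (u ≫ f) := quasiCompact_of_compactSpace _
  obtain ⟨T, i, π, hi, -, hπ, hπ', hiπ⟩ := S1477.result (u ≫ f)
  exact ⟨T, π, i, inferInstance, hiπ, inferInstance, hπ', inferInstance⟩

/-- An open covering by finitely many quasi-compact opens as one morphism. -/
theorem cover_props {Y' : Scheme.{u}} [QuasiSeparatedSpace Y'] {ι : Type u} [Finite ι] (W : ι → Y'.Opens)
    (hW : ∀ k, IsCompact (W k : Set Y')) (hcov : ∀ z, ∃ k, z ∈ W k) :
    Surjective (Sigma.desc fun k => (W k).ι) ∧ QuasiCompact (Sigma.desc fun k => (W k).ι) ∧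
      QuasiSeparated (Sigma.desc fun k => (W k).ι) ∧ Etale (Sigma.desc fun k => (W k).ι) ∧
      LocallyQuasiFinite (Sigma.desc fun k => (W k).ι) ∧
      ∀ x : ↥(∐ fun k => (W k).toScheme), ∃ U : (∐ fun k => (W k).toScheme : Scheme.{u}).Opens,
        x ∈ U ∧ IsOpenImmersion (U.ι ≫ Sigma.desc fun k => (W k).ι) := by
  have : ∀ k, CompactSpace (W k).toScheme := fun k => isCompact_iff_compactSpace.1 (hW k)
  have : CompactSpace ↥(∐ fun k => (W k).toScheme : Scheme.{u}) := by
    have : CompactSpace (Σ k, (W k).toScheme) := inferInstance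
    exact (sigmaMk _).compactSpace
  have : ∀ k, QuasiSeparatedSpace (W k).toScheme := fun k =>
    QuasiSeparatedSpace.of_isOpenEmbedding (W k).ι.isOpenEmbedding
  have : QuasiSeparatedSpace ↥(∐ fun k => (W k).toScheme : Scheme.{u}) := by
    have : QuasiSeparatedSpace (Σ k, (W k).toScheme) := by
      refine ⟨fun U V hU hUc hV hVc => ?_⟩
      have e : U ∩ V = ⋃ k, (fun w : (W k).toScheme => (⟨k, w⟩ : Σ k, (W k).toScheme)) ''
          ((fun w : (W k).toScheme => (⟨k, w⟩ : Σ k, (W k).toScheme)) ⁻¹' U ∩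
            (fun w : (W k).toScheme => (⟨k, w⟩ : Σ k, (W k).toScheme)) ⁻¹' V) := by
        ext ⟨k, w⟩
        refine ⟨fun h => Set.mem_iUnion.2 ⟨k, w, h, rfl⟩, fun h => ?_⟩
        obtain ⟨i, x, hx, e⟩ := Set.mem_iUnion.1 h
        exact e ▸ hx
      rw [e]
      refine isCompact_iUnion fun k => ?_
      have hc : Topology.IsClosedEmbedding (fun w : (W k).toScheme => (⟨k, w⟩ : Σ k, (W k).toScheme)) :=
        Topology.IsClosedEmbedding.sigmaMk (σ := fun k => ((W k).toScheme : Type u)) (i := k)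
      exact (QuasiSeparatedSpace.inter_isCompact _ _ (hU.preimage hc.continuous) (hc.isCompact_preimage hUc)
        (hV.preimage hc.continuous) (hc.isCompact_preimage hVc)).image hc.continuous
    exact QuasiSeparatedSpace.of_isOpenEmbedding (sigmaMk fun k => (W k).toScheme).symm.isOpenEmbedding
  refine ⟨⟨fun z => ?_⟩, quasiCompact_of_compactSpace _,
    inferInstance, IsZariskiLocalAtSource.sigmaDesc fun k => inferInstance,
    IsZariskiLocalAtSource.sigmaDesc fun k => inferInstance, fun x => ?_⟩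
  · obtain ⟨k, hk⟩ := hcov z
    exact ⟨Sigma.ι (fun k => (W k).toScheme) k ⟨z, hk⟩, by rw [← Scheme.Hom.comp_apply, Sigma.ι_desc]; rfl⟩
  · obtain ⟨⟨k, z⟩, rfl⟩ := (sigmaMk fun k => (W k).toScheme).surjective x
    let j := Sigma.ι (fun k => (W k).toScheme) k
    refine ⟨j.opensRange, ⟨z, (sigmaMk_mk _ _ _).symm⟩, ?_⟩
    rw [← Scheme.Hom.isoOpensRange_inv_comp j, Category.assoc, Sigma.ι_desc]
    infer_instance

/-- Refinement by an open covering of a proper surjection of finite presentation. -/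
theorem exists_refine_proper [CompactSpace Y] [QuasiSeparatedSpace Y] [LocallyOfFinitePresentation f]
    (hf : Subtr.UnivSSubtrusive f) :
    ∃ (X' Y' : Scheme.{u}) (h : X' ⟶ X) (p : X' ⟶ Y') (q : Y' ⟶ Y), h ≫ f = p ≫ q ∧
      Surjective p ∧ QuasiCompact p ∧ QuasiSeparated p ∧ Etale p ∧
      (∀ x : X', ∃ U : X'.Opens, x ∈ U ∧ IsOpenImmersion (U.ι ≫ p)) ∧
      IsProper q ∧ Surjective q ∧ LocallyOfFinitePresentation q := by
  obtain ⟨Y', q, ι, _, W, h, hq1, hq2, hq3, -, hWc, hcov, hh⟩ :=
    exists_refine f ⊤ hf (fun _ _ _ _ => trivial) (hasCompactifications_proj f)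
  have : QuasiSeparatedSpace Y' := quasiSeparatedSpace_of_quasiSeparated q
  obtain ⟨h1, h2, h3, h4, -, h6⟩ := cover_props W hWc hcov
  exact ⟨_, Y', Sigma.desc h, _, q, Sigma.hom_ext _ _ fun k => by simp [hh k], h1, h2, h3, h4, h6, hq1, hq3, hq2⟩

/-- Refinement by an open covering of a finite surjection of finite presentation. -/
theorem exists_refine_finite [CompactSpace Y] [QuasiSeparatedSpace Y] [LocallyOfFinitePresentation f]
    [LocallyQuasiFinite f] (hf : Subtr.UnivSSubtrusive f) :
    ∃ (X' Y' : Scheme.{u}) (h : X' ⟶ X) (p : X' ⟶ Y') (q : Y' ⟶ Y), h ≫ f = p ≫ q ∧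
      Surjective p ∧ QuasiCompact p ∧ QuasiSeparated p ∧
      (∀ x : X', ∃ U : X'.Opens, x ∈ U ∧ IsOpenImmersion (U.ι ≫ p)) ∧
      IsFinite q ∧ Surjective q ∧ LocallyOfFinitePresentation q := by
  obtain ⟨Y', q, ι, _, W, h, hq1, hq2, hq3, hq4, hWc, hcov, hh⟩ :=
    exists_refine f @LocallyQuasiFinite hf (fun _ _ g hg => inferInstance) (hasCompactifications_finite f)
  have : QuasiSeparatedSpace Y' := quasiSeparatedSpace_of_quasiSeparated q
  obtain ⟨h1, h2, h3, -, -, h6⟩ := cover_props W hWc hcov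
  exact ⟨_, Y', Sigma.desc h, _, q, Sigma.hom_ext _ _ fun k => by simp [hh k], h1, h2, h3, h6,
    IsFinite.of_isProper_of_locallyQuasiFinite q, hq3, hq2⟩

end Groth.Agent.EtDescX
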