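import Groth.Prelude.Def_Desc
import Groth.Prelude.Def_AlgSpRep
import Groth.Agent.EtFound.FinitePoints
import Groth.Agent.SGA1Q.Subm
import Mathlib.AlgebraicGeometry.Sites.Fpqc
import Mathlib.AlgebraicGeometry.Morphisms.Etale
import Mathlib.AlgebraicGeometry.Morphisms.Integral
import Mathlib.CategoryTheory.Sites.Subsheaf

/-!
# The sheaf of sections of a descent datum along a morphism
-/

universe u

open CategoryTheory CategoryTheory.Limits AlgebraicGeometry Opposite

namespace Groth.Agent.EtDescX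

set_option autoImplicit false
set_option backward.isDefEq.respectTransparency false
set_option backward.isDefEq.respectTransparency.types false

/-- The agreement locus of two morphisms into a separated unramified scheme. -/
theorem exists_eqLocus {Z U B : Scheme.{u}} (u : U ⟶ B) [IsSeparated u] [FormallyUnramified u]
    [LocallyOfFiniteType u] (a b : Z ⟶ U) (h : a ≫ u = b ≫ u) :
    ∃ E : Z.Opens, IsClosed (E : Set Z) ∧
      ∀ {T : Scheme.{u}} (g : T ⟶ Z), g ≫ a = g ≫ b ↔ Set.range g ⊆ (E : Set Z) := by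
  let k : Z ⟶ pullback u u := pullback.lift a b h
  refine ⟨k ⁻¹ᵁ (pullback.diagonal u).opensRange,
    (pullback.diagonal u).isClosedEmbedding.isClosed_range.preimage k.continuous, fun {T} g => ⟨fun hg => ?_, fun hg => ?_⟩⟩
  · rintro _ ⟨t, rfl⟩
    refine ⟨(g ≫ a) t, ?_⟩
    have : (g ≫ a) ≫ pullback.diagonal u = g ≫ k := by
      apply pullback.hom_ext <;> simp [k, hg]
    rw [← Scheme.Hom.comp_apply, this, Scheme.Hom.comp_apply]
  · let d := IsOpenImmersion.lift (pullback.diagonal u) (g ≫ k) (by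
      rintro _ ⟨t, rfl⟩
      exact hg ⟨t, rfl⟩)
    have hd : d ≫ pullback.diagonal u = g ≫ k := IsOpenImmersion.lift_fac _ _ _
    have h1 := congrArg (· ≫ pullback.fst u u) hd
    have h2 := congrArg (· ≫ pullback.snd u u) hd
    simp only [Category.assoc, pullback.diagonal_fst, pullback.diagonal_snd, Category.comp_id, k,
      pullback.lift_fst, pullback.lift_snd] at h1 h2
    exact h1.symm.trans h2

/-- Geometric points lift along integral morphisms through any point over their image. -/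
theorem exists_geom_lift {Y Z : Scheme.{u}} (f : Y ⟶ Z) [IsIntegralHom f] {Ω : Type u} [Field Ω] [IsAlgClosed Ω]
    (y : Y) (a : Spec (CommRingCat.of Ω) ⟶ Z) (ha : a (default : Spec (CommRingCat.of Ω)) = f y) :
    ∃ g : Spec (CommRingCat.of Ω) ⟶ Y, g ≫ f = a ∧ g (default : Spec (CommRingCat.of Ω)) = y := by
  obtain ⟨w, hw, -⟩ := Scheme.Pullback.exists_preimage_pullback (f := f) (g := a) y default ha.symm
  obtain ⟨l, hl, hlw⟩ := EtFound.exists_section_of_integral (pullback.snd f a) w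
  refine ⟨l ≫ pullback.fst f a, ?_, ?_⟩
  · rw [Category.assoc, pullback.condition, ← Category.assoc, hl, Category.id_comp]
  · rw [Scheme.Hom.comp_apply]
    exact (congrArg _ hlw).trans hw

/-- Two morphisms from an integral scheme over an algebraically closed field agreeing on rational points agree. -/
theorem hom_ext_of_rational {Z U B : Scheme.{u}} {Ω : Type u} [Field Ω] [IsAlgClosed Ω]
    (q : Z ⟶ Spec (CommRingCat.of Ω)) [IsIntegralHom q] (u : U ⟶ B) [IsSeparated u] [FormallyUnramified u]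
    [LocallyOfFiniteType u] (a b : Z ⟶ U) (h : a ≫ u = b ≫ u)
    (hl : ∀ l : Spec (CommRingCat.of Ω) ⟶ Z, l ≫ q = 𝟙 _ → l ≫ a = l ≫ b) : a = b := by
  obtain ⟨E, -, hE⟩ := exists_eqLocus u a b h
  have := (hE (𝟙 Z)).2 (by
    rintro _ ⟨z, rfl⟩
    obtain ⟨l, hlq, hlz⟩ := EtFound.exists_section_of_integral q z
    exact hlz ▸ (hE l).1 (hl l hlq) ⟨default, rfl⟩)
  simpa using this

variable {X S : Scheme.{u}} {p : X ⟶ S} (D : Desc.SchDD p)

theorem snd_comp_eq {T : Scheme.{u}} {t : T ⟶ S} {Z : Scheme.{u}} (z₀ z₁ : Z ⟶ pullback t p)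
    (h : z₀ ≫ pullback.fst t p = z₁ ≫ pullback.fst t p) :
    (z₀ ≫ pullback.snd t p) ≫ p = (z₁ ≫ pullback.snd t p) ≫ p := by
  simp only [Category.assoc, ← pullback.condition]
  rw [reassoc_of% h]

/-- Compatibility of a section on a base change with the descent datum. -/
def IsCompat {T : Scheme.{u}} (t : T ⟶ S) (σ : Over.mk (pullback.snd t p) ⟶ D.obj) : Prop :=
  ∀ ⦃Z : Scheme.{u}⦄ (z₀ z₁ : Z ⟶ pullback t p) (h : z₀ ≫ pullback.fst t p = z₁ ≫ pullback.fst t p),
    (D.φ (z₀ ≫ pullback.snd t p) (z₁ ≫ pullback.snd t p) (snd_comp_eq z₀ z₁ h)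
      ⟨z₀ ≫ σ.left, (Category.assoc _ _ _).trans (congrArg (z₀ ≫ ·) (Over.w σ))⟩).1 = z₁ ≫ σ.left

variable {D}

/-- The value of the glueing bijections does not depend on the spelling of the points. -/
theorem φ_congr {T : Scheme.{u}} {x₀ x₁ y₀ y₁ : T ⟶ X} (h : x₀ ≫ p = x₁ ≫ p) (h' : y₀ ≫ p = y₁ ≫ p)
    (v : Desc.Lifts D.obj x₀) (w : Desc.Lifts D.obj y₀) (e₀ : x₀ = y₀) (e₁ : x₁ = y₁) (e : v.1 = w.1) :
    (D.φ x₀ x₁ h v).1 = (D.φ y₀ y₁ h' w).1 := by
  subst e₀; subst e₁
  obtain rfl : v = w := Subtype.ext e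
  rfl

theorem φ_pre {T T' : Scheme.{u}} (g : T' ⟶ T) {x₀ x₁ : T ⟶ X} (h : x₀ ≫ p = x₁ ≫ p) {y₀ y₁ : T' ⟶ X}
    (h' : y₀ ≫ p = y₁ ≫ p) (v : Desc.Lifts D.obj x₀) (w : Desc.Lifts D.obj y₀)
    (e₀ : g ≫ x₀ = y₀) (e₁ : g ≫ x₁ = y₁) (e : w.1 = g ≫ v.1) :
    (D.φ y₀ y₁ h' w).1 = g ≫ (D.φ x₀ x₁ h v).1 := by
  subst e₀; subst e₁
  exact D.φ_natural g x₀ x₁ h h' v w e

theorem IsCompat.map {T T' : Over S} (g : T' ⟶ T) {σ : Over.mk (pullback.snd T.hom p) ⟶ D.obj}
    (hσ : IsCompat D T.hom σ) : IsCompat D T'.hom ((Over.pullback p).map g ≫ σ) := by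
  intro Z z₀ z₁ h
  let m : pullback T'.hom p ⟶ pullback T.hom p := ((Over.pullback p).map g).left
  have hm₁ : m ≫ pullback.fst T.hom p = pullback.fst T'.hom p ≫ g.left := pullback.lift_fst _ _ _
  have hm₂ : m ≫ pullback.snd T.hom p = pullback.snd T'.hom p := pullback.lift_snd _ _ _
  have := hσ (z₀ ≫ m) (z₁ ≫ m) (by
    simp only [Category.assoc, hm₁]
    rw [reassoc_of% h])
  refine (φ_congr _ _ _ _ ?_ ?_ ?_).trans (this.trans (Category.assoc _ _ _))
  · rw [Category.assoc, hm₂]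
  · rw [Category.assoc, hm₂]
  · exact (Category.assoc _ _ _).symm

variable (D)

/-- Sections over base changes, as a presheaf on schemes over the base. -/
noncomputable abbrev homX : AlgSp.PSp S :=
  (Over.pullback p).op ⋙ yoneda.obj D.obj ⋙ uliftFunctor.{u + 1, u}

theorem isSheaf_homX : Presieve.IsSheaf (AlgSp.J S) (homX D) := by
  have h : Presheaf.IsSheaf (AlgSp.J X) (yoneda.obj D.obj ⋙ uliftFunctor.{u + 1, u}) := by
    rw [isSheaf_iff_isSheaf_of_type, Presieve.isSheaf_comp_uliftFunctor_iff]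
    exact GrothendieckTopology.Subcanonical.isSheaf_of_isRepresentable _
  exact (isSheaf_iff_isSheaf_of_type _ _).1
    (((Over.pullback p).sheafPushforwardContinuous (Type (u + 1)) (AlgSp.J S) (AlgSp.J X)).obj ⟨_, h⟩).2

/-- The subfunctor of compatible sections. -/
def sect : Subfunctor (homX D) where
  obj T := {σ | IsCompat D T.unop.hom σ.down}
  map g _ hσ := hσ.map g.unop

theorem isSheaf_sect : Presheaf.IsSheaf (AlgSp.J S) (sect D).toFunctor := by
  rw [isSheaf_iff_isSheaf_of_type, Subfunctor.isSheaf_iff (sect D) (isSheaf_homX D)]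
  rintro ⟨T⟩ ⟨σ⟩ hs Z z₀ z₁ h
  rw [GrothendieckTopology.mem_over_iff] at hs
  refine (((GrothendieckTopology.Subcanonical.isSheaf_of_isRepresentable (J := Scheme.fppfTopology)
    (yoneda.obj D.obj.left)) _
      (Scheme.fppfTopology.pullback_stable (z₀ ≫ pullback.fst T.hom p) hs)).isSeparatedFor).ext fun Y k hk => ?_
  change k ≫ _ = k ≫ _
  rw [Sieve.pullback_apply, Sieve.overEquiv_iff] at hk
  let W : Over S := Over.mk ((k ≫ z₀ ≫ pullback.fst T.hom p) ≫ T.hom)
  let g : W ⟶ T := Over.homMk (k ≫ z₀ ≫ pullback.fst T.hom p) rfl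
  change sect D |>.sieveOfSection (⟨σ⟩ : ULift.{u + 1} _) g at hk
  have hc : IsCompat D W.hom ((Over.pullback p).map g ≫ σ) := hk
  let m : pullback W.hom p ⟶ pullback T.hom p := ((Over.pullback p).map g).left
  have hm₁ : m ≫ pullback.fst T.hom p = pullback.fst W.hom p ≫ g.left := pullback.lift_fst _ _ _
  have hm₂ : m ≫ pullback.snd T.hom p = pullback.snd W.hom p := pullback.lift_snd _ _ _
  have hw : ∀ z : Z ⟶ pullback T.hom p, z ≫ pullback.fst T.hom p = z₀ ≫ pullback.fst T.hom p →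
      ∃ w : Y ⟶ pullback W.hom p, w ≫ pullback.fst W.hom p = 𝟙 Y ∧ w ≫ m = k ≫ z := fun z hz => by
    refine ⟨pullback.lift (𝟙 Y) (k ≫ z ≫ pullback.snd T.hom p) ?_, pullback.lift_fst _ _ _, ?_⟩
    · show 𝟙 Y ≫ (k ≫ z₀ ≫ pullback.fst T.hom p) ≫ T.hom = _
      simp only [Category.id_comp, Category.assoc, ← pullback.condition, ← reassoc_of% hz]
    · apply pullback.hom_ext
      · rw [Category.assoc, hm₁, pullback.lift_fst_assoc, Category.id_comp, Category.assoc, hz]
        rfl
      · rw [Category.assoc, hm₂, pullback.lift_snd, Category.assoc]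
  obtain ⟨w₀, hw₀, hw₀'⟩ := hw z₀ rfl
  obtain ⟨w₁, hw₁, hw₁'⟩ := hw z₁ h.symm
  refine (φ_pre k (snd_comp_eq z₀ z₁ h) (snd_comp_eq w₀ w₁ (hw₀.trans hw₁.symm)) _ ⟨w₀ ≫ m ≫ σ.left, ?_⟩ ?_ ?_ ?_).symm.trans ?_
  · rw [Category.assoc, Category.assoc]
    exact (congrArg (fun e => w₀ ≫ m ≫ e) (Over.w σ)).trans (congrArg (w₀ ≫ ·) hm₂)
  · rw [← Category.assoc, ← hw₀', Category.assoc, hm₂]
  · rw [← Category.assoc, ← hw₁', Category.assoc, hm₂]
  · show w₀ ≫ m ≫ σ.left = k ≫ z₀ ≫ σ.left
    rw [← Category.assoc, hw₀', Category.assoc]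
  · refine ((φ_congr _ _ _ _ rfl rfl rfl).trans (hc w₀ w₁ (hw₀.trans hw₁.symm))).trans ?_
    show w₁ ≫ m ≫ σ.left = k ≫ z₁ ≫ σ.left
    rw [← Category.assoc, hw₁', Category.assoc]

/-- The fppf sheaf of compatible sections. -/
noncomputable def sectSp : AlgSp.Sp S := ⟨(sect D).toFunctor, isSheaf_sect D⟩

variable {D}

/-- Universally submersive morphisms are surjective. -/
theorem surjective_of_univSubmersive {Y T : Scheme.{u}} {g : Y ⟶ T} (hg : SGA1.UnivSubmersive g) : Surjective g :=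
  ⟨(SGA1Q.isQuotientMap_of_isPullback hg (IsPullback.of_id_snd : IsPullback g (𝟙 Y) (𝟙 T) g)).surjective⟩

/-- Surjective universally closed morphisms are universally submersive. -/
theorem univSubmersive_of_universallyClosed {Y T : Scheme.{u}} (g : Y ⟶ T) [UniversallyClosed g] [Surjective g] :
    SGA1.UnivSubmersive g := fun _ _ _ _ g' h => by
  have : UniversallyClosed g' := MorphismProperty.of_isPullback h.flip ‹UniversallyClosed g›
  have : Surjective g' := MorphismProperty.of_isPullback h.flip ‹Surjective g›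
  exact g'.isClosedMap.isQuotientMap g'.continuous g'.surjective

/-- Surjective universally open morphisms are universally submersive. -/
theorem univSubmersive_of_universallyOpen {Y T : Scheme.{u}} (g : Y ⟶ T) [UniversallyOpen g] [Surjective g] :
    SGA1.UnivSubmersive g := fun _ _ _ _ g' h => by
  have : UniversallyOpen g' := MorphismProperty.of_isPullback h.flip ‹UniversallyOpen g›
  have : Surjective g' := MorphismProperty.of_isPullback h.flip ‹Surjective g›
  exact g'.isOpenMap.isQuotientMap g'.continuous g'.surjective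

/-- The agreement locus of two compatible sections is open and closed in the base. -/
theorem exists_agree (hp : SGA1.UnivSubmersive p) [IsSeparated D.obj.hom] [Etale D.obj.hom] {T : Over S}
    (σ σ' : Over.mk (pullback.snd T.hom p) ⟶ D.obj) (hσ : IsCompat D T.hom σ) (hσ' : IsCompat D T.hom σ') :
    ∃ O : T.left.Opens, IsClosed (O : Set T.left) ∧ ∀ {T' : Over S} (g : T' ⟶ T),
      (Over.pullback p).map g ≫ σ = (Over.pullback p).map g ≫ σ' ↔ Set.range g.left ⊆ (O : Set T.left) := by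
  have := surjective_of_univSubmersive hp
  obtain ⟨E, hEc, hE⟩ := exists_eqLocus (Z := pullback T.hom p) D.obj.hom σ.left σ'.left ((Over.w σ).trans (Over.w σ').symm)
  let π := pullback.fst T.hom p
  have hsat : ∀ x x' : ↥(pullback T.hom p), π x = π x' → x ∈ E → x' ∈ E := by
    intro x x' hxx hx
    obtain ⟨w, hw₁, hw₂⟩ := Scheme.Pullback.exists_preimage_pullback (f := π) (g := π) x x' hxx
    let g := (pullback π π).fromSpecResidueField w
    have hg : g default = w := Scheme.fromSpecResidueField_apply _ _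
    have h : (g ≫ pullback.fst π π) ≫ π = (g ≫ pullback.snd π π) ≫ π := by
      simp only [Category.assoc, pullback.condition]
    have h0 : (g ≫ pullback.fst π π) ≫ σ.left = (g ≫ pullback.fst π π) ≫ σ'.left := (hE _).2 (by
      rintro _ ⟨t, rfl⟩
      rw [Subsingleton.elim t default, Scheme.Hom.comp_apply, hg]
      exact Set.mem_of_eq_of_mem (s := (E : Set ↥(pullback T.hom p))) hw₁ hx)
    have h1 : (g ≫ pullback.snd π π) ≫ σ.left = (g ≫ pullback.snd π π) ≫ σ'.left :=
      ((hσ _ _ h).symm.trans (φ_congr _ _ _ _ rfl rfl h0)).trans (hσ' _ _ h)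
    have := (hE _).1 h1 ⟨default, rfl⟩
    rw [Scheme.Hom.comp_apply, hg] at this
    exact Set.mem_of_eq_of_mem (s := (E : Set ↥(pullback T.hom p))) hw₂.symm this
  have hsurj : Function.Surjective π := Surjective.surj
  have hq : Topology.IsQuotientMap π.base :=
    SGA1Q.isQuotientMap_fst hp T.hom
  have hO : π ⁻¹' (π '' (E : Set _)) = (E : Set _) := by
    refine Set.Subset.antisymm ?_ (Set.subset_preimage_image _ _)
    rintro x ⟨a, ha, hax⟩
    exact hsat a x hax ha
  refine ⟨⟨π '' (E : Set _), hq.isOpen_preimage.1 (hO.symm ▸ E.isOpen)⟩,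
    hq.isClosed_preimage.1 (hO.symm ▸ hEc), fun {T'} g => ?_⟩
  let m : pullback T'.hom p ⟶ pullback T.hom p := ((Over.pullback p).map g).left
  have hm₁ : m ≫ π = pullback.fst T'.hom p ≫ g.left := pullback.lift_fst _ _ _
  have hm₁' : ∀ a, π (m a) = g.left (pullback.fst T'.hom p a) := fun a => by
    rw [← Scheme.Hom.comp_apply, hm₁, Scheme.Hom.comp_apply]
  constructor
  · intro he
    rintro _ ⟨t, rfl⟩
    obtain ⟨a, rfl⟩ := (pullback.fst T'.hom p).surjective t
    exact ⟨m a, (hE m).1 (congrArg CommaMorphism.left he) ⟨a, rfl⟩, hm₁' a⟩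
  · intro hr
    refine Over.OverMorphism.ext ((hE m).2 ?_)
    rintro _ ⟨a, rfl⟩
    obtain ⟨e, he, hee⟩ := hr ⟨pullback.fst T'.hom p a, rfl⟩
    exact hsat e _ (hee.trans (hm₁' a).symm) he

end Groth.Agent.EtDescX
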