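import Groth.Agent.EtDescX.Sect
import Groth.Agent.AlgSpBase.JInv
import Groth.Agent.AlgSpDec.Glue
import Groth.Agent.AlgSpDec.QuotRep

/-!
# The etale atlas of the sheaf of sections
-/

universe u

open CategoryTheory CategoryTheory.Limits AlgebraicGeometry Opposite AlgSp Groth.Agent.AlgSpLib Groth.Agent.AlgSpDec Groth.Agent.AlgSpPts

namespace Groth.Agent.EtDescX

set_option autoImplicit false
set_option backward.isDefEq.respectTransparency false
set_option backward.isDefEq.respectTransparency.types false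

variable {X S : Scheme.{u}} {p : X ⟶ S} (D : Desc.SchDD p)

/-- The section attached to a point of the sheaf. -/
noncomputable def val {T : Over S} (a : (yon S).obj T ⟶ sectSp D) : Over.mk (pullback.snd T.hom p) ⟶ D.obj :=
  (((J S).uliftYonedaEquiv a).1 : ULift.{u + 1} ((Over.pullback p).obj T ⟶ D.obj)).down

theorem isCompat_val {T : Over S} (a : (yon S).obj T ⟶ sectSp D) : IsCompat D T.hom (val D a) :=
  ((J S).uliftYonedaEquiv a).2

/-- The point attached to a compatible section. -/
noncomputable def ofVal {T : Over S} (σ : Over.mk (pullback.snd T.hom p) ⟶ D.obj) (h : IsCompat D T.hom σ) :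
    (yon S).obj T ⟶ sectSp D :=
  (J S).uliftYonedaEquiv.symm ⟨ULift.up σ, h⟩

theorem val_ofVal {T : Over S} (σ : Over.mk (pullback.snd T.hom p) ⟶ D.obj) (h : IsCompat D T.hom σ) :
    val D (ofVal D σ h) = σ := by
  rw [val, ofVal, Equiv.apply_symm_apply]

theorem val_injective {T : Over S} {a b : (yon S).obj T ⟶ sectSp D} (h : val D a = val D b) : a = b :=
  (J S).uliftYonedaEquiv.injective (Subtype.ext (ULift.down_injective h))

theorem val_comp {T T' : Over S} (g : T' ⟶ T) (a : (yon S).obj T ⟶ sectSp D) :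
    val D ((yon S).map g ≫ a) = (Over.pullback p).map g ≫ val D a := by
  have h : (sectSp D).obj.map g.op ((J S).uliftYonedaEquiv a) = (J S).uliftYonedaEquiv ((yon S).map g ≫ a) :=
    (J S).uliftYonedaEquiv_naturality a g
  rw [val, ← h]
  rfl

theorem symm_comp {F G : Sp.{u} S} {T : Over S} (x : F.obj.obj (op T)) (f : F ⟶ G) :
    (J S).uliftYonedaEquiv.{u + 1}.symm x ≫ f = (J S).uliftYonedaEquiv.{u + 1}.symm (f.hom.app _ x) := by
  apply (J S).uliftYonedaEquiv.{u + 1}.injective
  rw [Equiv.apply_symm_apply, GrothendieckTopology.uliftYonedaEquiv_comp, Equiv.apply_symm_apply]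

/-- A square over a map of representables is cartesian when it is so on points. -/
theorem isPullback_of_points {P A B C : Sp S} {t : P ⟶ A} {l : P ⟶ B} {r : A ⟶ C} {b : B ⟶ C}
    (w : t ≫ r = l ≫ b)
    (hinj : ∀ (T : Over S) (x y : (yon S).obj T ⟶ P), x ≫ t = y ≫ t → x ≫ l = y ≫ l → x = y)
    (hsurj : ∀ (T : Over S) (x : (yon S).obj T ⟶ A) (y : (yon S).obj T ⟶ B), x ≫ r = y ≫ b →
      ∃ z, z ≫ t = x ∧ z ≫ l = y) : IsPullback t l r b := by
  have key := @symm_comp S
  refine AlgSpBase.isPullback_of_sections w (fun T x y hx hy => ?_) (fun T x y h => ?_)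
  · apply (J S).uliftYonedaEquiv.{u + 1}.symm.injective
    exact hinj T _ _ (by rw [key, key, hx]) (by rw [key, key, hy])
  · obtain ⟨z, hz₁, hz₂⟩ := hsurj T ((J S).uliftYonedaEquiv.{u + 1}.symm x) ((J S).uliftYonedaEquiv.{u + 1}.symm y)
      (by rw [key, key, h])
    refine ⟨(J S).uliftYonedaEquiv.{u + 1} z, ?_, ?_⟩
    · rw [← GrothendieckTopology.uliftYonedaEquiv_comp, hz₁, Equiv.apply_symm_apply]
    · rw [← GrothendieckTopology.uliftYonedaEquiv_comp, hz₂, Equiv.apply_symm_apply]

variable {D}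

section

variable [IsSeparated D.obj.hom] [Etale D.obj.hom] (hp : SGA1.UnivSubmersive p)

include hp

/-- The agreement locus of two points of the sheaf of sections. -/
theorem exists_agree_points {T : Over S} (a b : (yon S).obj T ⟶ sectSp D) :
    ∃ O : T.left.Opens, IsClosed (O : Set T.left) ∧ ∀ {T' : Over S} (g : T' ⟶ T),
      (yon S).map g ≫ a = (yon S).map g ≫ b ↔ Set.range g.left ⊆ (O : Set T.left) := by
  obtain ⟨O, hOc, hO⟩ := exists_agree hp (val D a) (val D b) (isCompat_val D a) (isCompat_val D b)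
  refine ⟨O, hOc, fun g => ?_⟩
  rw [← hO g, ← val_comp, ← val_comp]
  exact ⟨fun h => congrArg (val D) h, fun h => val_injective D h⟩

/-- Fibre products over the sheaf of sections are open in fibre products of schemes. -/
theorem exists_rel {T T' : Over S} (a : (yon S).obj T ⟶ sectSp D) (b : (yon S).obj T' ⟶ sectSp D) :
    ∃ (R : Over S) (t : R ⟶ T) (s : R ⟶ T'), IsPullback ((yon S).map t) ((yon S).map s) a b ∧
      (Etale T'.hom → Etale t.left) ∧ (Etale T.hom → Etale s.left) := by
  let P : Over S := Over.mk (pullback.fst T.hom T'.hom ≫ T.hom)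
  let π₁ : P ⟶ T := Over.homMk (pullback.fst _ _) rfl
  let π₂ : P ⟶ T' := Over.homMk (pullback.snd _ _) pullback.condition.symm
  obtain ⟨O, -, hO⟩ := exists_agree_points hp ((yon S).map π₁ ≫ a) ((yon S).map π₂ ≫ b)
  let R : Over S := Over.mk (O.ι ≫ P.hom)
  let j : R ⟶ P := Over.homMk O.ι rfl
  have hmono : Mono j := (Over.forget S).mono_of_mono_map (inferInstanceAs (Mono O.ι))
  refine ⟨R, j ≫ π₁, j ≫ π₂, isPullback_of_points ?_ ?_ ?_,
    fun h => ?_, fun h => ?_⟩
  · rw [Functor.map_comp, Functor.map_comp, Category.assoc, Category.assoc]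
    exact (hO j).2 (Scheme.Opens.range_ι O).subset
  · intro Z x y hx hy
    obtain ⟨x, rfl⟩ := (yon S).map_surjective x
    obtain ⟨y, rfl⟩ := (yon S).map_surjective y
    simp only [← Functor.map_comp] at hx hy
    have hx' := (yon S).map_injective hx
    have hy' := (yon S).map_injective hy
    rw [show x = y from (cancel_mono j).1 (Over.OverMorphism.ext (pullback.hom_ext
      (congrArg CommaMorphism.left hx') (congrArg CommaMorphism.left hy')))]
  · intro Z x y hxy
    obtain ⟨x, rfl⟩ := (yon S).map_surjective x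
    obtain ⟨y, rfl⟩ := (yon S).map_surjective y
    let k : Z ⟶ P := Over.homMk (pullback.lift x.left y.left ((Over.w x).trans (Over.w y).symm))
      ((Category.assoc _ _ _).symm.trans ((congrArg (· ≫ T.hom) (pullback.lift_fst _ _ _)).trans (Over.w x)))
    have hk₁ : k ≫ π₁ = x := Over.OverMorphism.ext (pullback.lift_fst _ _ _)
    have hk₂ : k ≫ π₂ = y := Over.OverMorphism.ext (pullback.lift_snd _ _ _)
    have hr : Set.range k.left ⊆ Set.range O.ι := by
      rw [Scheme.Opens.range_ι]
      exact (hO k).1 (by rw [← Category.assoc, ← Category.assoc, ← Functor.map_comp, ← Functor.map_comp, hk₁, hk₂, hxy])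
    let l : Z ⟶ R := Over.homMk (IsOpenImmersion.lift O.ι k.left hr) (by
      show IsOpenImmersion.lift O.ι k.left hr ≫ O.ι ≫ P.hom = _
      rw [IsOpenImmersion.lift_fac_assoc]
      exact Over.w k)
    have hl : l ≫ j = k := Over.OverMorphism.ext (IsOpenImmersion.lift_fac _ _ hr)
    exact ⟨(yon S).map l, by rw [← Functor.map_comp, reassoc_of% hl, hk₁],
      by rw [← Functor.map_comp, reassoc_of% hl, hk₂]⟩
  · show Etale (O.ι ≫ pullback.fst T.hom T'.hom)
    infer_instance
  · show Etale (O.ι ≫ pullback.snd T.hom T'.hom)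
    infer_instance

/-- The sheaf of sections has representable diagonal which is a closed immersion over the base. -/
theorem isSeparatedMor_sectSp (f : sectSp D ⟶ (yon S).obj (Over.mk (𝟙 S))) : IsSeparatedMor f := by
  refine MorphismProperty.relative.of_exists fun T g => ?_
  obtain ⟨O, hOc, hO⟩ := exists_agree_points hp (g ≫ pullback.fst f f) (g ≫ pullback.snd f f)
  let R : Over S := Over.mk (O.ι ≫ T.hom)
  let j : R ⟶ T := Over.homMk O.ι rfl
  have hj : Mono j := (Over.forget S).mono_of_mono_map (inferInstanceAs (Mono O.ι))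
  refine ⟨R, (yon S).map j ≫ g ≫ pullback.fst f f, j, isPullback_of_points ?_ ?_ ?_, ?_⟩
  · apply pullback.hom_ext
    · simp only [Category.assoc, pullback.diagonal_fst, Category.comp_id]
    · simp only [Category.assoc, pullback.diagonal_snd, Category.comp_id]
      exact (hO j).2 (Scheme.Opens.range_ι O).subset
  · intro Z x y _ hy
    obtain ⟨x, rfl⟩ := (yon S).map_surjective x
    obtain ⟨y, rfl⟩ := (yon S).map_surjective y
    rw [← Functor.map_comp, ← Functor.map_comp] at hy
    rw [(cancel_mono j).1 ((yon S).map_injective hy)]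
  · intro Z x y hxy
    obtain ⟨y, rfl⟩ := (yon S).map_surjective y
    have h₁ := congrArg (· ≫ pullback.fst f f) hxy
    have h₂ := congrArg (· ≫ pullback.snd f f) hxy
    simp only [Category.assoc, pullback.diagonal_fst, pullback.diagonal_snd, Category.comp_id] at h₁ h₂
    have hr : Set.range y.left ⊆ Set.range O.ι := by
      rw [Scheme.Opens.range_ι]
      exact (hO y).1 (h₁.symm.trans h₂)
    let l : Z ⟶ R := Over.homMk (IsOpenImmersion.lift O.ι y.left hr) (by
      show IsOpenImmersion.lift O.ι y.left hr ≫ O.ι ≫ T.hom = _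
      rw [IsOpenImmersion.lift_fac_assoc]
      exact Over.w y)
    have hl : l ≫ j = y := Over.OverMorphism.ext (IsOpenImmersion.lift_fac _ _ hr)
    exact ⟨(yon S).map l, by rw [← Category.assoc, ← Functor.map_comp, hl, h₁],
      by rw [← Functor.map_comp, hl]⟩
  · show IsClosedImmersion O.ι
    exact .of_isPreimmersion _ (by rw [Scheme.Opens.range_ι]; exact hOc)

end

variable (D)

/-- The scheme over the base cut out by an ideal in a polynomial ring over an affine open. -/
noncomputable abbrev chartHom (W : S.affineOpens) (n : ℕ) (I : Ideal (MvPolynomial (Fin n) Γ(S, W.1))) :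
    Spec (CommRingCat.of (MvPolynomial (Fin n) Γ(S, W.1) ⧸ I)) ⟶ S :=
  Spec.map (CommRingCat.ofHom (algebraMap Γ(S, W.1) (MvPolynomial (Fin n) Γ(S, W.1) ⧸ I))) ≫ W.2.fromSpec

/-- A small set of etale charts with compatible sections. -/
structure Chart : Type u where
  /-- an affine open of the base -/
  W : S.affineOpens
  /-- number of variables -/
  n : ℕ
  /-- the ideal of equations -/
  I : Ideal (MvPolynomial (Fin n) Γ(S, W.1))
  et : Etale (chartHom W n I)
  /-- the section -/
  σ : Over.mk (pullback.snd (chartHom W n I) p) ⟶ D.obj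
  hσ : IsCompat D (chartHom W n I) σ

/-- The chart as a scheme over the base. -/
noncomputable def Chart.over (c : Chart D) : Over S := Over.mk (chartHom c.W c.n c.I)

/-- Affine etale neighbourhoods are isomorphic to standard ones. -/
theorem exists_chart_nhd {V : Scheme.{u}} (v : V ⟶ S) [LocallyOfFiniteType v] (x : V) (O : V.Opens) (hx : x ∈ O) :
    ∃ (W : S.affineOpens) (n : ℕ) (I : Ideal (MvPolynomial (Fin n) Γ(S, W.1)))
      (j : Spec (CommRingCat.of (MvPolynomial (Fin n) Γ(S, W.1) ⧸ I)) ⟶ V),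
      IsOpenImmersion j ∧ j ≫ v = chartHom W n I ∧ x ∈ Set.range j ∧ Set.range j ⊆ (O : Set V) := by
  obtain ⟨_, ⟨W, hW, rfl⟩, hxW, -⟩ :=
    S.isBasis_affineOpens.exists_subset_of_mem_open (Set.mem_univ (v x)) isOpen_univ
  obtain ⟨_, ⟨O', hO', rfl⟩, hxO', hO'le⟩ :=
    V.isBasis_affineOpens.exists_subset_of_mem_open (show x ∈ (O ⊓ v ⁻¹ᵁ W : V.Opens) from ⟨hx, hxW⟩) (O ⊓ v ⁻¹ᵁ W).2
  have hle : O' ≤ v ⁻¹ᵁ W := fun y hy => (hO'le hy).2
  let φ := v.appLE W O' hle
  algebraize [φ.hom]
  have : Algebra.FiniteType Γ(S, W) Γ(V, O') := v.finiteType_appLE hW hO' hle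
  obtain ⟨n, f, hf⟩ := Algebra.FiniteType.iff_quotient_mvPolynomial''.1 this
  let e : (MvPolynomial (Fin n) Γ(S, W) ⧸ RingHom.ker f) ≃ₐ[Γ(S, W)] Γ(V, O') :=
    Ideal.quotientKerAlgEquivOfSurjective hf
  let ι : Γ(V, O') ≅ CommRingCat.of (MvPolynomial (Fin n) Γ(S, W) ⧸ RingHom.ker f) :=
    e.toRingEquiv.symm.toCommRingCatIso
  refine ⟨⟨W, hW⟩, n, RingHom.ker f, Spec.map ι.hom ≫ hO'.fromSpec, inferInstance, ?_, ?_, ?_⟩
  · rw [Category.assoc, ← hW.SpecMap_appLE_fromSpec v hO' hle, ← Spec.map_comp_assoc]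
    congr 2
    ext r
    exact (e.symm.commutes r :)
  · obtain ⟨z, hz⟩ : x ∈ Set.range hO'.fromSpec := by rw [hO'.range_fromSpec]; exact hxO'
    obtain ⟨z', rfl⟩ := (Spec.map ι.hom).surjective z
    exact ⟨z', (Scheme.Hom.comp_apply _ _ _).trans hz⟩
  · rintro _ ⟨z, rfl⟩
    rw [Scheme.Hom.comp_apply]
    exact (hO'le (hO'.range_fromSpec.subset ⟨_, rfl⟩)).1

/-- Every point of the sheaf of sections lies, near every point, on an etale chart of the base. -/
def HasCharts : Prop :=
  ∀ ⦃T : Over S⦄ (c : (yon S).obj T ⟶ sectSp D) (t : T.left), ∃ (V W : Over S) (σ : (yon S).obj V ⟶ sectSp D)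
    (y : W ⟶ T) (z : W ⟶ V) (w : W.left),
      Etale V.hom ∧ y.left w = t ∧ (yon S).map y ≫ c = (yon S).map z ≫ σ

variable [IsSeparated D.obj.hom] [Etale D.obj.hom]

/-- The sheaf of sections is an algebraic space with an etale atlas over the base. -/
theorem exists_atlas (hp : SGA1.UnivSubmersive p) (hch : HasCharts D) :
    ∃ (V : Over S) (a : (yon S).obj V ⟶ sectSp D),
      Etale V.hom ∧ IsAlgSpace (sectSp D) ∧ RepWith @Etale a ∧ RepWith @Surjective a := by
  let V : Over S := sigmaOver fun i : Chart D => i.over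
  obtain ⟨a, ha⟩ := exists_hom_sigma (fun i : Chart D => i.over) fun i => ofVal D i.σ i.hσ
  have hV : Etale V.hom := IsZariskiLocalAtSource.sigmaDesc fun i : Chart D => i.et
  have hlift : ∀ {T : Over S} (c : (yon S).obj T ⟶ sectSp D) (R : Over S) (t : R ⟶ T) (s : R ⟶ V),
      IsPullback ((yon S).map t) ((yon S).map s) c a → Surjective t.left := by
    intro T c R t s sq
    refine ⟨fun x => ?_⟩
    obtain ⟨V₁, W, σ₁, y, z, w, hV₁, hyw, hyz⟩ := hch c x
    obtain ⟨W₁, n, I, j, hj, hjv, hjw, -⟩ := exists_chart_nhd V₁.hom (z.left w) ⊤ trivial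
    have het : Etale (chartHom W₁ n I) := hjv ▸ inferInstanceAs (Etale (j ≫ V₁.hom))
    let jO : Over.mk (chartHom W₁ n I) ⟶ V₁ := Over.homMk j hjv
    let i : Chart D := ⟨W₁, n, I, het, val D ((yon S).map jO ≫ σ₁), isCompat_val D ((yon S).map jO ≫ σ₁)⟩
    have hi : ofVal D i.σ i.hσ = (yon S).map jO ≫ σ₁ := val_injective D (val_ofVal D _ _)
    let N : W.left.Opens := z.left ⁻¹ᵁ j.opensRange
    let W' : Over S := Over.mk (N.ι ≫ W.hom)
    let ι : W' ⟶ W := Over.homMk N.ι rfl
    have hr : Set.range (N.ι ≫ z.left) ⊆ Set.range j := by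
      rintro _ ⟨q, rfl⟩
      exact q.2
    let l : W' ⟶ i.over := Over.homMk (IsOpenImmersion.lift j (N.ι ≫ z.left) hr) (by
      show IsOpenImmersion.lift j (N.ι ≫ z.left) hr ≫ chartHom W₁ n I = N.ι ≫ W.hom
      rw [← hjv, IsOpenImmersion.lift_fac_assoc, Category.assoc, Over.w z])
    have hl : l ≫ jO = ι ≫ z := Over.OverMorphism.ext (IsOpenImmersion.lift_fac _ _ hr)
    have hy' : (yon S).map (ι ≫ y) ≫ c = (yon S).map (l ≫ sigmaι (fun i : Chart D => i.over) i) ≫ a := by
      rw [Functor.map_comp, Functor.map_comp, Category.assoc, Category.assoc, hyz, ha i, hi,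
        ← Functor.map_comp_assoc, ← Functor.map_comp_assoc, hl]
    obtain ⟨r, hr'⟩ := (yon S).map_surjective (sq.lift _ _ hy')
    have hr₁ : r ≫ t = ι ≫ y := (yon S).map_injective (by rw [Functor.map_comp, hr', sq.lift_fst])
    refine ⟨r.left (⟨w, hjw⟩ : (N : Scheme.{u})), ?_⟩
    rw [← Scheme.Hom.comp_apply, ← Over.comp_left, hr₁]
    exact (Scheme.Hom.comp_apply _ _ _).trans hyw
  obtain ⟨R, t, s, sq, het, hes⟩ := exists_rel hp a a
  have : Sheaf.IsLocallySurjective a := ⟨fun {T} x => by
    obtain ⟨R', t', s', sq', het', -⟩ := exists_rel hp ((J S).uliftYonedaEquiv.symm x) a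
    have : Etale t'.left := het' hV
    have : Surjective t'.left := hlift _ R' t' s' sq'
    refine mem_J_of_fppf t' (fppf_of_etale t'.left) _ ⟨(J S).uliftYonedaEquiv ((yon S).map s'), ?_⟩
    rw [← GrothendieckTopology.uliftYonedaEquiv_comp, ← sq'.w, ← GrothendieckTopology.uliftYonedaEquiv_naturality,
      Equiv.apply_symm_apply]⟩
  have : Etale s.left := hes hV
  have : Surjective s.left := hlift a R s t sq.flip
  have hr : Representable a := representable_of_kernelPair sq
  have := isLocalAtTarget_fppf (@Etale : MorphismProperty Scheme.{u})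
  have := isLocalAtTarget_fppf (@Surjective : MorphismProperty Scheme.{u})
  exact ⟨V, a, hV, isAlgSpace_of_etale_kernelPair sq,
    repWith_of_locallySurjective hr _ sq @Etale ((repWith_yon_map_iff _ _).2 ‹_›),
    repWith_of_locallySurjective hr _ sq @Surjective ((repWith_yon_map_iff _ _).2 ‹_›)⟩

end Groth.Agent.EtDescX
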