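import Groth.Agent.EtDescX.Effective
import Groth.Agent.EtDescX.Local

/-!
# Effectivity over a base change, in terms of one invariant morphism
-/

universe u

open CategoryTheory CategoryTheory.Limits AlgebraicGeometry

namespace Groth.Agent.EtDescX

set_option autoImplicit false
set_option backward.isDefEq.respectTransparency false
set_option backward.isDefEq.respectTransparency.types false

variable {A S V V' : Scheme.{u}} (f : A ⟶ S) {ν : V ⟶ S} {ν' : V' ⟶ S} (π : V' ⟶ V) (hπ : π ≫ ν = ν')

/-- The map between base changes. -/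
noncomputable def resMap : pullback f ν' ⟶ pullback f ν :=
  pullback.lift (pullback.fst f ν') (pullback.snd f ν' ≫ π) (by rw [Category.assoc, hπ, pullback.condition])

theorem resMap_fst : resMap f π hπ ≫ pullback.fst f ν = pullback.fst f ν' := pullback.lift_fst _ _ _

theorem resMap_snd : resMap f π hπ ≫ pullback.snd f ν = pullback.snd f ν' ≫ π := pullback.lift_snd _ _ _

theorem isPullback_resMap : IsPullback (resMap f π hπ) (pullback.snd f ν') (pullback.snd f ν) π := by
  refine IsPullback.of_right ?_ (resMap_snd f π hπ) (IsPullback.of_hasPullback f ν)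
  rw [resMap_fst, hπ]
  exact IsPullback.of_hasPullback f ν'

variable {X : Scheme.{u}} {g : X ⟶ S}

section

variable (ν) (D : Desc.SchDD g)

/-- The projection of the total space to the base of the datum. -/
noncomputable def totX : pullback (D.obj.hom ≫ g) ν ⟶ pullback g ν :=
  pullback.map (D.obj.hom ≫ g) ν g ν D.obj.hom (𝟙 V) (𝟙 S) (Category.comp_id _) (by simp)

theorem totX_fst : totX ν D ≫ pullback.fst g ν = pullback.fst (D.obj.hom ≫ g) ν ≫ D.obj.hom := pullback.lift_fst _ _ _

theorem totX_snd : totX ν D ≫ pullback.snd g ν = pullback.snd (D.obj.hom ≫ g) ν :=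
  (pullback.lift_snd _ _ _).trans (Category.comp_id _)

/-- The structure map of the scheme of pairs of points related by the datum. -/
noncomputable abbrev pairHom : pullback (D.obj.hom ≫ g) g ⟶ S := pullback.fst (D.obj.hom ≫ g) g ≫ D.obj.hom ≫ g

/-- The first member of a related pair. -/
noncomputable def pairFst : pullback (pairHom D) ν ⟶ pullback (D.obj.hom ≫ g) ν :=
  pullback.lift (pullback.fst _ _ ≫ pullback.fst (D.obj.hom ≫ g) g) (pullback.snd _ _)
    (by rw [Category.assoc, pullback.condition])

/-- The second member of a related pair. -/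
noncomputable def pairSnd : pullback (pairHom D) ν ⟶ pullback (D.obj.hom ≫ g) ν :=
  pullback.lift (pullback.fst _ _ ≫ (tauPt D).left) (pullback.snd _ _) (by
    have h : (tauPt D).left ≫ D.obj.hom ≫ g = pairHom D := by
      rw [← Category.assoc]
      exact (congrArg (· ≫ g) (Over.w (tauPt D))).trans pullback.condition.symm
    rw [Category.assoc, h, pullback.condition])

/-- A morphism from the total space inducing the datum over the base change. -/
structure IsSplit (U : Over V) (w : pullback (D.obj.hom ≫ g) ν ⟶ U.left) : Prop where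
  w_hom : w ≫ U.hom = pullback.snd _ _
  invariant : pairFst ν D ≫ w = pairSnd ν D ≫ w
  iso : IsIso (pullback.lift (totX ν D) w (by rw [totX_snd, w_hom]) :
    pullback (D.obj.hom ≫ g) ν ⟶ pullback (pullback.snd g ν) U.hom)

/-- Effectivity over a base change. -/
def Eff : Prop :=
  ∃ U : Over V, Etale U.hom ∧ Nonempty ((Desc.toDD (pullback.snd g ν)).obj U ≅ baseDD ν D)

theorem baseEq : (pullback.fst D.obj.hom (pullback.fst g ν) ≫ D.obj.hom) ≫ g =
    (pullback.snd D.obj.hom (pullback.fst g ν) ≫ pullback.snd g ν) ≫ ν := by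
  rw [pullback.condition, Category.assoc, Category.assoc, pullback.condition]

/-- The object of the base changed datum is the total space. -/
noncomputable def baseTot : pullback D.obj.hom (pullback.fst g ν) ≅ pullback (D.obj.hom ≫ g) ν where
  hom := pullback.lift (pullback.fst _ _) (pullback.snd _ _ ≫ pullback.snd g ν)
    (by rw [← Category.assoc, baseEq])
  inv := pullback.lift (pullback.fst _ _) (totX ν D) (totX_fst ν D).symm
  hom_inv_id := by
    apply pullback.hom_ext
    · rw [Category.assoc, pullback.lift_fst, pullback.lift_fst, Category.id_comp]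
    · rw [Category.assoc, pullback.lift_snd, Category.id_comp]
      apply pullback.hom_ext
      · rw [Category.assoc, totX_fst, pullback.lift_fst_assoc, pullback.condition]
      · rw [Category.assoc, totX_snd, pullback.lift_snd]
  inv_hom_id := by
    apply pullback.hom_ext
    · rw [Category.assoc, pullback.lift_fst, pullback.lift_fst, Category.id_comp]
    · rw [Category.assoc, pullback.lift_snd, pullback.lift_snd_assoc, totX_snd, Category.id_comp]

end

variable {D : Desc.SchDD g}

set_option maxHeartbeats 800000 in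
/-- A split gives effectivity over the base change. -/
theorem IsSplit.nonempty_iso {U : Over V} {w : pullback (D.obj.hom ≫ g) ν ⟶ U.left} (h : IsSplit ν D U w) :
    Nonempty ((Desc.toDD (pullback.snd g ν)).obj U ≅ baseDD ν D) := by
  let l : pullback (D.obj.hom ≫ g) ν ⟶ pullback (pullback.snd g ν) U.hom :=
    pullback.lift (totX ν D) w (by rw [totX_snd, h.w_hom])
  have : IsIso l := h.iso
  let H : pullback D.obj.hom (pullback.fst g ν) ⟶ pullback (pullback.snd g ν) U.hom := (baseTot ν D).hom ≫ l
  have hH₁ : H ≫ pullback.fst _ _ = pullback.snd _ _ := by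
    simp only [H, l, Category.assoc, pullback.lift_fst]
    exact (congrArg ((baseTot ν D).hom ≫ ·) (pullback.lift_snd _ _ _).symm).trans
      ((Category.assoc _ _ _).symm.trans ((congrArg (· ≫ pullback.snd _ _) (baseTot ν D).hom_inv_id).trans (Category.id_comp _)))
  have hH₂ : H ≫ pullback.snd _ _ = (baseTot ν D).hom ≫ w := by
    simp only [H, l, Category.assoc, pullback.lift_snd]
  let hom₀ : (baseDD ν D).obj ⟶ ((Desc.toDD (pullback.snd g ν)).obj U).obj := Over.homMk H hH₁
  have hcomm : ∀ ⦃T : Scheme.{u}⦄ (x₀ x₁ : T ⟶ pullback g ν) (hx : x₀ ≫ pullback.snd g ν = x₁ ≫ pullback.snd g ν)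
      (v : Desc.Lifts (baseDD ν D).obj x₀) (v' : Desc.Lifts ((Desc.toDD (pullback.snd g ν)).obj U).obj x₀),
      v'.1 = v.1 ≫ H → (((Desc.toDD (pullback.snd g ν)).obj U).φ x₀ x₁ hx v').1 = ((baseDD ν D).φ x₀ x₁ hx v).1 ≫ H := by
    intro T x₀ x₁ hx v v' hv
    have hv₂ : v.1 ≫ pullback.snd D.obj.hom (pullback.fst g ν) = x₀ := v.2
    let φv := (baseDD ν D).φ x₀ x₁ hx v
    have hφ₂ : φv.1 ≫ pullback.snd D.obj.hom (pullback.fst g ν) = x₁ := φv.2
    apply pullback.hom_ext
    · refine (pullback.lift_fst _ _ _).trans ?_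
      rw [Category.assoc, hH₁]
      exact hφ₂.symm
    · refine (pullback.lift_snd _ _ _).trans ?_
      rw [hv, Category.assoc, hH₂, Category.assoc, hH₂]
      have hx' : x₀ ≫ pullback.fst g ν ≫ g = x₁ ≫ pullback.fst g ν ≫ g := by
        rw [pullback.condition, reassoc_of% hx]
      let r₀ : T ⟶ pullback (D.obj.hom ≫ g) g :=
        pullback.lift (v.1 ≫ pullback.fst _ _) (x₁ ≫ pullback.fst g ν) (by
          simp only [Category.assoc, pullback.condition_assoc]
          rw [reassoc_of% hv₂, hx'])
      let r : T ⟶ pullback (pairHom D) ν := pullback.lift r₀ (x₀ ≫ pullback.snd g ν) (by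
          simp only [r₀, pairHom, pullback.lift_fst_assoc, Category.assoc, ← pullback.condition (f := g) (g := ν)]
          rw [pullback.condition_assoc, reassoc_of% hv₂])
      have e₀ : r ≫ pairFst ν D = v.1 ≫ (baseTot ν D).hom := by
        apply pullback.hom_ext
        · simp only [r, r₀, pairFst, baseTot, Category.assoc, pullback.lift_fst, pullback.lift_fst_assoc]
        · simp only [r, pairFst, baseTot, Category.assoc, pullback.lift_snd]
          rw [reassoc_of% hv₂]
      have e₁ : r ≫ pairSnd ν D = φv.1 ≫ (baseTot ν D).hom := by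
        apply pullback.hom_ext
        · simp only [r, pairSnd, baseTot, Category.assoc, pullback.lift_fst, pullback.lift_fst_assoc]
          refine Eq.trans ?_ (pullback.lift_fst _ _ _).symm
          refine (φ_pre r₀ (tauEq D) (refEq (pullback.fst g ν) pullback.condition
            (partEq rfl hx)) _ (pushLift (pullback.fst g ν) v) ?_ ?_ ?_).symm
          · simp only [r₀, pullback.lift_fst_assoc, Category.assoc]
            rw [pullback.condition, reassoc_of% hv₂]
          · exact pullback.lift_snd _ _ _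
          · exact (pullback.lift_fst _ _ _).symm
        · simp only [r, pairSnd, baseTot, Category.assoc, pullback.lift_snd]
          rw [reassoc_of% hφ₂, hx]
      rw [← Category.assoc, ← e₀, Category.assoc, h.invariant, ← Category.assoc, e₁, Category.assoc]
  have : IsIso H := inferInstanceAs (IsIso ((baseTot ν D).hom ≫ l))
  let hi : ((Desc.toDD (pullback.snd g ν)).obj U).obj ⟶ (baseDD ν D).obj :=
    Over.homMk (inv H) ((IsIso.inv_comp_eq H).2 hH₁.symm)
  refine ⟨⟨⟨hi, fun T x₀ x₁ hx v v' hv => ?_⟩, ⟨hom₀, hcomm⟩, Desc.SchDD.hom_ext ?_, Desc.SchDD.hom_ext ?_⟩⟩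
  · have := hcomm x₀ x₁ hx v' v (by
      rw [hv]
      show v.1 = (v.1 ≫ inv H) ≫ H
      rw [Category.assoc, IsIso.inv_hom_id]
      exact (Category.comp_id _).symm)
    rw [this]
    show _ = (((baseDD ν D).φ x₀ x₁ hx v').1 ≫ H) ≫ inv H
    rw [Category.assoc, IsIso.hom_inv_id]
    exact (Category.comp_id _).symm
  · exact Over.OverMorphism.ext (IsIso.inv_hom_id H)
  · exact Over.OverMorphism.ext (IsIso.hom_inv_id H)

set_option maxHeartbeats 800000 in
/-- Effectivity over the base change gives a split. -/
theorem isSplit_ofIso {U : Over V} (i : (Desc.toDD (pullback.snd g ν)).obj U ≅ baseDD ν D) :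
    IsSplit ν D U ((baseTot ν D).inv ≫ i.inv.hom.left ≫ pullback.snd _ _) := by
  let iv : pullback D.obj.hom (pullback.fst g ν) ⟶ pullback (pullback.snd g ν) U.hom := i.inv.hom.left
  have hiv : iv ≫ pullback.fst _ _ = pullback.snd D.obj.hom (pullback.fst g ν) := Over.w i.inv.hom
  have : IsIso iv := ⟨i.hom.hom.left, congrArg (fun k : baseDD ν D ⟶ baseDD ν D => k.hom.left) i.inv_hom_id,
    congrArg (fun k : (Desc.toDD (pullback.snd g ν)).obj U ⟶ (Desc.toDD (pullback.snd g ν)).obj U => k.hom.left) i.hom_inv_id⟩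
  let w := (baseTot ν D).inv ≫ iv ≫ pullback.snd _ _
  have hb : (baseTot ν D).inv ≫ pullback.snd D.obj.hom (pullback.fst g ν) = totX ν D := pullback.lift_snd _ _ _
  have hw : w ≫ U.hom = pullback.snd _ _ := by
    simp only [w, Category.assoc, ← pullback.condition]
    rw [reassoc_of% hiv, reassoc_of% hb, totX_snd]
  refine ⟨hw, ?_, ?_⟩
  · let x₀ := pairFst ν D ≫ totX ν D
    let x₁ := pairSnd ν D ≫ totX ν D
    have hx : x₀ ≫ pullback.snd g ν = x₁ ≫ pullback.snd g ν := by
      simp only [x₀, x₁, Category.assoc, totX_snd, pairFst, pairSnd, pullback.lift_snd]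
    let v : Desc.Lifts (baseDD ν D).obj x₀ :=
      ⟨pairFst ν D ≫ (baseTot ν D).inv, (Category.assoc _ _ _).trans (congrArg (pairFst ν D ≫ ·) hb)⟩
    have hφ : ((baseDD ν D).φ x₀ x₁ hx v).1 = pairSnd ν D ≫ (baseTot ν D).inv := by
      apply pullback.hom_ext
      · refine (pullback.lift_fst _ _ _).trans ?_
        refine Eq.trans ?_ ((Category.assoc _ _ _).trans ((congrArg (pairSnd ν D ≫ ·) (pullback.lift_fst _ _ _)).trans
          (pullback.lift_fst _ _ _))).symm
        refine φ_pre (pullback.fst (pairHom D) ν) (tauEq D) _ ⟨pullback.fst (D.obj.hom ≫ g) g, rfl⟩ _ ?_ ?_ ?_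
        · simp only [x₀, Category.assoc, totX_fst, pairFst, pullback.lift_fst_assoc]
        · simp only [x₁, Category.assoc, totX_fst, pairSnd, pullback.lift_fst_assoc]
          exact congrArg (pullback.fst _ _ ≫ ·) (Over.w (tauPt D)).symm
        · show (pairFst ν D ≫ (baseTot ν D).inv) ≫ _ = _
          simp only [Category.assoc, baseTot, pullback.lift_fst, pairFst]
      · refine (pullback.lift_snd _ _ _).trans ?_
        rw [Category.assoc, hb]
    have hc := congrArg (· ≫ pullback.snd _ _) (i.inv.comm x₀ x₁ hx v (Desc.SchDD.Hom.push i.inv v) rfl)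
    change pullback.lift _ _ _ ≫ pullback.snd _ _ = _ at hc
    rw [pullback.lift_snd, hφ] at hc
    change ((pairFst ν D ≫ (baseTot ν D).inv) ≫ iv) ≫ _ = ((pairSnd ν D ≫ (baseTot ν D).inv) ≫ iv) ≫ _ at hc
    simpa only [w, Category.assoc] using hc
  · have e : (pullback.lift (totX ν D) w (by rw [totX_snd, hw]) :
        pullback (D.obj.hom ≫ g) ν ⟶ pullback (pullback.snd g ν) U.hom) = (baseTot ν D).inv ≫ iv := by
      apply pullback.hom_ext
      · rw [pullback.lift_fst, Category.assoc, hiv, hb]
      · rw [pullback.lift_snd, Category.assoc]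
    rw [e]
    infer_instance

theorem exists_isSplit {U : Over V} (i : (Desc.toDD (pullback.snd g ν)).obj U ≅ baseDD ν D) :
    ∃ w : pullback (D.obj.hom ≫ g) ν ⟶ U.left, IsSplit ν D U w :=
  ⟨_, isSplit_ofIso i⟩

theorem eff_iff_exists_isSplit :
    Eff ν D ↔ ∃ (U : Over V) (w : _), Etale U.hom ∧ IsSplit ν D U w :=
  ⟨fun ⟨U, hU, ⟨i⟩⟩ => let ⟨w, hw⟩ := exists_isSplit i; ⟨U, w, hU, hw⟩,
    fun ⟨U, _, hU, hw⟩ => ⟨U, hU, hw.nonempty_iso⟩⟩

theorem resMap_pairFst :
    resMap (pairHom D) π hπ ≫ pairFst ν D = pairFst ν' D ≫ resMap (D.obj.hom ≫ g) π hπ := by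
  apply pullback.hom_ext <;> simp [pairFst, resMap]

theorem resMap_pairSnd :
    resMap (pairHom D) π hπ ≫ pairSnd ν D = pairSnd ν' D ≫ resMap (D.obj.hom ≫ g) π hπ := by
  apply pullback.hom_ext <;> simp [pairSnd, resMap]

theorem resMap_totX : resMap (D.obj.hom ≫ g) π hπ ≫ totX ν D = totX ν' D ≫ resMap g π hπ := by
  apply pullback.hom_ext <;> simp [totX, resMap]

section

variable {U : Over V} {U' : Over V'} {q : U'.left ⟶ U.left} (sq : IsPullback q U'.hom U.hom π)

/-- The induced map of canonical data. -/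
noncomputable def canRes : pullback (pullback.snd g ν') U'.hom ⟶ pullback (pullback.snd g ν) U.hom :=
  pullback.lift (pullback.fst _ _ ≫ resMap g π hπ) (pullback.snd _ _ ≫ q) (by
    rw [Category.assoc, Category.assoc, resMap_snd, sq.w, pullback.condition_assoc])

theorem isPullback_canRes :
    IsPullback (canRes π hπ sq) (pullback.fst (pullback.snd g ν') U'.hom) (pullback.fst (pullback.snd g ν) U.hom)
      (resMap g π hπ) := by
  refine IsPullback.of_right ?_ (pullback.lift_fst _ _ _) (IsPullback.of_hasPullback (pullback.snd g ν) U.hom).flip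
  rw [canRes, pullback.lift_snd, resMap_snd]
  exact (IsPullback.of_hasPullback (pullback.snd g ν') U'.hom).flip.paste_horiz sq

theorem isPullback_canRes_base :
    IsPullback (canRes π hπ sq) (pullback.fst (pullback.snd g ν') U'.hom ≫ pullback.snd g ν')
      (pullback.fst (pullback.snd g ν) U.hom ≫ pullback.snd g ν) π :=
  (isPullback_canRes π hπ sq).paste_vert (isPullback_resMap g π hπ)

variable {w : pullback (D.obj.hom ≫ g) ν ⟶ U.left} {w' : pullback (D.obj.hom ≫ g) ν' ⟶ U'.left}

theorem isPullback_lift (hw : w ≫ U.hom = pullback.snd _ _) (hw' : w' ≫ U'.hom = pullback.snd _ _)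
    (e : resMap (D.obj.hom ≫ g) π hπ ≫ w = w' ≫ q) :
    IsPullback (resMap (D.obj.hom ≫ g) π hπ) (pullback.lift (totX ν' D) w' (by rw [totX_snd, hw']))
      (pullback.lift (totX ν D) w (by rw [totX_snd, hw])) (canRes π hπ sq) := by
  refine IsPullback.of_bot ?_ ?_ (isPullback_canRes_base π hπ sq)
  · rw [pullback.lift_fst_assoc, totX_snd, pullback.lift_fst_assoc, totX_snd]
    exact isPullback_resMap _ π hπ
  · apply pullback.hom_ext
    · simp only [canRes, Category.assoc, pullback.lift_fst, pullback.lift_fst_assoc, resMap_totX]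
    · simp only [canRes, Category.assoc, pullback.lift_snd, pullback.lift_snd_assoc, e]

include sq in
/-- Splits are stable under base change. -/
theorem IsSplit.restrict (h : IsSplit ν D U w) (hw' : w' ≫ U'.hom = pullback.snd _ _)
    (e : resMap (D.obj.hom ≫ g) π hπ ≫ w = w' ≫ q) : IsSplit ν' D U' w' := by
  refine ⟨hw', sq.hom_ext ?_ ?_, ?_⟩
  · rw [Category.assoc, Category.assoc, ← e, ← reassoc_of% (resMap_pairFst π hπ (D := D)),
      ← reassoc_of% (resMap_pairSnd π hπ (D := D)), h.invariant]
  · simp only [Category.assoc, hw', pairFst, pairSnd, pullback.lift_snd]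
  · exact MorphismProperty.of_isPullback (P := MorphismProperty.isomorphisms Scheme.{u})
      (isPullback_lift π hπ sq h.w_hom hw' e) h.iso

end

include hπ in
/-- Effectivity is stable under base change. -/
theorem Eff.restrict (h : Eff ν D) : Eff ν' D := by
  obtain ⟨U, w, hU, hw⟩ := eff_iff_exists_isSplit.1 h
  let w' : pullback (D.obj.hom ≫ g) ν' ⟶ pullback U.hom π :=
    pullback.lift (resMap (D.obj.hom ≫ g) π hπ ≫ w) (pullback.snd _ _)
      (by rw [Category.assoc, hw.w_hom, resMap_snd])
  refine eff_iff_exists_isSplit.2 ⟨Over.mk (pullback.snd U.hom π), w', inferInstanceAs (Etale (pullback.snd U.hom π)),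
    hw.restrict π hπ (IsPullback.of_hasPullback U.hom π) (pullback.lift_snd _ _ _) (pullback.lift_fst _ _ _).symm⟩

end Groth.Agent.EtDescX
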