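import Groth.Agent.Jacobson.FppfDescent
import Groth.Agent.DescLib.SubtrVal
import Mathlib.FieldTheory.IsAlgClosed.Basic
import Mathlib.AlgebraicGeometry.Morphisms.FiniteType
import Mathlib.RingTheory.Valuation.ValuationSubring

/-!
# Points in valuation rings of algebraically closed fields lift along subtrusive morphisms
-/

universe u

set_option autoImplicit false

open CategoryTheory CategoryTheory.Limits AlgebraicGeometry IsLocalRing

namespace Groth.Agent.EtDescX

/-- A finite type domain over a valuation ring of an algebraically closed field with a prime over the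
closed point has a point with values in the valuation ring. -/
theorem exists_algHom_of_prime {K : Type u} [Field K] [IsAlgClosed K] (V : ValuationSubring K)
    (R : Type u) [CommRing R] [IsDomain R] [Algebra V R] [FaithfulSMul V R] [Algebra.FiniteType V R]
    (hne : (maximalIdeal V).map (algebraMap V R) ≠ ⊤) : Nonempty (R →ₐ[V] V) := by
  obtain ⟨L, _, _, ρ, hinj, halg, c, hc, hker, hmc⟩ := Jacobson.exists_algebraic_prime V R hne
  -- embed `L` over `K`
  let : Algebra K L := (IsFractionRing.lift (A := V) (K := K) hinj).toAlgebra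
  have : IsScalarTower V K L :=
    IsScalarTower.of_algebraMap_eq fun v => (IsFractionRing.lift_algebraMap hinj v).symm
  have hK : ∀ x : R, ∃ k : K, algebraMap K L k = ρ x := fun x => by
    have : IsAlgebraic K (ρ x) := (halg x).extendScalars (R := V) (S := K) Subtype.val_injective
    have hint : IsIntegral K (ρ x) := isAlgebraic_iff_isIntegral.1 this
    have hd : (minpoly K (ρ x)).degree = 1 :=
      IsAlgClosed.degree_eq_one_of_irreducible K (minpoly.irreducible hint)
    exact minpoly.mem_range_of_degree_eq_one K _ hd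
  have hV : ∀ (x : R) (k : K), algebraMap K L k = ρ x → k ∈ V := by
    intro x k hk
    by_contra hkV
    have hk0 : k ≠ 0 := fun h => hkV (h ▸ V.zero_mem)
    have hk' : k⁻¹ ∈ V := (V.mem_or_inv_mem k).resolve_left hkV
    let v : V := ⟨k⁻¹, hk'⟩
    have hvm : v ∈ maximalIdeal V := by
      rw [mem_maximalIdeal]
      intro hu
      obtain ⟨w, hw⟩ := hu.exists_left_inv
      refine hkV ?_
      have : (w : K) * k⁻¹ = 1 := congrArg Subtype.val hw
      rw [mul_inv_eq_one₀ hk0] at this
      exact this ▸ w.2
    have h1 : x * algebraMap V R v - 1 ∈ RingHom.ker ρ := by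
      have e1 : algebraMap V L v = algebraMap K L k⁻¹ := IsScalarTower.algebraMap_apply V K L v
      rw [RingHom.mem_ker, map_sub, map_mul, map_one, AlgHom.commutes, e1, ← hk, ← map_mul,
        mul_inv_cancel₀ hk0, map_one, sub_self]
    have h2 : x * algebraMap V R v ∈ c := c.mul_mem_left x (hmc (Ideal.mem_map_of_mem _ hvm))
    refine hc.ne_top ((Ideal.eq_top_iff_one c).2 ?_)
    simpa using c.sub_mem h2 (hker h1)
  choose k hk using hK
  have hi : Function.Injective (algebraMap K L) := (algebraMap K L).injective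
  refine ⟨{ toFun := fun x => ⟨k x, hV x _ (hk x)⟩
            map_one' := Subtype.ext (hi ?_)
            map_mul' := fun x y => Subtype.ext (hi ?_)
            map_zero' := Subtype.ext (hi ?_)
            map_add' := fun x y => Subtype.ext (hi ?_)
            commutes' := fun v => Subtype.ext (hi ?_) }⟩
  · show algebraMap K L (k 1) = algebraMap K L 1
    rw [hk, map_one, map_one]
  · show algebraMap K L (k (x * y)) = algebraMap K L (k x * k y)
    rw [hk, map_mul, map_mul, hk, hk]
  · show algebraMap K L (k 0) = algebraMap K L 0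
    rw [hk, map_zero, map_zero]
  · show algebraMap K L (k (x + y)) = algebraMap K L (k x + k y)
    rw [hk, map_add, map_add, hk, hk]
  · show algebraMap K L (k (algebraMap V R v)) = algebraMap K L v
    rw [hk, AlgHom.commutes]
    exact IsScalarTower.algebraMap_apply V K L v

/-- Points in valuation rings of algebraically closed fields lift along universally S-subtrusive
morphisms locally of finite type. -/
theorem exists_lift_valuationSubring {X Y : Scheme.{u}} (f : X ⟶ Y) [LocallyOfFiniteType f]
    (hf : Subtr.UnivSSubtrusive f) {K : Type u} [Field K] [IsAlgClosed K] (V : ValuationSubring K)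
    (g : Spec (CommRingCat.of V) ⟶ Y) : ∃ a : Spec (CommRingCat.of V) ⟶ X, a ≫ f = g := by
  let fV := pullback.snd f g
  have hfV : Subtr.UnivSSubtrusive fV :=
    fun _ _ a b f' sq => hf _ _ _ (sq.paste_vert (IsPullback.of_hasPullback f g).flip)
  obtain ⟨x, x', hx, hxc, hxe⟩ := ((DescLib.tfae_over_valuationRing fV).out 0 3 rfl rfl).1 hfV
  obtain ⟨U, hU, hxU, -⟩ := exists_isAffineOpen_mem_and_subset (x := x) (U := ⊤) trivial
  obtain ⟨χ, hχ⟩ := Spec.map_surjective (hU.fromSpec ≫ fV)
  let := χ.hom.toAlgebra
  have hft : Algebra.FiniteType V Γ(pullback f g, U) := by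
    have : LocallyOfFiniteType (Spec.map χ) := by rw [hχ]; infer_instance
    exact (HasRingHomProperty.Spec_iff (P := @LocallyOfFiniteType)).1 this
  obtain ⟨q, hq⟩ : x ∈ Set.range hU.fromSpec := by rw [hU.range_fromSpec]; exact hxU
  obtain ⟨q', hq'⟩ : x' ∈ Set.range hU.fromSpec := by
    rw [hU.range_fromSpec]; exact hx.mem_open U.2 hxU
  have hqq : q' ⤳ q := hU.fromSpec.isOpenEmbedding.isInducing.specializes_iff.1 (by rwa [hq, hq'])
  have hqc : (Spec.map χ) q = closedPoint V := by rw [hχ, Scheme.Hom.comp_apply, hq, hxc]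
  have hqe : (Spec.map χ) q' = (⟨⊥, Ideal.isPrime_bot⟩ : PrimeSpectrum V) := by
    rw [hχ, Scheme.Hom.comp_apply, hq', hxe]
  let p : Ideal Γ(pullback f g, U) := (q : PrimeSpectrum Γ(pullback f g, U)).asIdeal
  let p' : Ideal Γ(pullback f g, U) := (q' : PrimeSpectrum Γ(pullback f g, U)).asIdeal
  have hle : p' ≤ p := (PrimeSpectrum.le_iff_specializes _ _).2 hqq
  have hp0 : p'.comap χ.hom = ⊥ := congrArg PrimeSpectrum.asIdeal hqe
  have hpm : p.comap χ.hom = maximalIdeal V := congrArg PrimeSpectrum.asIdeal hqc
  have : p'.IsPrime := PrimeSpectrum.isPrime _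
  have : FaithfulSMul V (Γ(pullback f g, U) ⧸ p') := by
    rw [faithfulSMul_iff_algebraMap_injective, injective_iff_map_eq_zero]
    intro v hv
    have : v ∈ p'.comap χ.hom := (Ideal.Quotient.eq_zero_iff_mem (I := p')).1 hv
    rwa [hp0] at this
  have hne : (maximalIdeal V).map (algebraMap V (Γ(pullback f g, U) ⧸ p')) ≠ ⊤ := by
    refine ne_top_of_le_ne_top (b := p.map (Ideal.Quotient.mk p')) ?_
      (Ideal.map_le_iff_le_comap.2 fun v hv => ?_)
    · intro htop
      have := congrArg (Ideal.comap (Ideal.Quotient.mk p')) htop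
      rw [Ideal.comap_map_of_surjective _ Ideal.Quotient.mk_surjective, Ideal.comap_top,
        ← RingHom.ker_eq_comap_bot, Ideal.mk_ker, sup_eq_left.2 hle] at this
      exact (PrimeSpectrum.isPrime (q : PrimeSpectrum Γ(pullback f g, U))).ne_top this
    · refine Ideal.mem_map_of_mem _ ?_
      rw [← hpm] at hv
      exact hv
  obtain ⟨σ⟩ := exists_algHom_of_prime V (Γ(pullback f g, U) ⧸ p') hne
  let σ' : Γ(pullback f g, U) ⟶ CommRingCat.of V :=
    CommRingCat.ofHom (σ.toRingHom.comp (Ideal.Quotient.mk p'))
  have hσ : χ ≫ σ' = 𝟙 _ := CommRingCat.hom_ext (RingHom.ext fun v => σ.commutes v)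
  refine ⟨Spec.map σ' ≫ hU.fromSpec ≫ pullback.fst f g, ?_⟩
  rw [Category.assoc, Category.assoc, pullback.condition]
  refine Eq.trans (congrArg (Spec.map σ' ≫ ·) (Category.assoc _ _ _).symm) ?_
  show Spec.map σ' ≫ ((hU.fromSpec ≫ fV) ≫ g) = g
  rw [← hχ, ← Category.assoc, ← Spec.map_comp, hσ, Spec.map_id, Category.id_comp]

end Groth.Agent.EtDescX
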