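import Groth.Agent.EtDescX.DDStage
import Groth.Agent.EtDescX.SubtrLimit
import Groth.Agent.EtDescX.FpLimit
import Groth.Agent.EtDescX.RefineComp
import Groth.Agent.EtDescX.Zariski
import Groth.Agent.EtDescX.Complete
import Groth.Agent.HTopPh.Square

/-!
# Effective descent of etale schemes along quasi-compact subtrusive morphisms
-/

universe u

set_option autoImplicit false
set_option linter.style.haveILetI false
set_option backward.isDefEq.respectTransparency false
set_option backward.isDefEq.respectTransparency.types false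

open CategoryTheory CategoryTheory.Limits AlgebraicGeometry Opposite AlgSp Groth.Agent.AlgSpLib

namespace Groth.Agent.EtDescX

variable {X S : Scheme.{u}}

/-- An effective datum has etale charts. -/
theorem hasCharts_of_iso {g : X ⟶ S} (hg : SGA1.UnivSubmersive g) {D : Desc.SchDD g} (U : Over S) [Etale U.hom]
    (i : (Desc.toDD g).obj U ≅ D) : HasCharts D := by
  intro T c t
  obtain ⟨w, sq, hinv⟩ := exists_invariant_of_iso D i
  obtain ⟨i'⟩ := (isSplit_of_invariant D w sq hinv).nonempty_iso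
  obtain ⟨k, hk⟩ := exists_localSect_eq (𝟙 S) U i' hg (T := T) T.hom (Category.comp_id _) (val D c) (isCompat_val D c)
  refine ⟨pieceOver (𝟙 S) U, T, pieceMap (𝟙 S) U i', 𝟙 T, k, t, ?_, rfl, val_injective D ?_⟩
  · exact inferInstanceAs (Etale (U.hom ≫ 𝟙 S))
  · rw [val_pieceMap, hk, CategoryTheory.Functor.map_id, Category.id_comp]

/-- Open coverings universally lift pairs of points. -/
theorem univSSubtrusive_sigma {ι : Type u} (Z : ι → Scheme.{u}) (j : ∀ k, Z k ⟶ X) [∀ k, IsOpenImmersion (j k)]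
    (hj : ∀ x, ∃ k z, j k z = x) : Subtr.UnivSSubtrusive (Sigma.desc j) := by
  haveI : Flat (Sigma.desc j) := IsZariskiLocalAtSource.sigmaDesc fun k => inferInstance
  haveI : Surjective (Sigma.desc j) := ⟨fun x => by
    obtain ⟨k, z, rfl⟩ := hj x
    exact ⟨Sigma.ι Z k z, by rw [← Scheme.Hom.comp_apply, Sigma.ι_desc]⟩⟩
  exact univSSubtrusive_of_flat _

/-- Effectivity for affine schemes. -/
theorem exists_effective_affine [IsAffine X] [IsAffine S] (g : X ⟶ S) (hg : Subtr.UnivSSubtrusive g)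
    (D : Desc.SchDD g) [QuasiCompact D.obj.hom] [IsSeparated D.obj.hom] [Etale D.obj.hom] :
    ∃ U : Over S, IsSeparated U.hom ∧ Etale U.hom ∧ QuasiCompact U.hom ∧ Nonempty ((Desc.toDD g).obj U ≅ D) := by
  obtain ⟨I, _, _, Φ', c', hc', e, hI, hfp⟩ := exists_fp_limit g
  haveI : ∀ i, IsAffine (Φ'.obj i).left := hI
  -- the limit with the given scheme as cone point
  let Φ : I ⥤ Scheme.{u} := Φ' ⋙ Over.forget S
  let el : c'.pt.left ≅ X := (Over.forget S).mapIso e
  let c : Cone Φ :=
    { pt := X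
      π := { app := fun i => el.inv ≫ (c'.π.app i).left
             naturality := fun i j f => by
               refine (Category.id_comp _).trans ?_
               rw [Category.assoc]
               exact congrArg (el.inv ≫ ·) (((Over.forget S).mapCone c').w f).symm } }
  have hc : IsLimit c := IsLimit.ofIsoLimit hc' (Cone.ext el fun i => (el.hom_inv_id_assoc _).symm)
  haveI : ∀ i, IsAffine (Φ.obj i) := hI
  haveI : ∀ i j (k : i ⟶ j), IsAffineHom (Φ.map k) := fun _ _ _ => isAffineHom_of_isAffine _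
  haveI : ∀ i, CompactSpace (Φ.obj i) := fun _ => inferInstance
  haveI : ∀ i, QuasiSeparatedSpace (Φ.obj i) := fun _ => inferInstance
  let τ : ∀ i, Φ.obj i ⟶ S := fun i => (Φ'.obj i).hom
  have hτ : ∀ {i j : I} (k : i ⟶ j), Φ.map k ≫ τ j = τ i := fun k => Over.w (Φ'.map k)
  have hσ : ∀ i, c.π.app i ≫ τ i = g := fun i => by
    show (el.inv ≫ (c'.π.app i).left) ≫ (Φ'.obj i).hom = g
    have h1 : (c'.π.app i).left ≫ (Φ'.obj i).hom = c'.pt.hom := Over.w (c'.π.app i)
    rw [Category.assoc, h1]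
    exact Over.w e.inv
  refine exists_effective_of_limit hc τ hτ hσ D fun i D' _ _ _ => ?_
  haveI : LocallyOfFinitePresentation (τ i) := hfp i
  haveI : QuasiCompact (τ i) := quasiCompact_of_compactSpace _
  have hi : Subtr.UnivSSubtrusive (τ i) := univSSubtrusive_of_comp (c.π.app i) (τ i) (by rw [hσ i]; exact hg)
  obtain ⟨U, h1, h2, h3, h4⟩ := exists_effective_of_univSSubtrusive_fp (τ i) hi D'
  exact ⟨U, h1, h2, h3 inferInstance, h4⟩

/-- Quasi-compact separated etale descent data along quasi-compact subtrusive morphisms have etale charts. -/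
theorem hasCharts_of_univSSubtrusive_qc (g : X ⟶ S) [QuasiCompact g] (hg : Subtr.UnivSSubtrusive g)
    (D : Desc.SchDD g) [QuasiCompact D.obj.hom] [IsSeparated D.obj.hom] [Etale D.obj.hom] : HasCharts D := by
  refine hasCharts_of_local D fun s => ?_
  obtain ⟨V, hV, hsV, -⟩ := exists_isAffineOpen_mem_and_subset (x := s) (U := ⊤) trivial
  have : IsAffine V.toScheme := hV
  refine ⟨V, V.ι, inferInstance, ⟨⟨s, hsV⟩, rfl⟩, ?_⟩
  let gV := pullback.snd g V.ι
  have hgV : Subtr.UnivSSubtrusive gV := MorphismProperty.pullback_snd _ _ hg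
  haveI : CompactSpace ↥(pullback g V.ι) := QuasiCompact.compactSpace_of_compactSpace gV
  let 𝒰 := (pullback g V.ι).affineCover.finiteSubcover
  haveI : ∀ k, IsAffine (𝒰.X k) := fun k => by dsimp [𝒰]; infer_instance
  let κ : Type u := ULift.{u} (Fin (Finite.exists_equiv_fin 𝒰.I₀).choose)
  let eκ : κ ≃ 𝒰.I₀ := Equiv.ulift.trans (Finite.exists_equiv_fin 𝒰.I₀).choose_spec.some.symm
  let W : Scheme.{u} := ∐ fun k : κ => 𝒰.X (eκ k)
  let h : W ⟶ pullback g V.ι := Sigma.desc fun k : κ => 𝒰.f (eκ k)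
  haveI : IsAffine W := inferInstanceAs (IsAffine (∐ fun k : κ => 𝒰.X (eκ k)))
  have hh : Subtr.UnivSSubtrusive h := univSSubtrusive_sigma _ _ fun x => by
    obtain ⟨k, z, hz⟩ := 𝒰.exists_eq x
    exact ⟨eκ.symm k, by rw [Equiv.apply_symm_apply]; exact ⟨z, hz⟩⟩
  have hq : Subtr.UnivSSubtrusive (h ≫ gV) := MorphismProperty.comp_mem _ _ _ hh hgV
  have hD : QuasiCompact (pullback.snd (baseDD V.ι D).obj.hom h) :=
    MorphismProperty.pullback_snd _ _ (inferInstanceAs (QuasiCompact (pullback.snd D.obj.hom (pullback.fst g V.ι))))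
  haveI : QuasiCompact (pullDD h rfl (baseDD V.ι D)).obj.hom := hD
  haveI : IsSeparated (pullDD h rfl (baseDD V.ι D)).obj.hom :=
    inferInstanceAs (IsSeparated (pullback.snd (baseDD V.ι D).obj.hom h))
  haveI : Etale (pullDD h rfl (baseDD V.ι D)).obj.hom :=
    inferInstanceAs (Etale (pullback.snd (baseDD V.ι D).obj.hom h))
  haveI : QuasiCompact (h ≫ gV) := quasiCompact_of_compactSpace _
  have hsub := DescLib.univSubmersive_of_univSSubtrusive (h ≫ gV) hq
  obtain ⟨U, -, hU, -, ⟨i⟩⟩ := exists_effective_affine (h ≫ gV) hq (pullDD h rfl (baseDD V.ι D))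
  exact hasCharts_of_refine h rfl _ hsub (hasCharts_of_iso hsub U i)

/-- Quasi-compact separated etale descent data along quasi-compact subtrusive morphisms are effective. -/
theorem exists_effective_of_univSSubtrusive_qc (g : X ⟶ S) [QuasiCompact g] (hg : Subtr.UnivSSubtrusive g)
    (D : Desc.SchDD g) [QuasiCompact D.obj.hom] [IsSeparated D.obj.hom] [Etale D.obj.hom] :
    ∃ U : Over S, QuasiCompact U.hom ∧ IsSeparated U.hom ∧ Etale U.hom ∧ Nonempty ((Desc.toDD g).obj U ≅ D) := by
  obtain ⟨U, h1, h2, h3, h4⟩ := exists_effective_of_hasCharts D (DescLib.univSubmersive_of_univSSubtrusive g hg)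
    (hasCharts_of_univSSubtrusive_qc g hg D)
  exact ⟨U, h3 inferInstance inferInstance, h1, h2, h4⟩

end Groth.Agent.EtDescX
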