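import Groth.Agent.HTopCov.Points
import Groth.Agent.DescLib.SubtrLim
import Groth.Agent.DescLib.SubtrVal
import Mathlib.CategoryTheory.Limits.Constructions.Over.Connected

/-!
# Valuative lifting passes to cofiltered limits of affine schemes
-/

universe w u

set_option autoImplicit false
set_option backward.isDefEq.respectTransparency false
set_option backward.isDefEq.respectTransparency.types false

open CategoryTheory CategoryTheory.Limits AlgebraicGeometry IsLocalRing

namespace Groth.Agent.EtDescX

variable {Y : Scheme.{u}} [IsAffine Y] {I : Type u} [SmallCategory I] [IsCofiltered I] (D : I ⥤ Over Y)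
  [∀ i, IsAffine (D.obj i).left] (c : Cone D) (hc : IsLimit ((Over.forget Y).mapCone c))

include hc in
/-- If every member of a cofiltered system of affine schemes has the valuative lifting property over the
base, so does the limit. -/
theorem valLift_limit
    (h : ∀ i (V : CommRingCat.{u}) [IsDomain V] [ValuationRing V] (g : Spec V ⟶ Y),
      ∃ (W : CommRingCat.{u}) (_ : IsDomain W) (_ : ValuationRing W) (φ : V ⟶ W) (l : Spec W ⟶ (D.obj i).left),
        HTop.IsExtVal V W φ ∧ l ≫ (D.obj i).hom = Spec.map φ ≫ g)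
    (V : CommRingCat.{u}) [IsDomain V] [ValuationRing V] (g : Spec V ⟶ Y) :
    ∃ (W : CommRingCat.{u}) (_ : IsDomain W) (_ : ValuationRing W) (φ : V ⟶ W) (l : Spec W ⟶ c.pt.left),
      HTop.IsExtVal V W φ ∧ l ≫ c.pt.hom = Spec.map φ ≫ g := by
  haveI : IsConnected I := IsCofiltered.isConnected I
  have hc' : IsLimit c := isLimitOfReflects (Over.forget Y) hc
  let P : Cone (D ⋙ Over.pullback g ⋙ Over.forget (Spec V)) :=
    (Over.forget (Spec V)).mapCone ((Over.pullback g).mapCone c)
  have hP : IsLimit P := isLimitOfPreserves (Over.forget (Spec V)) (isLimitOfPreserves (Over.pullback g) hc')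
  haveI : ∀ i, IsAffine ((D ⋙ Over.pullback g ⋙ Over.forget (Spec V)).obj i) := fun i =>
    inferInstanceAs (IsAffine (pullback (D.obj i).hom g))
  haveI : ∀ {i j : I} (a : i ⟶ j), IsAffineHom ((D ⋙ Over.pullback g ⋙ Over.forget (Spec V)).map a) :=
    fun {i j} a => inferInstance
  obtain ⟨i₀⟩ := IsCofiltered.nonempty (C := I)
  obtain ⟨s, s', hs, he, he'⟩ := DescLib.exists_lift_pair hP i₀ (Y := fun _ => Spec V)
    (fun i => pullback.snd (D.obj i).hom g) (fun _ _ _ => 𝟙 _)
    (fun i j a => (Over.w ((Over.pullback g).map (D.map a))).trans (Category.comp_id _).symm)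
    (fun _ => closedPoint V) (fun _ => (⊥ : PrimeSpectrum V)) (fun _ _ _ => rfl) (fun _ _ _ => rfl)
    (fun i _ => by
      obtain ⟨W, hW, hW', φ, l, hφ, hl⟩ := h i V g
      haveI := hφ.2
      let m : Spec W ⟶ pullback (D.obj i).hom g := pullback.lift l (Spec.map φ) hl
      refine ⟨m (closedPoint W), m (⊥ : PrimeSpectrum W), (specializes_closedPoint _).map m.continuous, ?_, ?_⟩
      · show (pullback.lift l (Spec.map φ) hl ≫ pullback.snd (D.obj i).hom g) (closedPoint W) = closedPoint V
        rw [pullback.lift_snd]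
        exact IsLocalRing.comap_closedPoint φ.hom
      · show (pullback.lift l (Spec.map φ) hl ≫ pullback.snd (D.obj i).hom g) (⊥ : PrimeSpectrum W) = (⊥ : PrimeSpectrum V)
        rw [pullback.lift_snd]
        exact PrimeSpectrum.ext ((RingHom.injective_iff_ker_eq_bot φ.hom).1 hφ.1))
  have hπ : P.π.app i₀ ≫ pullback.snd (D.obj i₀).hom g = pullback.snd c.pt.hom g :=
    Over.w ((Over.pullback g).map (c.π.app i₀))
  obtain ⟨W, hW, hW', φ, l, hφ, hl, -⟩ := HTopCov.exists_ext_of_points (pullback.snd c.pt.hom g) hs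
    (by rw [← hπ, Scheme.Hom.comp_apply]; exact he' i₀) (by rw [← hπ, Scheme.Hom.comp_apply]; exact he i₀)
  exact ⟨W, hW, hW', φ, l ≫ pullback.fst c.pt.hom g, hφ,
    by rw [Category.assoc, pullback.condition, ← Category.assoc, hl]⟩

end Groth.Agent.EtDescX
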