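import Groth.Agent.EtDescX.OverFin
import Groth.Agent.EtDescX.FpLimit
import Groth.Agent.HTopCov.Spec

/-!
# Limit preserving h sheaves satisfy descent along V coverings
-/

universe w u

set_option autoImplicit false
set_option backward.isDefEq.respectTransparency false
set_option backward.isDefEq.respectTransparency.types false

open CategoryTheory CategoryTheory.Limits AlgebraicGeometry Opposite

namespace Groth.Agent.EtDescX

variable {S : Scheme.{u}} (F : (Over S)ᵒᵖ ⥤ Type w)

/-- The limit preservation hypothesis. -/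
def IsLimPreserving : Prop :=
  ∀ (I : Type u) [SmallCategory I] [IsCofiltered I] (D : I ⥤ Over S),
    (∀ i, IsAffine (D.obj i).left) → ∀ (c : Cone D), IsLimit ((Over.forget S).mapCone c) →
      Nonempty (IsColimit (F.mapCocone c.op))

section pairs

variable {U : Scheme.{u}} {I : Type u} [SmallCategory I] (D : I ⥤ Over U)

/-- The map of fibre squares. -/
noncomputable def sqMap {A B : Over U} (h : A ⟶ B) : pullback A.hom A.hom ⟶ pullback B.hom B.hom :=
  pullback.lift (pullback.fst A.hom A.hom ≫ h.left) (pullback.snd A.hom A.hom ≫ h.left) (by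
    rw [Category.assoc, Category.assoc, Over.w, pullback.condition])

@[reassoc (attr := simp)]
theorem sqMap_fst {A B : Over U} (h : A ⟶ B) :
    sqMap h ≫ pullback.fst B.hom B.hom = pullback.fst A.hom A.hom ≫ h.left := pullback.lift_fst _ _ _

@[reassoc (attr := simp)]
theorem sqMap_snd {A B : Over U} (h : A ⟶ B) :
    sqMap h ≫ pullback.snd B.hom B.hom = pullback.snd A.hom A.hom ≫ h.left := pullback.lift_snd _ _ _

theorem sqMap_id (A : Over U) : sqMap (𝟙 A) = 𝟙 _ := by apply pullback.hom_ext <;> simp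

theorem sqMap_comp {A B C : Over U} (h : A ⟶ B) (k : B ⟶ C) : sqMap (h ≫ k) = sqMap h ≫ sqMap k := by
  apply pullback.hom_ext <;> simp

/-- The fibre square as an object over the base. -/
noncomputable abbrev sqObj (A : Over U) : Over U := Over.mk (pullback.fst A.hom A.hom ≫ A.hom)

/-- The map of fibre squares over the base. -/
noncomputable def sqHom {A B : Over U} (h : A ⟶ B) : sqObj A ⟶ sqObj B :=
  Over.homMk (sqMap h) (by
    show sqMap h ≫ pullback.fst _ _ ≫ _ = _
    rw [sqMap_fst_assoc, Over.w]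
    rfl)

/-- The system of fibre squares. -/
noncomputable def pairD : I ⥤ Over U where
  obj i := sqObj (D.obj i)
  map a := sqHom (D.map a)
  map_id i := Over.OverMorphism.ext (by show sqMap _ = 𝟙 _; rw [D.map_id, sqMap_id])
  map_comp a b := Over.OverMorphism.ext (by show sqMap _ = sqMap _ ≫ sqMap _; rw [D.map_comp, sqMap_comp])

variable {D} (c : Cone D)

/-- The cone on the fibre squares. -/
noncomputable def pairCone : Cone (pairD D) where
  pt := sqObj c.pt
  π :=
    { app := fun i => sqHom (c.π.app i)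
      naturality := fun i j a => Over.OverMorphism.ext (by
        show 𝟙 _ ≫ sqMap _ = sqMap _ ≫ sqMap _
        rw [Category.id_comp, ← sqMap_comp, c.w]) }

/-- The fibre square of a cofiltered limit is the limit of the fibre squares. -/
noncomputable def isLimitPairCone [IsCofiltered I] (hc : IsLimit ((Over.forget U).mapCone c)) :
    IsLimit ((Over.forget U).mapCone (pairCone c)) := by
  let i₀ := (IsCofiltered.nonempty (C := I)).some
  let leg : ∀ (s : Cone (pairD D ⋙ Over.forget U)) (sd : Bool), Cone (D ⋙ Over.forget U) := fun s sd =>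
    { pt := s.pt
      π :=
        { app := fun i => s.π.app i ≫ cond sd (pullback.fst (D.obj i).hom (D.obj i).hom) (pullback.snd (D.obj i).hom (D.obj i).hom)
          naturality := fun i j a => by
            have h := s.w a
            cases sd <;>
            · show 𝟙 _ ≫ _ = (_ ≫ _) ≫ (D.map a).left
              rw [Category.id_comp, ← h]
              simp [pairD, sqHom] } }
  refine IsLimit.mk (fun s => pullback.lift (hc.lift (leg s true)) (hc.lift (leg s false)) ?_) ?_ ?_
  · have e1 : hc.lift (leg s true) ≫ (c.π.app i₀).left = (leg s true).π.app i₀ := hc.fac (leg s true) i₀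
    have e2 : hc.lift (leg s false) ≫ (c.π.app i₀).left = (leg s false).π.app i₀ := hc.fac (leg s false) i₀
    rw [show c.pt.hom = (c.π.app i₀).left ≫ (D.obj i₀).hom from (Over.w (c.π.app i₀)).symm, ← Category.assoc,
      ← Category.assoc, e1, e2]
    simp [leg, pullback.condition]
  · intro s i
    show pullback.lift _ _ _ ≫ sqMap _ = s.π.app i
    apply pullback.hom_ext
    · rw [Category.assoc, sqMap_fst, pullback.lift_fst_assoc]
      exact hc.fac (leg s true) i
    · rw [Category.assoc, sqMap_snd, pullback.lift_snd_assoc]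
      exact hc.fac (leg s false) i
  · intro s m hm
    apply pullback.hom_ext
    · rw [pullback.lift_fst]
      refine hc.hom_ext fun i => ?_
      rw [hc.fac (leg s true) i]
      show (m ≫ pullback.fst _ _) ≫ (c.π.app i).left = s.π.app i ≫ _
      rw [← hm i, Category.assoc]
      show _ = (m ≫ sqMap _) ≫ pullback.fst _ _
      rw [Category.assoc, sqMap_fst]
    · rw [pullback.lift_snd]
      refine hc.hom_ext fun i => ?_
      rw [hc.fac (leg s false) i]
      show (m ≫ pullback.snd _ _) ≫ (c.π.app i).left = s.π.app i ≫ _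
      rw [← hm i, Category.assoc]
      show _ = (m ≫ sqMap _) ≫ pullback.snd _ _
      rw [Category.assoc, sqMap_snd]

end pairs

theorem isSheafFor_singleton_standardV (h1 : HTop.IsHSheafOver S F) (h2 : IsLimPreserving F) {U V : Over S}
    (q : V ⟶ U) [IsAffine U.left] [IsAffine V.left]
    (hq : HTop.IsStandardV (PreZeroHypercover.singleton.{0} q.left)) :
    Presieve.IsSheafFor F (Presieve.singleton q) := by
  obtain ⟨I, _, _, D, c, hc, e, haff, hfp⟩ := exists_fp_limit q.left
  have hcov : ∀ i, HTop.IsHCover (PreZeroHypercover.singleton.{0} (D.obj i).hom) := fun i =>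
    ⟨fun _ => hfp i, HTopCov.isVCover_of_standardV ⟨inferInstance, inferInstanceAs (Finite PUnit), fun _ => haff i,
      fun W _ _ g => by
        obtain ⟨W', hW, hW', φ, hφ, j, l, hl⟩ := hq.lift W g
        exact ⟨W', hW, hW', φ, hφ, PUnit.unit, l ≫ (e.inv ≫ c.π.app i).left,
          (Category.assoc _ _ _).trans ((congrArg (l ≫ ·) (Over.w (e.inv ≫ c.π.app i))).trans hl)⟩⟩⟩
  let M := Over.map U.hom
  let qi : ∀ i, M.obj (D.obj i) ⟶ U := fun i => Over.homMk (D.obj i).hom
  have hqi : ∀ {i j : I} (a : i ⟶ j), M.map (D.map a) ≫ qi j = qi i := fun a =>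
    Over.OverMorphism.ext (Over.w (D.map a))
  have hsh : ∀ i, Presieve.IsSheafFor F (Presieve.singleton (qi i)) := fun i => by
    refine h1 _ ?_
    rw [Presieve.map_singleton]
    have := (HTop.presieve₀_mem_hPrecoverage_iff _).mpr (hcov i)
    rwa [PreZeroHypercover.presieve₀_singleton] at this
  obtain ⟨hcol⟩ := h2 I (D ⋙ M) (fun i => haff i) (M.mapCone c) hc
  haveI : ∀ i, IsAffine (D.obj i).left := haff
  obtain ⟨hcol2⟩ := h2 I (pairD D ⋙ M) (fun i => inferInstanceAs (IsAffine (pullback (D.obj i).hom (D.obj i).hom)))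
    (M.mapCone (pairCone c)) (isLimitPairCone c hc)
  let ε : M.obj c.pt ≅ V := M.mapIso e ≪≫ Over.isoMk (Iso.refl _) (by simp [M])
  have hε : ε.hom ≫ q = Over.homMk c.pt.hom := Over.OverMorphism.ext (by
    show (e.hom.left ≫ 𝟙 _) ≫ q.left = c.pt.hom
    rw [Category.comp_id]
    exact Over.w e.hom)
  rw [Presieve.isSheafFor_singleton]
  intro x hx
  obtain ⟨i, xi, hxi⟩ := Types.jointly_surjective _ hcol (F.map ε.hom.op x)
  let pr₁ : ∀ k, M.obj ((pairD D).obj k) ⟶ M.obj (D.obj k) := fun k =>
    M.map (Over.homMk (pullback.fst (D.obj k).hom (D.obj k).hom))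
  let pr₂ : ∀ k, M.obj ((pairD D).obj k) ⟶ M.obj (D.obj k) := fun k =>
    M.map (Over.homMk (pullback.snd (D.obj k).hom (D.obj k).hom) pullback.condition.symm)
  let P := M.obj (pairCone c).pt
  let p₁ : P ⟶ M.obj c.pt := M.map (Over.homMk (pullback.fst c.pt.hom c.pt.hom))
  let p₂ : P ⟶ M.obj c.pt := M.map (Over.homMk (pullback.snd c.pt.hom c.pt.hom) pullback.condition.symm)
  have hp : (p₁ ≫ ε.hom) ≫ q = (p₂ ≫ ε.hom) ≫ q := by
    rw [Category.assoc, Category.assoc, hε]
    exact Over.OverMorphism.ext pullback.condition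
  have k1 : M.map ((pairCone c).π.app i.unop) ≫ pr₁ i.unop = p₁ ≫ M.map (c.π.app i.unop) :=
    Over.OverMorphism.ext (pullback.lift_fst _ _ _)
  have k2 : M.map ((pairCone c).π.app i.unop) ≫ pr₂ i.unop = p₂ ≫ M.map (c.π.app i.unop) :=
    Over.OverMorphism.ext (pullback.lift_snd _ _ _)
  let res : ∀ {A B : Over S}, (A ⟶ B) → F.obj (op B) → F.obj (op A) := fun f z => F.map f.op z
  have rc : ∀ {A B C : Over S} (f : A ⟶ B) (g : B ⟶ C) (z : F.obj (op C)), res (f ≫ g) z = res f (res g z) :=
    fun f g z => by simp [res]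
  let xi₀ : F.obj (op (M.obj (D.obj i.unop))) := xi
  have hxi' : res (M.map (c.π.app i.unop)) xi₀ = res ε.hom x := hxi
  have hstage : res (M.map ((pairCone c).π.app i.unop)) (res (pr₁ i.unop) xi₀) =
      res (M.map ((pairCone c).π.app i.unop)) (res (pr₂ i.unop) xi₀) := by
    rw [← rc, ← rc, k1, k2, rc, rc]
    erw [hxi']
    rw [← rc, ← rc]
    exact hx _ _ hp
  obtain ⟨j, a, ha⟩ := (Types.FilteredColimit.isColimit_eq_iff' hcol2 (i := i) (res (pr₁ i.unop) xi₀)
    (res (pr₂ i.unop) xi₀)).1 hstage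
  have ha₀ : res (M.map ((pairD D).map a.unop)) (res (pr₁ i.unop) xi₀) =
      res (M.map ((pairD D).map a.unop)) (res (pr₂ i.unop) xi₀) := ha
  let xj : F.obj (op (M.obj (D.obj j.unop))) := res (M.map (D.map a.unop)) xi₀
  have ha' : res (pr₁ j.unop) xj = res (pr₂ j.unop) xj := by
    have s1 : pr₁ j.unop ≫ M.map (D.map a.unop) = M.map ((pairD D).map a.unop) ≫ pr₁ i.unop :=
      Over.OverMorphism.ext (pullback.lift_fst _ _ _).symm
    have s2 : pr₂ j.unop ≫ M.map (D.map a.unop) = M.map ((pairD D).map a.unop) ≫ pr₂ i.unop :=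
      Over.OverMorphism.ext (pullback.lift_snd _ _ _).symm
    simp only [xj, ← rc, s1, s2]
    rw [rc, rc, ha₀]
  obtain ⟨y, hy, -⟩ := Presieve.isSheafFor_singleton.1 (hsh j.unop) xj fun {Z} r₁ r₂ hr => by
    have hr' : r₁.left ≫ (D.obj j.unop).hom = r₂.left ≫ (D.obj j.unop).hom := congrArg CommaMorphism.left hr
    let r : Z ⟶ M.obj ((pairD D).obj j.unop) := Over.homMk (pullback.lift r₁.left r₂.left hr') (by
      show pullback.lift r₁.left r₂.left hr' ≫ (pullback.fst _ _ ≫ (D.obj j.unop).hom) ≫ U.hom = Z.hom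
      rw [Category.assoc, pullback.lift_fst_assoc]
      exact Over.w r₁)
    have e1 : r₁ = r ≫ pr₁ j.unop := Over.OverMorphism.ext (pullback.lift_fst _ _ _).symm
    have e2 : r₂ = r ≫ pr₂ j.unop := Over.OverMorphism.ext (pullback.lift_snd _ _ _).symm
    show res r₁ xj = res r₂ xj
    rw [e1, e2, rc, rc, ha']
  have hy₀ : res (qi j.unop) y = xj := hy
  have hfac : M.map (c.π.app j.unop) ≫ qi j.unop = ε.hom ≫ q :=
    (Over.OverMorphism.ext (Over.w (c.π.app j.unop))).trans hε.symm
  have hca : M.map (c.π.app j.unop) ≫ M.map (D.map a.unop) = M.map (c.π.app i.unop) := by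
    rw [← M.map_comp, c.w]
  refine ⟨y, ?_, fun y' hy' => ?_⟩
  · have hinj : Function.Injective (F.map ε.hom.op) := injective_of_mono _
    refine hinj ?_
    show res ε.hom (res q y) = res ε.hom x
    rw [← rc, ← hfac, rc, hy₀, ← rc, hca]
    exact hxi'
  · -- uniqueness
    have hy'₀ : res q y' = x := hy'
    have hxy : res (M.map (c.π.app j.unop)) (res (qi j.unop) y') =
        res (M.map (c.π.app j.unop)) (res (qi j.unop) y) := by
      rw [← rc, hfac, rc, hy'₀, hy₀, ← rc, hca]
      exact hxi'.symm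
    obtain ⟨k, b, hb⟩ := (Types.FilteredColimit.isColimit_eq_iff' hcol (i := j) (res (qi j.unop) y')
      (res (qi j.unop) y)).1 hxy
    have hb₀ : res (M.map (D.map b.unop)) (res (qi j.unop) y') = res (M.map (D.map b.unop)) (res (qi j.unop) y) := hb
    refine Presieve.isSeparatedFor_singleton.1 (hsh k.unop).isSeparatedFor ?_
    show res (qi k.unop) y' = res (qi k.unop) y
    rw [← hqi b.unop, rc, rc, hb₀]

/-- Limit preserving h sheaves on schemes over `S` satisfy descent along V coverings. -/
theorem isVSheafOver_of_limPreserving (h1 : HTop.IsHSheafOver S F) (h2 : IsLimPreserving F) :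
    HTop.IsVSheafOver S F := by
  intro X R hR
  obtain ⟨E, hE, he⟩ := PreZeroHypercoverFamily.mem_precoverage_iff.mp hR
  have hz := zariski_le_finOver h1
  refine isSheafFor_of_mem_finOver R ?_
  rw [he]
  refine HTopCov.sieve₀_mem_of_refines hz E fun W => ?_
  obtain ⟨G, hG, hr⟩ := hE W
  refine ⟨G, ?_, hr⟩
  haveI := hG.finite_index
  haveI := hG.isAffine
  obtain ⟨n, ⟨ν⟩⟩ := Finite.exists_equiv_fin G.I₀
  let G' := G.restrictIndex ((Equiv.ulift.{u}).trans ν.symm)
  have hG' := HTopCov.isStandardV_restrictIndex hG ((Equiv.ulift.{u}).trans ν.symm)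
  suffices G'.sieve₀ ∈ finOver F _ by
    show Sieve.generate G.presieve₀ ∈ _
    rwa [← PreZeroHypercover.presieve₀_restrictIndex_equiv G ((Equiv.ulift.{u}).trans ν.symm)]
  refine family_mem_finOver hz G' (singleton_mem_finOver (isSheaf_zariski_over h1) _ fun U V g q q' hU hsq => ?_)
  haveI := hG'.finite_index
  haveI : ∀ i, IsAffine (G'.X i) := hG'.isAffine_obj
  haveI := hU
  haveI : IsAffine V.left := .of_isIso hsq.isoPullback.hom
  refine isSheafFor_singleton_standardV F h1 h2 q ⟨hU, inferInstanceAs (Finite PUnit),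
    fun _ => inferInstanceAs (IsAffine V.left), fun V' _ _ g₀ => ?_⟩
  obtain ⟨W', hW, hW', φ, hφ, j, l, hl⟩ := hG'.lift V' (g₀ ≫ g)
  refine ⟨W', hW, hW', φ, hφ, PUnit.unit, hsq.lift (Spec.map φ ≫ g₀) (l ≫ Sigma.ι G'.X j) ?_, hsq.lift_fst _ _ _⟩
  rw [Category.assoc, Category.assoc, Sigma.ι_desc, hl]

end Groth.Agent.EtDescX
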